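import Cfsg.Agent.Lib.PrimeOrderSp.Transfer
import Cfsg.Agent.Lib.Classical.SympOrder

/-!
# `spGL` and the matrix symplectic group
-/

set_option autoImplicit false

namespace CfsgLib.PrimeOrderSp

open Matrix CfsgLib.Geometry

universe u

variable {F : Type u} [Field F] {d : ℕ}

local notation "V" => (Fin d ⊕ Fin d → F)
local notation "GLd" => GL (Fin d ⊕ Fin d) F

theorem mem_spGL_iff' {g : GLd} : g ∈ Cfsg.spGL d F ↔
    (g : Matrix (Fin d ⊕ Fin d) (Fin d ⊕ Fin d) F) ∈ Matrix.symplecticGroup (Fin d) F :=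
  (mem_sp_iff d F _).symm

/-- The inclusion of the matrix symplectic group in `GL`. -/
def spToGL (F : Type u) [Field F] (d : ℕ) :
    Matrix.symplecticGroup (Fin d) F →* GL (Fin d ⊕ Fin d) F :=
  (Matrix.symplecticGroup (Fin d) F).subtype.toHomUnits

@[simp] theorem spToGL_val (x : Matrix.symplecticGroup (Fin d) F) :
    ((spToGL F d x : GLd) : Matrix (Fin d ⊕ Fin d) (Fin d ⊕ Fin d) F) = x := rfl

theorem spToGL_injective : Function.Injective (spToGL F d) := fun x y h =>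
  Subtype.ext (congrArg Units.val h :)

theorem spToGL_mem (x : Matrix.symplecticGroup (Fin d) F) : spToGL F d x ∈ Cfsg.spGL d F :=
  mem_spGL_iff'.2 x.2

theorem exists_spToGL {g : GLd} (hg : g ∈ Cfsg.spGL d F) : ∃ x, spToGL F d x = g :=
  ⟨⟨_, mem_spGL_iff'.1 hg⟩, Units.ext rfl⟩

theorem card_spGL : Nat.card (Cfsg.spGL d F) = Nat.card (Matrix.symplecticGroup (Fin d) F) :=
  (Nat.card_congr (Equiv.ofBijective (fun x => (⟨spToGL F d x, spToGL_mem x⟩ : Cfsg.spGL d F))
    ⟨fun x y h => spToGL_injective (congrArg Subtype.val h), fun g => by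
      obtain ⟨x, hx⟩ := exists_spToGL g.2
      exact ⟨x, Subtype.ext hx⟩⟩)).symm

theorem toLin'_mul_apply (g h : GLd) (v : V) :
    Matrix.toLin' ((g * h : GLd) : Matrix (Fin d ⊕ Fin d) (Fin d ⊕ Fin d) F) v =
      Matrix.toLin' (g : Matrix (Fin d ⊕ Fin d) (Fin d ⊕ Fin d) F)
        (Matrix.toLin' (h : Matrix (Fin d ⊕ Fin d) (Fin d ⊕ Fin d) F) v) := by
  rw [Units.val_mul, Matrix.toLin'_mul, LinearMap.comp_apply]

theorem toLin'_inv_apply (g : GLd) (v : V) :
    Matrix.toLin' (g : Matrix (Fin d ⊕ Fin d) (Fin d ⊕ Fin d) F)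
      (Matrix.toLin' ((g⁻¹ : GLd) : Matrix (Fin d ⊕ Fin d) (Fin d ⊕ Fin d) F) v) = v := by
  rw [← toLin'_mul_apply, mul_inv_cancel, Units.val_one, Matrix.toLin'_one, LinearMap.id_apply]

theorem toLin'_apply_inv (g : GLd) (v : V) :
    Matrix.toLin' ((g⁻¹ : GLd) : Matrix (Fin d ⊕ Fin d) (Fin d ⊕ Fin d) F)
      (Matrix.toLin' (g : Matrix (Fin d ⊕ Fin d) (Fin d ⊕ Fin d) F) v) = v := by
  rw [← toLin'_mul_apply, inv_mul_cancel, Units.val_one, Matrix.toLin'_one, LinearMap.id_apply]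

theorem spGL_iso {g : GLd} (hg : g ∈ Cfsg.spGL d F) (u v : V) :
    sympBilin d F (Matrix.toLin' (g : Matrix (Fin d ⊕ Fin d) (Fin d ⊕ Fin d) F) u)
      (Matrix.toLin' (g : Matrix (Fin d ⊕ Fin d) (Fin d ⊕ Fin d) F) v) = sympBilin d F u v :=
  hg u v

/-- An index times the order of a subgroup it contains divides the order of the group. -/
theorem relIndex_mul_dvd {G : Type*} [Group G] {N S : Subgroup G} {C : Type*} [Group C]
    (φ : C →* G) (hφ : Function.Injective φ) (hle : ∀ c, φ c ∈ N ⊓ S) :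
    N.relIndex S * Nat.card C ∣ Nat.card S := by
  have h1 : Nat.card C ∣ Nat.card (N ⊓ S : Subgroup G) :=
    Subgroup.card_dvd_of_injective (φ.codRestrict (N ⊓ S) hle) fun a b h => hφ (congrArg Subtype.val h)
  have h2 := Subgroup.relIndex_mul_relIndex (⊥ : Subgroup G) (N ⊓ S) S bot_le inf_le_right
  rw [Subgroup.relIndex_bot_left, Subgroup.relIndex_bot_left, Subgroup.inf_relIndex_right] at h2
  exact (mul_dvd_mul_left _ h1).trans (dvd_of_eq (by rw [← h2, mul_comm]))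

end CfsgLib.PrimeOrderSp
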