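import Cfsg.Agent.Lib.PrimeOrderSp.Model
import Cfsg.Agent.Lib.Geometry.StabCountSp

/-!
# Symplectic elements of prime order of prescribed type; the number of totally isotropic subspaces
-/

set_option autoImplicit false

namespace CfsgLib.PrimeOrderSp

open CfsgLib.Geometry CfsgLib.KnownB.PrimeOrder Polynomial

universe u

variable {F : Type u} [Field F]

theorem cast_ne_zero_of_prime_ne {p r : ℕ} [CharP F p] [Fact p.Prime] (hr : r.Prime) (hrp : r ≠ p) :
    (r : F) ≠ 0 := fun h =>
  hrp ((Nat.prime_dvd_prime_iff_eq (Fact.out : p.Prime) hr).1 ((CharP.cast_eq_zero_iff F p r).1 h)).symm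

theorem orderOf_card_pos [Fintype F] {r : ℕ} [Fact r.Prime] (hr : (r : F) ≠ 0) :
    0 < orderOf ((Fintype.card F : ℕ) : ZMod r) := by
  classical
  have h1 := card_factors (F := F) (r := r) hr
  rcases Nat.eq_zero_or_pos (orderOf ((Fintype.card F : ℕ) : ZMod r)) with h0 | h0
  · rw [h0, mul_zero] at h1
    have := (Fact.out : r.Prime).two_le
    omega
  · exact h0

theorem dvd_pow_sub_one_iff {r q k : ℕ} (hq : 0 < q) :
    r ∣ q ^ k - 1 ↔ orderOf ((q : ℕ) : ZMod r) ∣ k := by
  rw [← ZMod.natCast_eq_zero_iff, Nat.cast_sub (Nat.one_le_pow _ _ hq), Nat.cast_pow, Nat.cast_one,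
    sub_eq_zero, orderOf_dvd_iff_pow_eq_one]

section decomp

variable {V : Type*} [AddCommGroup V] [Module F V] [FiniteDimensional F V]

/-- An invariant totally isotropic subspace is a fixed part plus a multiple of `i`. -/
theorem ti_decomp [Fintype F] {B : LinearMap.BilinForm F V} (hA : B.IsAlt)
    (hnd : ∀ u, (∀ v, B u v = 0) → u = 0) {f : Module.End F V} (hf : ∀ u v, B (f u) (f v) = B u v)
    {r : ℕ} [Fact r.Prime] (hr : (r : F) ≠ 0) (hfr : f ^ r = 1) {W : Submodule F V} (hW : Inv f W)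
    (hTI : TI (σ := RingHom.id F) B W) :
    ∃ l j : ℕ, Module.finrank F W = l + j * orderOf ((Fintype.card F : ℕ) : ZMod r) ∧
      2 * l ≤ Module.finrank F (fixSp f) ∧
      Module.finrank F (W ⊓ movSp f : Submodule F V) = j * orderOf ((Fintype.card F : ℕ) : ZMod r) := by
  classical
  have h := isHerm_alt hA hnd
  have hk := (killed_movSp (f := f) hr hfr).mono (hW.inf inv_movSp) inf_le_right
  obtain ⟨j, hj⟩ := finrank_dvd (isSemisimple_of_pow hr hfr) hk
  rw [mul_comm] at hj
  exact ⟨_, j, by rw [split_inv hr hfr hW, hj], two_mul_ti_le h (nondeg_fixSp hr hfr h hf) inf_le_right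
    (hTI.mono inf_le_left), hj⟩

end decomp

variable [Fintype F] {d : ℕ}

/-- Fixed space `2 e`, `N` constituents of `u` distinct types, only one of them repeated. -/
theorem exists_sp_type {e N u r : ℕ} [Fact r.Prime] (hr : (r : F) ≠ 0) (hr2 : r ≠ 2)
    (hev : Even (orderOf ((Fintype.card F : ℕ) : ZMod r))) (hu0 : 0 < u)
    (hut : u ≤ (r - 1) / orderOf ((Fintype.card F : ℕ) : ZMod r)) (huN : u ≤ N)
    (hdim : 2 * e + N * orderOf ((Fintype.card F : ℕ) : ZMod r) = 2 * d) :
    ∃ x : Matrix.symplecticGroup (Fin d) F,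
      ((x ^ r : Matrix.symplecticGroup (Fin d) F) : Matrix (Fin d ⊕ Fin d) (Fin d ⊕ Fin d) F) =
        (1 : F) • (1 : Matrix (Fin d ⊕ Fin d) (Fin d ⊕ Fin d) F) ∧
      Module.finrank F (fixSp (Matrix.toLin' (x : Matrix (Fin d ⊕ Fin d) (Fin d ⊕ Fin d) F))) = 2 * e ∧
      ∀ W, W ≤ movSp (Matrix.toLin' (x : Matrix (Fin d ⊕ Fin d) (Fin d ⊕ Fin d) F)) →
        Inv (Matrix.toLin' (x : Matrix (Fin d ⊕ Fin d) (Fin d ⊕ Fin d) F)) W →
        TI (σ := RingHom.id F) (sympBilin d F) W →
        Module.finrank F W ≤ (N - u + 1) / 2 * orderOf ((Fintype.card F : ℕ) : ZMod r) := by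
  classical
  have hi := orderOf_card_pos (F := F) (r := r) hr
  obtain ⟨j, hj⟩ := hev
  have hcard := card_factors (F := F) (r := r) hr
  have ht : u ≤ (factors F r).card := by rwa [← hcard, Nat.mul_div_cancel _ hi] at hut
  let em : Fin u ↪ (factors F r) :=
    (Fin.castLEEmb ht).trans (factors F r).equivFin.symm.toEmbedding
  let P : Fin N → F[X] := fun k => if h : k.val < u then (em ⟨k, h⟩).1 else (em ⟨0, hu0⟩).1
  have hP : ∀ k, P k ∈ factors F r := fun k => by simp only [P]; split_ifs <;> exact Subtype.coe_prop _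
  obtain ⟨x, hx, hfix, hb⟩ := exists_sp_selfDual (d := d) (e := e) hr hr2 (j := j) (by omega)
    (by rw [hj, two_mul]) P hP (by rw [Fintype.card_fin, ← hdim, hj, two_mul j])
  refine ⟨x, hx, hfix, fun W h1 h2 h3 => (hb W h1 h2 h3).trans ?_⟩
  rw [hj, two_mul j]
  refine Nat.mul_le_mul_right _ ?_
  have h0 : ∀ Q ∈ factors F r, Q ≠ (em ⟨0, hu0⟩).1 → (Finset.univ.filter fun k => P k = Q).card / 2 = 0 := by
    intro Q _ hQ
    refine Nat.div_eq_of_lt (Nat.lt_succ_iff.2 (Finset.card_le_one.2 fun a ha b hb => ?_))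
    rw [Finset.mem_filter] at ha hb
    have key : ∀ k : Fin N, P k = Q → ∃ h : k.val < u, (em ⟨k, h⟩).1 = Q := fun k hk => by
      simp only [P] at hk
      split_ifs at hk with h
      · exact ⟨h, hk⟩
      · exact absurd hk.symm hQ
    obtain ⟨ha', ea⟩ := key a ha.2
    obtain ⟨hb', eb⟩ := key b hb.2
    exact Fin.ext (congrArg Fin.val (em.injective (Subtype.ext (ea.trans eb.symm))) :)
  rw [Finset.sum_eq_single_of_mem _ (em ⟨0, hu0⟩).2 h0]
  refine Nat.div_le_div_right ?_
  -- the repeated type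
  have hsub : (Finset.univ.filter fun k => P k = (em ⟨0, hu0⟩).1) ⊆
      (Finset.univ.filter fun k : Fin N => k.val = 0 ∨ u ≤ k.val) := by
    intro k hk
    rw [Finset.mem_filter] at hk ⊢
    refine ⟨hk.1, ?_⟩
    have hk' := hk.2
    simp only [P] at hk'
    split_ifs at hk' with h
    · exact Or.inl (congrArg Fin.val (em.injective (Subtype.ext hk')) :)
    · exact Or.inr (not_lt.1 h)
  refine (Finset.card_le_card hsub).trans ?_
  let g : Fin N → ℕ := fun k => if k.val = 0 then 0 else k.val - u + 1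
  refine (Finset.card_le_card_of_injOn (t := Finset.range (N - u + 1)) g (fun k hk => ?_)
    (fun a ha b hb hab => ?_)).trans (Finset.card_range _).le
  · simp only [Finset.coe_filter, Set.mem_setOf_eq, Finset.mem_univ, true_and] at hk
    simp only [g, Finset.coe_range, Set.mem_Iio]
    have := k.isLt
    split_ifs <;> omega
  · simp only [Finset.coe_filter, Set.mem_setOf_eq, Finset.mem_univ, true_and] at ha hb
    simp only [g] at hab
    refine Fin.ext ?_
    split_ifs at hab <;> omega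

/-- The number of totally isotropic `m`-spaces. -/
theorem card_ti_mul {m : ℕ} (hm : m ≤ d) :
    Nat.card {W : Submodule F (Fin d ⊕ Fin d → F) //
        Module.finrank F ↥W = m ∧ (∀ u ∈ W, ∀ v ∈ W, Cfsg.sympForm d F u v = 0)} *
      ∏ i ∈ Finset.range m, (Fintype.card F ^ (m - i) - 1) =
    ∏ i ∈ Finset.range m, (Fintype.card F ^ (2 * (d - i)) - 1) := by
  have h := StabCount.card_ti_subspaces (F := F) (m := d) (k := m) fun _ => True
  simp only [and_true] at h
  rw [StabCount.card_tiFam m, Nat.card_eq_fintype_card (α := F), Fin.prod_univ_eq_prod_range (fun i => Fintype.card F ^ m - Fintype.card F ^ i) m]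
    at h
  have e1 : ∀ a i : ℕ, i ≤ a → Fintype.card F ^ a - Fintype.card F ^ i =
      Fintype.card F ^ i * (Fintype.card F ^ (a - i) - 1) := fun a i hai => by
    rw [Nat.mul_sub, mul_one, ← pow_add, Nat.add_sub_cancel' hai]
  rw [Finset.prod_congr rfl fun i hi => e1 m i (Finset.mem_range.1 hi).le,
    Finset.prod_congr rfl fun i hi => (e1 (2 * d - i) i (by rw [Finset.mem_range] at hi; omega)).trans
      (by rw [show 2 * d - i - i = 2 * (d - i) by omega]),
    Finset.prod_mul_distrib, Finset.prod_mul_distrib, mul_left_comm] at h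
  exact Nat.eq_of_mul_eq_mul_left (Finset.prod_pos fun i _ => pow_pos Fintype.card_pos _) h

/-- A prime dividing the number of totally isotropic `m`-spaces. -/
theorem exists_dvd_of_dvd_card_ti {p r m : ℕ} [Fact p.Prime] [CharP F p] [Fact r.Prime] (hm : m ≤ d)
    (h : r ∣ Nat.card {W : Submodule F (Fin d ⊕ Fin d → F) //
        Module.finrank F ↥W = m ∧ (∀ u ∈ W, ∀ v ∈ W, Cfsg.sympForm d F u v = 0)}) :
    r ≠ p ∧ ∃ j, d - m < j ∧ j ≤ d ∧ orderOf ((Fintype.card F : ℕ) : ZMod r) ∣ 2 * j := by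
  have h1 : r ∣ ∏ i ∈ Finset.range m, (Fintype.card F ^ (2 * (d - i)) - 1) :=
    card_ti_mul (F := F) hm ▸ h.mul_right _
  obtain ⟨i, hi, hd⟩ := (Nat.Prime.prime (Fact.out : r.Prime)).exists_mem_finset_dvd h1
  rw [Finset.mem_range] at hi
  refine ⟨?_, d - i, by omega, by omega, (dvd_pow_sub_one_iff Fintype.card_pos).1 hd⟩
  rintro rfl
  obtain ⟨n, -, hq⟩ := FiniteField.card F r
  have hpos : 0 < Fintype.card F ^ (2 * (d - i)) := pow_pos Fintype.card_pos _
  have h2 : r ∣ Fintype.card F ^ (2 * (d - i)) :=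
    (hq ▸ dvd_pow_self r n.ne_zero).trans (dvd_pow_self _ (by omega))
  have h3 := Nat.dvd_sub h2 hd
  rw [Nat.sub_sub_self (Nat.one_le_iff_ne_zero.2 (by omega))] at h3
  exact (Fact.out : r.Prime).not_dvd_one h3

end CfsgLib.PrimeOrderSp
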