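import Cfsg.Agent.Lib.PrimeOrderSp.InvPlanes
import Cfsg.Agent.Lib.Geometry.Symplectic

/-!
# Involutions of the projective symplectic group: the permuted planes
-/

set_option autoImplicit false

namespace CfsgLib.PrimeOrderSp

open Matrix CfsgLib.Geometry

variable {F : Type*} [Field F] {d : ℕ}

theorem ndOn_top : NDOn (sympBilin d F) (⊤ : Submodule F (Fin d ⊕ Fin d → F)) :=
  fun u _ h => (sympBilin_nondegenerate d F).1 u fun v => h v trivial

theorem iso_toLin' (x : Matrix.symplecticGroup (Fin d) F) (u v : Fin d ⊕ Fin d → F) :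
    sympBilin d F (Matrix.toLin' (x : Matrix (Fin d ⊕ Fin d) (Fin d ⊕ Fin d) F) u)
      (Matrix.toLin' (x : Matrix (Fin d ⊕ Fin d) (Fin d ⊕ Fin d) F) v) = sympBilin d F u v :=
  (mem_sp_iff d F _).1 x.2 u v

/-- The planes permuted by a symplectic matrix with scalar square. -/
theorem exists_planeSys_sp (hd : 0 < d) (x : Matrix.symplecticGroup (Fin d) F) {z : F}
    (hx : ((x ^ 2 : Matrix.symplecticGroup (Fin d) F) : Matrix (Fin d ⊕ Fin d) (Fin d ⊕ Fin d) F) =
      z • (1 : Matrix (Fin d ⊕ Fin d) (Fin d ⊕ Fin d) F)) :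
    z * z = 1 ∧ Nonempty (PlaneSys (sympBilin d F)
      (Matrix.toLin' (x : Matrix (Fin d ⊕ Fin d) (Fin d ⊕ Fin d) F)) z ⊤ d) := by
  set f := Matrix.toLin' (x : Matrix (Fin d ⊕ Fin d) (Fin d ⊕ Fin d) F) with hf
  have hA := sympBilin_isAlt d F
  have hff : ∀ v, f (f v) = z • v := fun v => by
    rw [SubmonoidClass.coe_pow] at hx
    rw [hf, ← LinearMap.comp_apply, ← Matrix.toLin'_mul, ← pow_two, hx, Matrix.toLin'_apply,
      Matrix.smul_mulVec, Matrix.one_mulVec]
  have hz : z * z = 1 := by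
    obtain ⟨u, v, huv⟩ : ∃ u v, sympBilin d F u v ≠ 0 := by
      by_contra hc
      push Not at hc
      have h0 : (Pi.single (Sum.inl ⟨0, hd⟩) 1 : Fin d ⊕ Fin d → F) = 0 :=
        ndOn_top _ trivial fun v _ => hc _ v
      simpa using congrFun h0 (Sum.inl ⟨0, hd⟩)
    have h1 : sympBilin d F (z • u) (z • v) = sympBilin d F u v := by
      rw [← hff, ← hff, iso_toLin' x, iso_toLin' x]
    rw [map_smul, map_smul, LinearMap.smul_apply, smul_eq_mul, smul_eq_mul, ← mul_assoc] at h1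
    exact (mul_eq_right₀ huv).1 h1
  obtain ⟨n, ⟨S⟩⟩ := exists_planeSys hA f (iso_toLin' x) z hz hff ⊤ ndOn_top fun _ _ => trivial
  have h := S.finrank_eq hA
  rw [Module.finrank_fintype_fun_eq_card, Fintype.card_sum, Fintype.card_fin] at h
  obtain rfl : n = d := by omega
  exact ⟨hz, ⟨S⟩⟩

end CfsgLib.PrimeOrderSp
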