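import Cfsg.Agent.Lib.PrimeOrderSp.Transfer
import Cfsg.Agent.Lib.PrimeOrderSp.SympInv

/-!
# Totally isotropic subspaces invariant under an involution of the projective symplectic group
-/

set_option autoImplicit false

namespace CfsgLib.PrimeOrderSp

open Polynomial CfsgLib.Geometry

universe u

variable {F : Type u} [Field F] {d : ℕ}

local notation "V" => (Fin d ⊕ Fin d → F)

theorem inv_neg_iff {f : Module.End F V} {W : Submodule F V} : Inv (-f) W ↔ Inv f W := by
  simp only [Inv, LinearMap.neg_apply, Submodule.neg_mem_iff]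

/-- An isometry with square `1` in odd characteristic. -/
theorem exists_ti_sq_one [Finite F] (h2 : (2 : F) ≠ 0) {f : Module.End F V}
    (hf : ∀ u v, sympBilin d F (f u) (f v) = sympBilin d F u v) (hff : f ^ 2 = 1) {m : ℕ} (hm : m ≤ d) :
    ∃ W : Submodule F V, Module.finrank F W = m ∧ TI (σ := RingHom.id F) (sympBilin d F) W ∧ Inv f W := by
  have hA := sympBilin_isAlt d F
  have hnd := fun u h => (sympBilin_nondegenerate d F).1 u h
  have h := sympHerm (F := F) (d := d)
  have h2' : ((2 : ℕ) : F) ≠ 0 := by exact_mod_cast h2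
  have hg : ∀ u v, sympBilin d F ((-f) u) ((-f) v) = sympBilin d F u v := fun u v => by simp [hf, -sympBilin_apply]
  have hgg : (-f) ^ 2 = 1 := LinearMap.ext fun v => by
    have e := LinearMap.congr_fun hff v
    rw [pow_two, Module.End.mul_apply] at e ⊢
    simpa using e
  have hle : movSp f ≤ fixSp (-f) := by
    rintro _ ⟨w, rfl⟩
    have e : f (f w) = w := by
      rw [← Module.End.mul_apply, ← pow_two, hff, Module.End.one_apply]
    rw [mem_fixSp]
    simp [e]
  have hdis : Disjoint (fixSp f) (fixSp (-f)) := Submodule.disjoint_def.2 fun u hu hu' => by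
    rw [mem_fixSp] at hu hu'
    rw [LinearMap.neg_apply, hu] at hu'
    have e : (2 : F) • u = 0 := by rw [two_smul]; nth_rewrite 1 [← hu']; rw [neg_add_cancel]
    exact (smul_eq_zero.1 e).resolve_left h2
  have hsum : Module.finrank F (fixSp f) + Module.finrank F (fixSp (-f)) = 2 * d := by
    have h3 := Submodule.finrank_add_eq_of_isCompl (isCompl_fix_mov h2' hff)
    have h4 := Submodule.finrank_mono hle
    have h5 := Submodule.finrank_sup_add_finrank_inf_eq (fixSp f) (fixSp (-f))
    rw [hdis.eq_bot, finrank_bot, add_zero] at h5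
    have h6 := Submodule.finrank_le (fixSp f ⊔ fixSp (-f))
    rw [Module.finrank_fintype_fun_eq_card, Fintype.card_sum, Fintype.card_fin] at h3 h6
    omega
  obtain ⟨a, ha⟩ := even_finrank hA (nondeg_fixSp h2' hff h hf)
  obtain ⟨b, hb⟩ := even_finrank hA (nondeg_fixSp h2' hgg h hg)
  obtain ⟨W₁, h1a, h1b, h1c, h1d⟩ := exists_ti_fix (l := min m a) hA hnd hf h2' hff (by omega)
  obtain ⟨W₂, h2a, h2b, h2c, h2d⟩ := exists_ti_fix (l := m - min m a) hA hnd hg h2' hgg (by omega)
  refine ⟨W₁ ⊔ W₂, ?_, h1c.sup h h2c ?_, h1b.sup (inv_neg_iff.1 h2b)⟩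
  · have h5 := Submodule.finrank_sup_add_finrank_inf_eq W₁ W₂
    rw [(hdis.mono h1a h2a).eq_bot, finrank_bot, add_zero] at h5
    omega
  · intro v hv
    refine mem_perp.2 fun u hu => ?_
    have e := hf v u
    rw [mem_fixSp.1 (h1a hu), show f v = -v by
      have e' := mem_fixSp.1 (h2a hv)
      rw [LinearMap.neg_apply] at e'
      rw [← neg_neg (f v), e'], map_neg, LinearMap.neg_apply] at e
    exact (mul_eq_zero.1 (show (2 : F) * sympBilin d F v u = 0 by
      rw [two_mul]; nth_rewrite 1 [← e]; rw [neg_add_cancel])).resolve_left h2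

/-- An isometry with square `-1` and `-1` a square. -/
theorem exists_ti_sq_neg_one_split [Finite F] (h2 : (2 : F) ≠ 0) {f : Module.End F V}
    (hf : ∀ u v, sympBilin d F (f u) (f v) = sympBilin d F u v) (hff : ∀ v, f (f v) = -v) {s : F}
    (hs : s * s = -1) {m : ℕ} (hm : m ≤ d) :
    ∃ W : Submodule F V, Module.finrank F W = m ∧ TI (σ := RingHom.id F) (sympBilin d F) W ∧ Inv f W := by
  have h := sympHerm (F := F) (d := d)
  have key : ∀ s : F, s * s = -1 → ∀ u v : V, f u = s • u → f v = s • v → sympBilin d F u v = 0 := by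
    intro s hs u v hu hv
    have e := hf u v
    rw [hu, hv, map_smul, map_smul, LinearMap.smul_apply, smul_eq_mul, smul_eq_mul, ← mul_assoc, hs,
      neg_one_mul] at e
    exact (mul_eq_zero.1 (show (2 : F) * sympBilin d F u v = 0 by
      rw [two_mul]; nth_rewrite 1 [← e]; rw [neg_add_cancel])).resolve_left h2
  let U : F → Submodule F V := fun s => LinearMap.ker (f - s • 1)
  have hU : ∀ s v, v ∈ U s ↔ f v = s • v := fun s v => by
    simp [U, sub_eq_zero]
  have hTI : ∀ s : F, s * s = -1 → TI (σ := RingHom.id F) (sympBilin d F) (U s) := fun s hs u hu v hv =>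
    key s hs u v ((hU s u).1 hu) ((hU s v).1 hv)
  have htop : U s ⊔ U (-s) = ⊤ := Submodule.eq_top_iff'.2 fun v => by
    refine Submodule.mem_sup.2 ⟨(2 : F)⁻¹ • (v - s • f v), (hU _ _).2 ?_, (2 : F)⁻¹ • (v + s • f v),
      (hU _ _).2 ?_, ?_⟩
    · rw [map_smul, smul_comm s, map_sub, map_smul, hff, smul_sub, smul_sub, smul_smul s s, hs]
      simp only [smul_neg, neg_smul, one_smul]
      module
    · rw [map_smul, smul_comm (-s), map_add, map_smul, hff, smul_add (-s), smul_smul (-s) s, neg_mul, hs]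
      simp only [smul_neg, neg_smul, one_smul, neg_neg]
      module
    · rw [← smul_add, sub_add_add_cancel, ← two_smul F v, smul_smul, inv_mul_cancel₀ h2, one_smul]
  have hd : d ≤ Module.finrank F (U s) := by
    have h1 := two_mul_ti_le h h.nondeg_top le_top (hTI (-s) (by rw [neg_mul_neg, hs]))
    have h3 := Submodule.finrank_add_le_finrank_add_finrank (U s) (U (-s))
    rw [htop, finrank_top, Module.finrank_fintype_fun_eq_card, Fintype.card_sum, Fintype.card_fin] at h3
    rw [finrank_top, Module.finrank_fintype_fun_eq_card, Fintype.card_sum, Fintype.card_fin] at h1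
    omega
  let b := Module.finBasis F (U s)
  let g : Fin m → V := fun k => (b (Fin.castLE (hm.trans hd) k) : V)
  have hg : LinearIndependent F g :=
    (b.linearIndependent.map' (U s).subtype (U s).ker_subtype).comp _ (Fin.castLE_injective _)
  have hsub : Submodule.span F (Set.range g) ≤ U s :=
    Submodule.span_le.2 (by rintro _ ⟨k, rfl⟩; exact Subtype.coe_prop _)
  refine ⟨Submodule.span F (Set.range g), by rw [finrank_span_eq_card hg, Fintype.card_fin],
    (hTI s hs).mono hsub, fun v hv => ?_⟩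
  rw [(hU s v).1 (hsub hv)]
  exact Submodule.smul_mem _ _ hv

section nonsplit

variable [Fintype F] (h4 : Fintype.card F % 4 = 3)
include h4

theorem irreducible_X_sq_add_one : Irreducible (X ^ 2 + C (1 : F)) ∧ (X ^ 2 + C (1 : F)).natDegree = 2 := by
  have hdeg : (X ^ 2 + C (1 : F)).natDegree = 2 := natDegree_X_pow_add_C
  refine ⟨irreducible_of_degree_le_three_of_not_isRoot (by rw [hdeg]; simp) fun x hx => ?_, hdeg⟩
  have h1 : IsSquare (-1 : F) := ⟨x, by
    simp only [IsRoot.def, eval_add, eval_pow, eval_X, eval_C] at hx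
    rw [← pow_two]
    exact (eq_neg_of_add_eq_zero_left hx).symm⟩
  exact FiniteField.isSquare_neg_one_iff.1 h1 h4

theorem killed_sq_neg_one {f : Module.End F V} (hff : ∀ v, f (f v) = -v) {D : Submodule F V} (hD : Inv f D) :
    Killed f {X ^ 2 + C (1 : F)} 2 D :=
  ⟨fun P hP => by rw [Finset.mem_singleton.1 hP]; exact (irreducible_X_sq_add_one h4).1,
    fun P hP => by rw [Finset.mem_singleton.1 hP]; exact (irreducible_X_sq_add_one h4).2,
    hD, fun v _ => by simp [pow_two, Module.End.mul_apply, hff]⟩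

theorem isSemisimple_sq_neg_one {f : Module.End F V} (hff : ∀ v, f (f v) = -v) : f.IsSemisimple :=
  Module.End.isSemisimple_of_squarefree_aeval_eq_zero (irreducible_X_sq_add_one h4).1.squarefree
    (LinearMap.ext fun v => by simp [pow_two, Module.End.mul_apply, hff])

/-- An isometry with square `-1` and `-1` not a square. -/
theorem exists_ti_sq_neg_one_nonsplit {f : Module.End F V}
    (hf : ∀ u v, sympBilin d F (f u) (f v) = sympBilin d F u v) (hff : ∀ v, f (f v) = -v) {m : ℕ}
    (hm : m ≤ d) (hev : Even m) :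
    ∃ W : Submodule F V, Module.finrank F W = m ∧ TI (σ := RingHom.id F) (sympBilin d F) W ∧ Inv f W := by
  classical
  obtain ⟨hirr, hdeg⟩ := irreducible_X_sq_add_one (F := F) h4
  set P : F[X] := X ^ 2 + C (1 : F)
  have hmon : P.Monic := monic_X_pow_add_C 1 two_ne_zero
  haveI := Fact.mk hirr
  haveI : Module.Finite F (AdjoinRoot P) := (AdjoinRoot.powerBasis' hmon).finite
  haveI : Finite (AdjoinRoot P) := Module.finite_of_finite F
  let := Fintype.ofFinite (AdjoinRoot P)
  have hroot : AdjoinRoot.root P ^ 2 = -1 := by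
    have e : AdjoinRoot.mk P (X ^ 2 + C (1 : F)) = 0 := AdjoinRoot.mk_self
    rw [map_add, map_pow, AdjoinRoot.mk_X, AdjoinRoot.mk_C, map_one] at e
    exact eq_neg_of_add_eq_zero_left e
  have hbar : IsConj P (RingHom.id F) (FiniteField.frobeniusAlgHom F (AdjoinRoot P)).toRingHom := by
    refine isConj_of_pow hirr hmon (s := Fintype.card F) (Fintype.one_lt_card) _ (fun x => by
      simp [FiniteField.coe_frobeniusAlgHom]) (fun c => (FiniteField.pow_card c).symm) ?_ ?_
    · obtain ⟨c, hc⟩ : 4 ∣ Fintype.card F + 1 := by omega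
      rw [hc, pow_mul, show (4 : ℕ) = 2 * 2 from rfl, pow_mul, hroot, neg_one_sq, one_pow]
    · rw [card_adjoinRoot hirr hmon, hdeg, pow_two]
  have h := sympHerm (F := F) (d := d)
  have hk := killed_sq_neg_one h4 hff (D := ⊤) fun v _ => Submodule.mem_top
  obtain ⟨J, hJ, hW⟩ := exists_ti h hf (isSemisimple_sq_neg_one h4 hff) {P} 1 ⊤ h.nondeg_top hk
    fun U _ hUnd hUi hani => (finrank_aniso_le h hf {P} (fun Q hQ v₁ v₂ e1 e2 n1 n2 ho => by
      obtain rfl := Finset.mem_singleton.1 hQ
      exact exists_ti_of_pair hirr h hbar hmon hf e1 e2 n1 n2 ho) U hUnd (hk.mono hUi le_top) hani).trans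
      (by rw [Finset.card_singleton])
  rw [finrank_top, Module.finrank_fintype_fun_eq_card, Fintype.card_sum, Fintype.card_fin] at hJ
  obtain ⟨c, hc⟩ := hev
  obtain ⟨W, -, h1, h2, h3⟩ := hW c (by omega)
  exact ⟨W, by rw [h3]; omega, h2, h1⟩

end nonsplit

end CfsgLib.PrimeOrderSp
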