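import Cfsg.Agent.Lib.PrimeOrderSp.Transfer

/-!
# Models of symplectic isometries of prime order
-/

set_option autoImplicit false

namespace CfsgLib.PrimeOrderSp

open Polynomial CfsgLib.KnownB.PrimeOrder CfsgLib.Geometry

universe u

variable {F : Type u} [Field F] [Fintype F]

theorem trace_exists {L : Type u} [Field L] [Algebra F L] [FiniteDimensional F L] {a : L} (ha : a ≠ 0) :
    ∃ b : L, Algebra.trace F L (a * b) ≠ 0 := by
  by_contra hc
  push Not at hc
  exact ha ((traceForm_nondegenerate F L).1 a hc)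

section adjoin

variable {P : F[X]} [Fact (Irreducible P)]

/-- An extension of `σ = id` as an algebra automorphism. -/
theorem exists_algEquiv (hm : P.Monic) {bar : AdjoinRoot P →+* AdjoinRoot P}
    (hbar : IsConj P (RingHom.id F) bar) :
    ∃ τ : AdjoinRoot P ≃ₐ[F] AdjoinRoot P, (∀ x, τ x = bar x) ∧ ∀ x, τ (τ x) = x := by
  haveI : Module.Finite F (AdjoinRoot P) := (AdjoinRoot.powerBasis' hm).finite
  haveI : Finite (AdjoinRoot P) := Module.finite_of_finite F
  let φ : AdjoinRoot P →ₐ[F] AdjoinRoot P := { bar with commutes' := fun c => hbar.of c }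
  refine ⟨AlgEquiv.ofBijective φ (Finite.injective_iff_bijective.1 bar.injective), fun x => rfl, fun x => ?_⟩
  have h : φ.comp φ = AlgHom.id F _ := AdjoinRoot.algHom_ext (by
    have h1 : bar (AdjoinRoot.root P) = (AdjoinRoot.root P)⁻¹ := eq_inv_of_mul_eq_one_left hbar.root
    change bar (bar (AdjoinRoot.root P)) = AdjoinRoot.root P
    rw [h1, map_inv₀, h1, inv_inv])
  exact DFunLike.congr_fun h x

theorem root_ne_one {r : ℕ} [DecidableEq F] (hr : r ≠ 0) (hP : P ∈ factors F r) :
    AdjoinRoot.root P ≠ 1 := fun h => by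
  obtain ⟨hi, hm, hd, hne⟩ := (mem_factors hr).1 hP
  refine hne (Polynomial.eq_of_monic_of_associated hm (by simpa using monic_X_sub_C (1 : F)) ?_)
  refine hi.associated_of_dvd (by simpa using irreducible_X_sub_C (1 : F)) ?_
  exact AdjoinRoot.mk_eq_zero.1 (by rw [map_sub, AdjoinRoot.mk_X, map_one, h, sub_self])

/-- A trace form making multiplication by the root an isometry of an alternating space. -/
theorem exists_traceForm {r : ℕ} [DecidableEq F] (hr2 : r ≠ 2) [Fact r.Prime] (hP : P ∈ factors F r)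
    {bar : AdjoinRoot P →+* AdjoinRoot P} (hbar : IsConj P (RingHom.id F) bar) :
    ∃ T : LinearMap.BilinForm F (AdjoinRoot P), T.IsAlt ∧ (∀ u, (∀ v, T u v = 0) → u = 0) ∧
      ∀ u v, T (AdjoinRoot.root P * u) (AdjoinRoot.root P * v) = T u v := by
  have hr0 : r ≠ 0 := (Fact.out : r.Prime).ne_zero
  have hm := monic_factor hr0 hP
  haveI : Module.Finite F (AdjoinRoot P) := (AdjoinRoot.powerBasis' hm).finite
  obtain ⟨τ, hτ, hττ⟩ := exists_algEquiv hm hbar
  obtain ⟨β, hβ, hβT⟩ : ∃ β : AdjoinRoot P, β ≠ 0 ∧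
      ∀ x, Algebra.trace F (AdjoinRoot P) (β * (x * τ x)) = 0 := by
    refine ⟨AdjoinRoot.root P - τ (AdjoinRoot.root P), sub_ne_zero.2 fun e => ?_, fun x => ?_⟩
    · have h2 : AdjoinRoot.root P ^ 2 = 1 := by
        rw [pow_two]; nth_rewrite 1 [e]; rw [hτ]; exact hbar.root
      refine root_ne_one hr0 hP ?_
      exact orderOf_eq_one_iff.1 (Nat.eq_one_of_dvd_coprimes
        ((Nat.coprime_primes Nat.prime_two (Fact.out : r.Prime)).2 (Ne.symm hr2))
        (orderOf_dvd_of_pow_eq_one h2) (orderOf_dvd_of_pow_eq_one (root_pow_eq_one hr0 hP)))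
    · rw [sub_mul, map_sub, show τ (AdjoinRoot.root P) * (x * τ x) = τ (AdjoinRoot.root P * (x * τ x)) by
        rw [map_mul, map_mul, hττ, mul_comm x], Algebra.trace_eq_of_algEquiv, sub_self]
  let T : LinearMap.BilinForm F (AdjoinRoot P) :=
    LinearMap.mk₂ F (fun u v => Algebra.trace F (AdjoinRoot P) (β * (u * τ v)))
      (fun a b v => by rw [add_mul, mul_add, map_add])
      (fun c a v => by rw [smul_mul_assoc, mul_smul_comm, map_smul])
      (fun u a b => by rw [map_add, mul_add, mul_add, map_add])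
      (fun c u a => by rw [map_smul, mul_smul_comm, mul_smul_comm, map_smul])
  refine ⟨T, hβT, fun u hu => ?_, fun u v => ?_⟩
  · by_contra hu0
    obtain ⟨b, hb⟩ := trace_exists (F := F) (mul_ne_zero hβ hu0)
    refine hb ?_
    have := hu (τ b)
    simp only [T, LinearMap.mk₂_apply, hττ] at this
    rwa [mul_assoc]
  · simp only [T, LinearMap.mk₂_apply]
    rw [map_mul τ, hτ (AdjoinRoot.root P), show AdjoinRoot.root P * u * (bar (AdjoinRoot.root P) * τ v) =
      (bar (AdjoinRoot.root P) * AdjoinRoot.root P) * (u * τ v) by ring, hbar.root, one_mul]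

end adjoin

variable {V : Type*} [AddCommGroup V] [Module F V] [FiniteDimensional F V]

/-- Adding a fixed symplectic space to a fixed point free isometry. -/
theorem exists_sp_extend {d e r : ℕ} (B : LinearMap.BilinForm F V) (hA : B.IsAlt)
    (hnd : ∀ u, (∀ v, B u v = 0) → u = 0) (f : Module.End F V) (hf : ∀ u v, B (f u) (f v) = B u v)
    (hfr : f ^ r = 1) (hfpf : ∀ v, f v = v → v = 0) (hdim : 2 * e + Module.finrank F V = 2 * d) :
    ∃ (x : Matrix.symplecticGroup (Fin d) F) (E : (Fin d ⊕ Fin d → F) ≃ₗ[F] (Fin e ⊕ Fin e → F) × V),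
      ((x ^ r : Matrix.symplecticGroup (Fin d) F) : Matrix (Fin d ⊕ Fin d) (Fin d ⊕ Fin d) F) =
        (1 : F) • (1 : Matrix (Fin d ⊕ Fin d) (Fin d ⊕ Fin d) F) ∧
      Module.finrank F (fixSp (Matrix.toLin' (x : Matrix (Fin d ⊕ Fin d) (Fin d ⊕ Fin d) F))) = 2 * e ∧
      (∀ u, (E (Matrix.toLin' (x : Matrix (Fin d ⊕ Fin d) (Fin d ⊕ Fin d) F) u)).2 = f (E u).2) ∧
      (∀ u, u ∈ movSp (Matrix.toLin' (x : Matrix (Fin d ⊕ Fin d) (Fin d ⊕ Fin d) F)) → (E u).1 = 0) ∧
      ∀ u v, (E u).1 = 0 → sympBilin d F u v = B (E u).2 (E v).2 := by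
  let B' : LinearMap.BilinForm F ((Fin e ⊕ Fin e → F) × V) :=
    (sympBilin e F).compl₁₂ (LinearMap.fst F _ _) (LinearMap.fst F _ _) +
      B.compl₁₂ (LinearMap.snd F _ _) (LinearMap.snd F _ _)
  have hB' : ∀ u v, B' u v = sympBilin e F u.1 v.1 + B u.2 v.2 := fun _ _ => rfl
  let g : Module.End F ((Fin e ⊕ Fin e → F) × V) := LinearMap.prodMap LinearMap.id f
  have hg : ∀ u, g u = (u.1, f u.2) := fun _ => rfl
  have hA' : B'.IsAlt := fun u => by rw [hB', sympBilin_isAlt e F, hA, add_zero]
  have hnd' : ∀ u, (∀ v, B' u v = 0) → u = 0 := fun u hu => Prod.ext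
    ((sympBilin_nondegenerate e F).1 u.1 fun v => by simpa [hB', -sympBilin_apply] using hu (v, 0))
    (hnd u.2 fun v => by simpa [hB', -sympBilin_apply] using hu (0, v))
  have hgr : g ^ r = 1 := by
    have hk : ∀ k : ℕ, ∀ u, (g ^ k) u = (u.1, (f ^ k) u.2) := fun k => by
      induction k with
      | zero => intro u; simp
      | succ k ih => intro u; rw [pow_succ', pow_succ', Module.End.mul_apply, Module.End.mul_apply, ih, hg]
    exact LinearMap.ext fun u => by simp [hk, hfr]
  obtain ⟨x, E, hE, hEB, hx⟩ := exists_sp_of_model (d := d) B' hA' hnd' (by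
    rw [Module.finrank_prod, Module.finrank_fintype_fun_eq_card, Fintype.card_sum, Fintype.card_fin]
    omega) g (fun u v => by rw [hB', hB', hg, hg, hf]) hgr
  obtain ⟨hfix, hmov⟩ := comap_fixSp E g _ hE
  refine ⟨x, E, hx, ?_, fun u => by rw [hE, hg], fun u hu => ?_, fun u v hu => ?_⟩
  · rw [(E.submoduleMap _).finrank_eq, hfix,
      show fixSp g = LinearMap.range (LinearMap.inl F (Fin e ⊕ Fin e → F) V) from ?_,
      LinearMap.finrank_range_of_inj LinearMap.inl_injective, Module.finrank_fintype_fun_eq_card,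
      Fintype.card_sum, Fintype.card_fin, two_mul]
    ext u
    rw [mem_fixSp, hg, LinearMap.mem_range]
    exact ⟨fun h => ⟨u.1, Prod.ext rfl (hfpf _ (congrArg Prod.snd h)).symm⟩,
      fun ⟨a, ha⟩ => by subst ha; simp⟩
  · have h1 : E u ∈ movSp g := hmov ▸ Submodule.mem_map_of_mem hu
    obtain ⟨w, hw⟩ := h1
    rw [← hw]
    simp [hg]
  · rw [← hEB, hB', hu, map_zero, LinearMap.zero_apply, zero_add]

/-- An element with a prescribed fixed space. -/
theorem exists_sp_fixed_dim {d e N r : ℕ} [Fact r.Prime] (hr : (r : F) ≠ 0)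
    (hdim : 2 * e + 2 * N * orderOf ((Fintype.card F : ℕ) : ZMod r) = 2 * d) :
    ∃ x : Matrix.symplecticGroup (Fin d) F,
      ((x ^ r : Matrix.symplecticGroup (Fin d) F) : Matrix (Fin d ⊕ Fin d) (Fin d ⊕ Fin d) F) =
        (1 : F) • (1 : Matrix (Fin d ⊕ Fin d) (Fin d ⊕ Fin d) F) ∧
      Module.finrank F (fixSp (Matrix.toLin' (x : Matrix (Fin d ⊕ Fin d) (Fin d ⊕ Fin d) F))) = 2 * e := by
  classical
  have hr0 : r ≠ 0 := (Fact.out : r.Prime).ne_zero
  obtain ⟨P, hP⟩ : (factors F r).Nonempty := by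
    rw [Finset.nonempty_iff_ne_empty]
    intro h0
    have := card_factors (F := F) (r := r) hr
    rw [h0, Finset.card_empty, zero_mul] at this
    have := (Fact.out : r.Prime).two_le
    omega
  obtain ⟨hirr, hm, hd, hne⟩ := (mem_factors hr0).1 hP
  haveI := Fact.mk hirr
  haveI : Module.Finite F (AdjoinRoot P) := (AdjoinRoot.powerBasis' hm).finite
  have hdeg : Module.finrank F (AdjoinRoot P) = orderOf ((Fintype.card F : ℕ) : ZMod r) := by
    rw [(AdjoinRoot.powerBasis' hm).finrank, AdjoinRoot.powerBasis'_dim, natDegree_eq_orderOf hr hirr hm hd hne]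
  let L := AdjoinRoot P
  let V := (Fin N → L) × (Fin N → L)
  let B : LinearMap.BilinForm F V :=
    LinearMap.mk₂ F (fun u v => ∑ k, Algebra.trace F L (u.1 k * v.2 k - u.2 k * v.1 k))
      (fun a b v => by
        rw [← Finset.sum_add_distrib]
        refine Finset.sum_congr rfl fun k _ => ?_
        rw [← map_add]
        change (Algebra.trace F L) _ = _
        congr 1
        simp only [Pi.add_apply, show ∀ x y : V, (x + y).1 = x.1 + y.1 from fun _ _ => rfl,
          show ∀ x y : V, (x + y).2 = x.2 + y.2 from fun _ _ => rfl]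
        ring)
      (fun c a v => by
        rw [Finset.smul_sum]
        refine Finset.sum_congr rfl fun k _ => ?_
        rw [← map_smul]
        change (Algebra.trace F L) ((c • a.1 k) * v.2 k - (c • a.2 k) * v.1 k) = _
        rw [smul_mul_assoc, smul_mul_assoc, smul_sub])
      (fun u a b => by
        rw [← Finset.sum_add_distrib]
        refine Finset.sum_congr rfl fun k _ => ?_
        rw [← map_add]
        change (Algebra.trace F L) _ = _
        congr 1
        simp only [Pi.add_apply, show ∀ x y : V, (x + y).1 = x.1 + y.1 from fun _ _ => rfl,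
          show ∀ x y : V, (x + y).2 = x.2 + y.2 from fun _ _ => rfl]
        ring)
      (fun c u a => by
        rw [Finset.smul_sum]
        refine Finset.sum_congr rfl fun k _ => ?_
        rw [← map_smul]
        change (Algebra.trace F L) (u.1 k * (c • a.2 k) - u.2 k * (c • a.1 k)) = _
        rw [mul_smul_comm, mul_smul_comm, smul_sub])
  have hB : ∀ u v : V, B u v = ∑ k, Algebra.trace F L (u.1 k * v.2 k - u.2 k * v.1 k) := fun _ _ => rfl
  let f : Module.End F V := LinearMap.prodMap
    (LinearMap.pi fun k => (LinearMap.mulLeft F (AdjoinRoot.root P)).comp (LinearMap.proj k))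
    (LinearMap.pi fun k => (LinearMap.mulLeft F (AdjoinRoot.root P)⁻¹).comp (LinearMap.proj k))
  have hf : ∀ u, f u = (fun k => AdjoinRoot.root P * u.1 k, fun k => (AdjoinRoot.root P)⁻¹ * u.2 k) := fun _ => rfl
  have hroot := root_pow_eq_one hr0 hP
  have hω : AdjoinRoot.root P ≠ 0 := fun h0 => by rw [h0, zero_pow hr0] at hroot; exact zero_ne_one hroot
  have hA : B.IsAlt := fun u => by simp [hB, mul_comm]
  have hnd : ∀ u, (∀ v, B u v = 0) → u = 0 := fun u hu => Prod.ext
    (funext fun k => by
      by_contra h0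
      obtain ⟨b, hb⟩ := trace_exists (F := F) h0
      refine hb ?_
      have := hu (0, Pi.single k b)
      rw [hB, Finset.sum_eq_single k (fun j _ hj => by simp [Pi.single_eq_of_ne hj]) (by simp)] at this
      simpa using this)
    (funext fun k => by
      by_contra h0
      obtain ⟨b, hb⟩ := trace_exists (F := F) h0
      refine hb ?_
      have := hu (Pi.single k b, 0)
      rw [hB, Finset.sum_eq_single k (fun j _ hj => by simp [Pi.single_eq_of_ne hj]) (by simp)] at this
      simpa using this)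
  have hfr : f ^ r = 1 := by
    have hk : ∀ m : ℕ, ∀ u, (f ^ m) u =
        (fun k => AdjoinRoot.root P ^ m * u.1 k, fun k => (AdjoinRoot.root P)⁻¹ ^ m * u.2 k) := fun m => by
      induction m with
      | zero => intro u; simp
      | succ m ih => intro u; rw [pow_succ', Module.End.mul_apply, ih, hf]; simp [pow_succ', mul_assoc]
    exact LinearMap.ext fun u => by simp [hk, hroot]
  obtain ⟨x, E, hx, hfix, -⟩ := exists_sp_extend (d := d) (e := e) B hA hnd f (fun u v => by
    rw [hB, hB, hf, hf]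
    refine Finset.sum_congr rfl fun k _ => congrArg _ ?_
    change AdjoinRoot.root P * u.1 k * ((AdjoinRoot.root P)⁻¹ * v.2 k) -
      (AdjoinRoot.root P)⁻¹ * u.2 k * (AdjoinRoot.root P * v.1 k) = _
    linear_combination (u.1 k * v.2 k - u.2 k * v.1 k) * mul_inv_cancel₀ hω) hfr (fun u hu => by
    rw [hf] at hu
    have h1 := congrArg Prod.fst hu
    have h2 := congrArg Prod.snd hu
    refine Prod.ext (funext fun k => ?_) (funext fun k => ?_)
    · by_contra h0
      exact root_ne_one hr0 hP ((mul_eq_right₀ h0).1 (congrFun h1 k))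
    · by_contra h0
      exact root_ne_one hr0 hP (inv_eq_one.1 ((mul_eq_right₀ h0).1 (congrFun h2 k)))) (by
    rw [Module.finrank_prod, Module.finrank_pi_fintype]
    simp only [hdeg, L, Finset.sum_const, Finset.card_univ, Fintype.card_fin, smul_eq_mul]
    rw [← hdim]; ring)
  exact ⟨x, hx, hfix⟩

/-- An element of self-dual type with prescribed constituents, and its totally isotropic invariant subspaces. -/
theorem exists_sp_selfDual {d e r : ℕ} [Fact r.Prime] [DecidableEq F] (hr : (r : F) ≠ 0) (hr2 : r ≠ 2) {j : ℕ}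
    (hj : 0 < j) (hord : orderOf ((Fintype.card F : ℕ) : ZMod r) = 2 * j) {ι : Type} [Fintype ι]
    (P : ι → F[X]) (hP : ∀ k, P k ∈ factors F r) (hdim : 2 * e + Fintype.card ι * (2 * j) = 2 * d) :
    ∃ x : Matrix.symplecticGroup (Fin d) F,
      ((x ^ r : Matrix.symplecticGroup (Fin d) F) : Matrix (Fin d ⊕ Fin d) (Fin d ⊕ Fin d) F) =
        (1 : F) • (1 : Matrix (Fin d ⊕ Fin d) (Fin d ⊕ Fin d) F) ∧
      Module.finrank F (fixSp (Matrix.toLin' (x : Matrix (Fin d ⊕ Fin d) (Fin d ⊕ Fin d) F))) = 2 * e ∧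
      ∀ W, W ≤ movSp (Matrix.toLin' (x : Matrix (Fin d ⊕ Fin d) (Fin d ⊕ Fin d) F)) →
        Inv (Matrix.toLin' (x : Matrix (Fin d ⊕ Fin d) (Fin d ⊕ Fin d) F)) W →
        TI (σ := RingHom.id F) (sympBilin d F) W →
        Module.finrank F W ≤ (∑ Q ∈ factors F r, (Finset.univ.filter fun k => P k = Q).card / 2) * (2 * j) := by
  classical
  have hr0 : r ≠ 0 := (Fact.out : r.Prime).ne_zero
  haveI : ∀ k, Fact (Irreducible (P k)) := fun k => ⟨((mem_factors hr0).1 (hP k)).1⟩
  haveI : ∀ k, Module.Finite F (AdjoinRoot (P k)) := fun k =>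
    (AdjoinRoot.powerBasis' (monic_factor hr0 (hP k))).finite
  have hdeg : ∀ k, Module.finrank F (AdjoinRoot (P k)) = 2 * j := fun k => by
    obtain ⟨hirr, hm, hd, hne⟩ := (mem_factors hr0).1 (hP k)
    rw [(AdjoinRoot.powerBasis' hm).finrank, AdjoinRoot.powerBasis'_dim, natDegree_eq_orderOf hr hirr hm hd hne,
      hord]
  choose bar hbar using fun k => exists_isConj (F := F) hr hj hord (hP k)
  choose T hTalt hTnd hTiso using fun k => exists_traceForm hr2 (hP k) (hbar k)
  let V := ∀ k, AdjoinRoot (P k)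
  let B : LinearMap.BilinForm F V := ∑ k, (T k).compl₁₂ (LinearMap.proj k) (LinearMap.proj k)
  have hB : ∀ u v : V, B u v = ∑ k, T k (u k) (v k) := fun u v => by
    simp [B, LinearMap.sum_apply]
    rfl
  let f : Module.End F V :=
    LinearMap.pi fun k => (LinearMap.mulLeft F (AdjoinRoot.root (P k))).comp (LinearMap.proj k)
  have hf : ∀ u k, f u k = AdjoinRoot.root (P k) * u k := fun _ _ => rfl
  have haeval : ∀ (Q : F[X]) u k, Polynomial.aeval f Q u k = AdjoinRoot.mk (P k) Q * u k := by
    intro Q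
    induction Q using Polynomial.induction_on with
    | C c => intro u k; simp [Module.algebraMap_end_apply, Algebra.smul_def]; rfl
    | add a b ha hb =>
      intro u k
      rw [map_add, LinearMap.add_apply, map_add, add_mul]
      exact congrArg₂ (· + ·) (ha u k) (hb u k)
    | monomial m c ih =>
      intro u k
      rw [pow_succ, ← mul_assoc, map_mul (Polynomial.aeval f), aeval_X, Module.End.mul_apply, ih, hf,
        map_mul (AdjoinRoot.mk (P k)) _ X, AdjoinRoot.mk_X, mul_assoc]
  have hfr : f ^ r = 1 := LinearMap.ext fun u => funext fun k => by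
    rw [show f ^ r = Polynomial.aeval f (X ^ r : F[X]) by simp, haeval, map_pow, AdjoinRoot.mk_X, root_pow_eq_one hr0 (hP k), one_mul,
      Module.End.one_apply]
  obtain ⟨x, E, hx, hfix, hint, hmov, hform⟩ := exists_sp_extend (d := d) (e := e) B
    (fun u => by rw [hB]; exact Finset.sum_eq_zero fun k _ => hTalt k _)
    (fun u hu => funext fun k => hTnd k _ fun v => by
      have := hu (Pi.single k v)
      rwa [hB, Finset.sum_eq_single k (fun l _ hl => by rw [Pi.single_eq_of_ne hl, map_zero]) (by simp),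
        Pi.single_eq_same] at this)
    f (fun u v => by rw [hB, hB]; exact Finset.sum_congr rfl fun k _ => hTiso k _ _) hfr
    (fun u hu => funext fun k => by
      by_contra h0
      exact root_ne_one hr0 (hP k) ((mul_eq_right₀ h0).1 (congrFun hu k)))
    (by rw [Module.finrank_pi_fintype, Finset.sum_congr rfl fun k _ => hdeg k, Finset.sum_const,
          Finset.card_univ, smul_eq_mul]; exact hdim)
  refine ⟨x, hx, hfix, fun W hWle hWinv hWti => ?_⟩
  set g := Matrix.toLin' (x : Matrix (Fin d ⊕ Fin d) (Fin d ⊕ Fin d) F) with hg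
  let π : (Fin d ⊕ Fin d → F) →ₗ[F] V := (LinearMap.snd F _ _).comp E.toLinearMap
  have hπ : ∀ u, π u = (E u).2 := fun _ => rfl
  let W' := W.map π
  have hinj : Function.Injective (π.domRestrict W) := (injective_iff_map_eq_zero _).2 fun w hw =>
    Subtype.ext (E.injective (by
      rw [ZeroMemClass.coe_zero, map_zero]; exact Prod.ext (hmov _ (hWle w.2)) hw))
  have hrank : Module.finrank F W' = Module.finrank F W := by
    rw [show W' = LinearMap.range (π.domRestrict W) from (LinearMap.range_domRestrict W π).symm, LinearMap.finrank_range_of_inj hinj]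
  have hinv' : Inv f W' := by
    rintro _ ⟨w, hw, rfl⟩
    exact ⟨g w, hWinv w hw, hint w⟩
  have hti' : ∀ u ∈ W', ∀ v ∈ W', B u v = 0 := by
    rintro _ ⟨u, hu, rfl⟩ _ ⟨v, hv, rfl⟩
    rw [hπ, hπ, ← hform u v (hmov u (hWle hu))]
    exact hWti u hu v hv
  rw [← hrank]
  refine (finrank_le_sum hinv' (factors F r) (fun Q hQ => ((mem_factors hr0).1 hQ).1)
    (fun Q hQ => monic_factor hr0 hQ) fun v _ => funext fun k => by
      rw [haeval, AdjoinRoot.mk_eq_zero.2 (Finset.dvd_prod_of_mem (fun Q => Q) (hP k)), zero_mul, Pi.zero_apply]).trans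
    ?_
  rw [Finset.sum_mul]
  refine Finset.sum_le_sum fun Q hQ => ?_
  obtain ⟨hQi, hQm, hQd, hQne⟩ := (mem_factors hr0).1 hQ
  set K := LinearMap.ker (Polynomial.aeval f Q) with hK
  have hKsupp : ∀ u ∈ K, ∀ k, P k ≠ Q → u k = 0 := fun u hu k hk => by
    have h := congrFun (LinearMap.mem_ker.1 hu) k
    rw [haeval, Pi.zero_apply, mul_eq_zero] at h
    refine h.resolve_left fun h0 => hk ?_
    exact Polynomial.eq_of_monic_of_associated (monic_factor hr0 (hP k)) hQm
      (((mem_factors hr0).1 (hP k)).1.associated_of_dvd hQi (AdjoinRoot.mk_eq_zero.1 h0))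
  have hh : IsHerm (σ := RingHom.id F) B := isHerm_alt
    (fun u => by rw [hB]; exact Finset.sum_eq_zero fun k _ => hTalt k _)
    (fun u hu => funext fun k => hTnd k _ fun v => by
      have := hu (Pi.single k v)
      rwa [hB, Finset.sum_eq_single k (fun l _ hl => by rw [Pi.single_eq_of_ne hl, map_zero]) (by simp),
        Pi.single_eq_same] at this)
  have hKnd : Nondeg (σ := RingHom.id F) B K := fun u hu hu' => funext fun k => by
    by_cases hk : P k = Q
    · refine hTnd k _ fun v => ?_
      have := hu' (Pi.single k v) (LinearMap.mem_ker.2 (funext fun l => by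
        rw [haeval]
        by_cases hl : l = k
        · subst hl; rw [← hk, AdjoinRoot.mk_self, zero_mul, Pi.zero_apply]
        · rw [Pi.single_eq_of_ne hl, mul_zero, Pi.zero_apply]))
      rwa [hB, Finset.sum_eq_single k (fun l _ hl => by rw [Pi.single_eq_of_ne hl, map_zero]) (by simp),
        Pi.single_eq_same] at this
    · exact hKsupp u hu k hk
  have hKdim : Module.finrank F K ≤ (Finset.univ.filter fun k => P k = Q).card * (2 * j) := by
    classical
    let ρ : K →ₗ[F] ∀ k : {k // k ∈ Finset.univ.filter fun k => P k = Q}, AdjoinRoot (P k.1) :=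
      (LinearMap.pi fun k => LinearMap.proj k.1).comp K.subtype
    have hρ : Function.Injective ρ := (injective_iff_map_eq_zero ρ).2 fun u hu => Subtype.ext (funext fun k => by
      by_cases hk : P k = Q
      · exact congrFun hu ⟨k, by simp [hk]⟩
      · exact hKsupp _ u.2 k hk)
    refine (LinearMap.finrank_le_finrank_of_injective hρ).trans_eq ?_
    rw [Module.finrank_pi_fintype, Finset.sum_congr rfl fun k _ => hdeg k.1, Finset.sum_const,
      Finset.card_univ, Fintype.card_coe, smul_eq_mul]
  have hsub : W' ⊓ K ≤ K := inf_le_right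
  have h2 := two_mul_ti_le hh hKnd hsub (fun u hu v hv => hti' u hu.1 v hv.1)
  have hKinv : Inv f K := fun v hv => by
    rw [hK, LinearMap.mem_ker, ← Module.End.mul_apply, show
      Polynomial.aeval f Q * f = Polynomial.aeval f (X * Q) by rw [mul_comm X, map_mul, aeval_X],
      map_mul, Module.End.mul_apply, LinearMap.mem_ker.1 hv, map_zero]
  obtain ⟨c, hc⟩ : 2 * j ∣ Module.finrank F (W' ⊓ K : Submodule F V) :=
    finrank_dvd (isSemisimple_of_pow hr hfr) (S := {Q})
      ⟨fun R hR => by rwa [Finset.mem_singleton.1 hR],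
        fun R hR => by rw [Finset.mem_singleton.1 hR, natDegree_eq_orderOf hr hQi hQm hQd hQne, hord],
        hinv'.inf hKinv, fun v hv => by rw [Finset.prod_singleton]; exact hv.2⟩
  rw [hc, mul_comm]
  refine Nat.mul_le_mul_right _ ((Nat.le_div_iff_mul_le two_pos).2 ?_)
  have h3 := h2.trans hKdim
  rw [hc, show 2 * (2 * j * c) = c * 2 * (2 * j) by ring] at h3
  exact Nat.le_of_mul_le_mul_right h3 (by omega)

end CfsgLib.PrimeOrderSp
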