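import Cfsg.Agent.Lib.PrimeOrderSp.Order
import Cfsg.Agent.Lib.KnownB.RestrictScalars

/-!
# Between symplectic matrices and isometries of alternating spaces
-/

set_option autoImplicit false

namespace CfsgLib.PrimeOrderSp

open Matrix CfsgLib.Geometry

universe u

variable {F : Type u} [Field F] {d : ℕ}

theorem sympHerm : IsHerm (σ := RingHom.id F) (sympBilin d F) :=
  isHerm_alt (sympBilin_isAlt d F) fun u h => (sympBilin_nondegenerate d F).1 u h

theorem pow_apply_toLin' (x : Matrix (Fin d ⊕ Fin d) (Fin d ⊕ Fin d) F) (k : ℕ) :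
    (Matrix.toLin' (x ^ k) : Module.End F (Fin d ⊕ Fin d → F)) = (Matrix.toLin' x) ^ k := by
  induction k with
  | zero => simp [Module.End.one_eq_id]
  | succ k ih => rw [pow_succ, pow_succ, Matrix.toLin'_mul, ih, Module.End.mul_eq_comp]

/-- The scalar of an odd power scalar symplectic matrix is a sign; correcting by it gives an isometry of order `r`. -/
theorem exists_unipower (hd : 0 < d) (x : Matrix.symplecticGroup (Fin d) F) {r : ℕ} (hr : Odd r) {z : F}
    (hx : ((x ^ r : Matrix.symplecticGroup (Fin d) F) : Matrix (Fin d ⊕ Fin d) (Fin d ⊕ Fin d) F) =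
      z • (1 : Matrix (Fin d ⊕ Fin d) (Fin d ⊕ Fin d) F)) :
    ∃ g : Module.End F (Fin d ⊕ Fin d → F), g ^ r = 1 ∧
      (∀ u v, sympBilin d F (g u) (g v) = sympBilin d F u v) ∧ z * z = 1 ∧
      g = z • Matrix.toLin' (x : Matrix (Fin d ⊕ Fin d) (Fin d ⊕ Fin d) F) := by
  have hiso : ∀ (y : Matrix.symplecticGroup (Fin d) F) u v,
      sympBilin d F (Matrix.toLin' (y : Matrix (Fin d ⊕ Fin d) (Fin d ⊕ Fin d) F) u)
        (Matrix.toLin' (y : Matrix (Fin d ⊕ Fin d) (Fin d ⊕ Fin d) F) v) = sympBilin d F u v :=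
    fun y u v => (mem_sp_iff d F _).1 y.2 u v
  have hp : ∀ v, Matrix.toLin' ((x ^ r : Matrix.symplecticGroup (Fin d) F) :
      Matrix (Fin d ⊕ Fin d) (Fin d ⊕ Fin d) F) v = z • v := fun v => by
    rw [hx, Matrix.toLin'_apply, Matrix.smul_mulVec, Matrix.one_mulVec]
  have hz : z * z = 1 := by
    obtain ⟨u, v, huv⟩ : ∃ u v, sympBilin d F u v ≠ 0 := by
      by_contra hc
      push Not at hc
      have h0 : (Pi.single (Sum.inl ⟨0, hd⟩) 1 : Fin d ⊕ Fin d → F) = 0 :=
        (sympBilin_nondegenerate d F).1 _ fun v => hc _ v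
      simpa using congrFun h0 (Sum.inl ⟨0, hd⟩)
    have h1 := hiso (x ^ r) u v
    rw [hp, hp, map_smul, map_smul, LinearMap.smul_apply, smul_eq_mul, smul_eq_mul, ← mul_assoc] at h1
    exact (mul_eq_right₀ huv).1 h1
  refine ⟨_, ?_, fun u v => ?_, hz, rfl⟩
  · rw [smul_pow, ← pow_apply_toLin', ← SubmonoidClass.coe_pow, hx, map_smul, smul_smul, ← pow_succ]
    obtain ⟨c, rfl⟩ := hr
    rw [show 2 * c + 1 + 1 = (c + 1) + (c + 1) by ring, pow_add, ← mul_pow, hz, one_pow, one_smul,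
      Matrix.toLin'_one, Module.End.one_eq_id]
  · simp only [LinearMap.smul_apply, map_smul, smul_eq_mul, hiso]
    rw [← mul_assoc, hz, one_mul]

theorem inv_iff_map_le {z : F} (hz : z * z = 1) (f : Module.End F (Fin d ⊕ Fin d → F))
    (W : Submodule F (Fin d ⊕ Fin d → F)) : Inv (z • f) W ↔ W.map f ≤ W := by
  rw [Submodule.map_le_iff_le_comap]
  refine ⟨fun h v hv => ?_, fun h v hv => W.smul_mem _ (h hv)⟩
  have := W.smul_mem z (h v hv)
  rwa [LinearMap.smul_apply, smul_smul, hz, one_smul] at this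

/-- Realising an isometry of an abstract alternating space by a symplectic matrix. -/
theorem exists_sp_of_model {V : Type*} [AddCommGroup V] [Module F V] [FiniteDimensional F V]
    (B : LinearMap.BilinForm F V) (hA : B.IsAlt) (hnd : ∀ u, (∀ v, B u v = 0) → u = 0)
    (hdim : Module.finrank F V = 2 * d) (f : Module.End F V) (hf : ∀ u v, B (f u) (f v) = B u v)
    {r : ℕ} (hfr : f ^ r = 1) :
    ∃ (x : Matrix.symplecticGroup (Fin d) F) (E : (Fin d ⊕ Fin d → F) ≃ₗ[F] V),
      (∀ u, E (Matrix.toLin' (x : Matrix (Fin d ⊕ Fin d) (Fin d ⊕ Fin d) F) u) = f (E u)) ∧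
      (∀ u v, B (E u) (E v) = sympBilin d F u v) ∧
      ((x ^ r : Matrix.symplecticGroup (Fin d) F) : Matrix (Fin d ⊕ Fin d) (Fin d ⊕ Fin d) F) =
        (1 : F) • (1 : Matrix (Fin d ⊕ Fin d) (Fin d ⊕ Fin d) F) := by
  obtain ⟨E, hE⟩ := CfsgLib.KnownB.RestrictScalars.alt_coords B hA hnd hdim
  let M := LinearMap.toMatrix' (E.symm.toLinearMap ∘ₗ f ∘ₗ E.toLinearMap)
  have hM : ∀ u, Matrix.toLin' M u = E.symm (f (E u)) := fun u => by
    simp [M]
  have hmem : M ∈ Matrix.symplecticGroup (Fin d) F := (mem_sp_iff d F M).2 fun u v => by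
    rw [← Matrix.toLin'_apply, ← Matrix.toLin'_apply, hM, hM, ← hE, E.apply_symm_apply, E.apply_symm_apply,
      hf, hE]
  have hint : ∀ u, E (Matrix.toLin' M u) = f (E u) := fun u => by rw [hM, E.apply_symm_apply]
  refine ⟨⟨M, hmem⟩, E, hint, fun u v => hE u v, ?_⟩
  have hk : ∀ (k : ℕ) u, E ((Matrix.toLin' M ^ k) u) = (f ^ k) (E u) := fun k => by
    induction k with
    | zero => simp
    | succ k ih =>
      intro u
      rw [pow_succ', pow_succ', Module.End.mul_apply, Module.End.mul_apply, hint, ih]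
  rw [SubmonoidClass.coe_pow, one_smul]
  apply Matrix.toLin'.injective
  rw [pow_apply_toLin', Matrix.toLin'_one]
  refine LinearMap.ext fun u => E.injective ?_
  rw [hk, hfr]
  rfl

theorem comap_fixSp {V : Type*} [AddCommGroup V] [Module F V] {W : Type*} [AddCommGroup W] [Module F W]
    (E : W ≃ₗ[F] V) (f : Module.End F V) (g : Module.End F W) (h : ∀ u, E (g u) = f (E u)) :
    (fixSp g).map E.toLinearMap = fixSp f ∧ (movSp g).map E.toLinearMap = movSp f := by
  constructor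
  · ext v
    rw [Submodule.mem_map, mem_fixSp]
    refine ⟨?_, fun hv => ⟨E.symm v, mem_fixSp.2 (E.injective ?_), E.apply_symm_apply v⟩⟩
    · rintro ⟨u, hu, rfl⟩
      rw [LinearEquiv.coe_coe, ← h, mem_fixSp.1 hu]
    · rw [h, E.apply_symm_apply, hv]
  · ext v
    constructor
    · rintro ⟨_, ⟨u, rfl⟩, rfl⟩
      exact ⟨E u, by simp [h]⟩
    · rintro ⟨u, rfl⟩
      exact ⟨_, ⟨E.symm u, rfl⟩, by simp [h]⟩

theorem split_inv {V : Type*} [AddCommGroup V] [Module F V] [FiniteDimensional F V] {f : Module.End F V}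
    {r : ℕ} (hr : (r : F) ≠ 0) (hfr : f ^ r = 1) {W : Submodule F V} (hW : Inv f W) :
    Module.finrank F W = Module.finrank F (W ⊓ fixSp f : Submodule F V) +
      Module.finrank F (W ⊓ movSp f : Submodule F V) := by
  obtain ⟨U, hU, hUW, hsup, hdis⟩ := exists_compl_inv (isSemisimple_of_pow hr hfr)
    (hW.inf (inv_fixSp hr hfr)) hW inf_le_left
  have hle : U ≤ movSp f := by
    intro u hu
    let g : U →ₗ[F] U := ((f - 1).comp U.subtype).codRestrict U fun x => by
      simp only [LinearMap.comp_apply, LinearMap.sub_apply, Module.End.one_apply, Submodule.subtype_apply]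
      exact U.sub_mem (hU _ x.2) x.2
    have hg : Function.Injective g := (injective_iff_map_eq_zero g).2 fun x hx =>
      Subtype.ext (Submodule.disjoint_def.1 hdis _ ⟨hUW x.2, congrArg Subtype.val hx⟩ x.2)
    obtain ⟨x, hx⟩ := LinearMap.injective_iff_surjective.1 hg ⟨u, hu⟩
    exact ⟨(x : V), congrArg Subtype.val hx⟩
  have h1 : (W ⊓ fixSp f) ⊔ (W ⊓ movSp f) = W :=
    le_antisymm (sup_le inf_le_left inf_le_left) (hsup.ge.trans (sup_le_sup_left (le_inf hUW hle) _))
  have h2 := Submodule.finrank_sup_add_finrank_inf_eq (W ⊓ fixSp f) (W ⊓ movSp f)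
  rw [h1, show (W ⊓ fixSp f) ⊓ (W ⊓ movSp f) = ⊥ from
    disjoint_iff.1 ((isCompl_fix_mov hr hfr).disjoint.mono inf_le_right inf_le_right), finrank_bot, add_zero] at h2
  exact h2

end CfsgLib.PrimeOrderSp
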