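import Mathlib

/-!
# Placing an involution inside a partition into equal blocks
-/

set_option autoImplicit false

namespace CfsgLib.PrimeOrderSp

open Equiv

/-- An involution of `Fin t × Fin h` with `s` fixed points mapping blocks to blocks exists. -/
def BlockInv (h t s : ℕ) : Prop :=
  ∃ (τ : Perm (Fin t × Fin h)) (σ : Perm (Fin t)),
    (∀ x, τ (τ x) = x) ∧ (∀ x, (τ x).1 = σ x.1) ∧ Nat.card {x // τ x = x} = s

theorem blockInv_zero (h : ℕ) : BlockInv h 0 0 :=
  ⟨1, 1, fun _ => rfl, fun _ => rfl, by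
    haveI : IsEmpty {x : Fin 0 × Fin h // (1 : Perm (Fin 0 × Fin h)) x = x} := ⟨fun x => x.1.1.elim0⟩
    exact Nat.card_of_isEmpty⟩

theorem blockInv_one {h s : ℕ} (hs : s ≤ h) (hp : s % 2 = h % 2) : BlockInv h 1 s := by
  obtain ⟨u, hu⟩ : ∃ u, h = s + u * 2 := ⟨(h - s) / 2, by omega⟩
  let e : Fin h ≃ Fin s ⊕ (Fin u × Bool) :=
    Fintype.equivOfCardEq (by simp [Fintype.card_bool, hu])
  let τ₁ : Perm (Fin h) := e.symm.permCongr (Equiv.sumCongr 1 ((Equiv.refl (Fin u)).prodCongr Equiv.boolNot))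
  refine ⟨(Equiv.refl (Fin 1)).prodCongr τ₁, 1, fun x => ?_, fun x => rfl, ?_⟩
  · obtain ⟨b, j⟩ := x
    simp only [prodCongr_apply, Prod.map_apply, refl_apply, Prod.mk.injEq, true_and]
    obtain ⟨(a | ⟨a, c⟩), rfl⟩ := e.symm.surjective j <;> simp [τ₁, Equiv.permCongr_apply]
  · let g : Fin s ⊕ (Fin u × Bool) → Fin 1 × Fin h := fun y => (0, e.symm y)
    have E : Fin s ≃ {x : Fin 1 × Fin h // (Equiv.refl (Fin 1)).prodCongr τ₁ x = x} :=
      Equiv.ofBijective (fun a => ⟨g (Sum.inl a), by simp [g, τ₁, Equiv.permCongr_apply]⟩)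
        ⟨fun a a' h => by simpa [g] using congrArg Subtype.val h, fun ⟨⟨b, j⟩, hx⟩ => by
          obtain ⟨(a | ⟨a, c⟩), rfl⟩ := e.symm.surjective j
          · exact ⟨a, Subtype.ext (Prod.ext (Subsingleton.elim _ _) rfl)⟩
          · exfalso; cases c <;> simp [τ₁, Equiv.permCongr_apply] at hx⟩
    rw [← Nat.card_congr E, Nat.card_fin]

theorem blockInv_swap {h : ℕ} (hh : 0 < h) : BlockInv h 2 0 := by
  refine ⟨(Equiv.swap (0 : Fin 2) 1).prodCongr (Equiv.refl _), Equiv.swap 0 1, fun x => ?_, fun x => rfl, ?_⟩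
  · exact Prod.ext (Equiv.swap_apply_self _ _ _) rfl
  · haveI : IsEmpty {x : Fin 2 × Fin h // (Equiv.swap (0 : Fin 2) 1).prodCongr (Equiv.refl _) x = x} :=
      ⟨fun ⟨⟨b, j⟩, hx⟩ => by fin_cases b <;> simp at hx⟩
    exact Nat.card_of_isEmpty

theorem BlockInv.add {h t₁ t₂ s₁ s₂ : ℕ} (h₁ : BlockInv h t₁ s₁) (h₂ : BlockInv h t₂ s₂) :
    BlockInv h (t₁ + t₂) (s₁ + s₂) := by
  obtain ⟨τ₁, σ₁, a₁, b₁, c₁⟩ := h₁
  obtain ⟨τ₂, σ₂, a₂, b₂, c₂⟩ := h₂
  let e : (Fin t₁ × Fin h) ⊕ (Fin t₂ × Fin h) ≃ Fin (t₁ + t₂) × Fin h :=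
    (Equiv.sumProdDistrib _ _ _).symm.trans (finSumFinEquiv.prodCongr (Equiv.refl _))
  refine ⟨e.permCongr (Equiv.sumCongr τ₁ τ₂), finSumFinEquiv.permCongr (Equiv.sumCongr σ₁ σ₂),
    fun x => ?_, fun x => ?_, ?_⟩
  · obtain ⟨(x | x), rfl⟩ := e.surjective x <;> simp [Equiv.permCongr_apply, a₁, a₂]
  · obtain ⟨(x | x), rfl⟩ := e.surjective x <;>
      simp only [Equiv.permCongr_apply, symm_apply_apply, Equiv.sumCongr_apply, Sum.map_inl, Sum.map_inr] <;>
      simp [e, b₁, b₂]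
  · have E : {x // e.permCongr (Equiv.sumCongr τ₁ τ₂) x = x} ≃
        {x // τ₁ x = x} ⊕ {x // τ₂ x = x} :=
      (Equiv.subtypeEquiv (q := fun y => Sum.map τ₁ τ₂ y = y) e.symm fun x => by
          obtain ⟨y, rfl⟩ := e.surjective x
          simp [Equiv.permCongr_apply]).trans
        (Equiv.subtypeSum.trans (Equiv.sumCongr (Equiv.subtypeEquivRight fun x => by simp)
          (Equiv.subtypeEquivRight fun x => by simp)))
    rw [Nat.card_congr E, Nat.card_sum, c₁, c₂]

theorem blockInv_exists {h : ℕ} (hh : 0 < h) : ∀ t s, s ≤ t * h → s % 2 = (t * h) % 2 → BlockInv h t s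
  | 0, s, hs, _ => by
    obtain rfl : s = 0 := by omega
    exact blockInv_zero h
  | 1, s, hs, hp => blockInv_one (by omega) (by omega)
  | t + 2, s, hs, hp => by
    have e1 : (t + 2) * h = (t + 1) * h + h := by ring
    have e2 : (t + 1) * h = t * h + h := by ring
    rcases le_or_gt h s with hle | hlt
    · have h1 := (blockInv_exists hh (t + 1) (s - h) (by omega) (by omega)).add (blockInv_one (le_refl h) rfl)
      rwa [show s - h + h = s by omega] at h1
    by_cases hsh : s % 2 = h % 2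
    · have h1 := (blockInv_exists hh (t + 1) 0 (Nat.zero_le _) (by omega)).add
        (blockInv_one (show s ≤ h by omega) hsh)
      rwa [zero_add] at h1
    by_cases hs0 : s = 0
    · subst hs0
      have h1 := (blockInv_exists hh t 0 (Nat.zero_le _) (by omega)).add (blockInv_swap hh)
      exact h1
    · have h1 := (blockInv_exists hh (t + 1) 1 (by
          have : 1 ≤ (t + 1) * h := Nat.one_le_iff_ne_zero.2 (Nat.mul_ne_zero (by omega) (by omega))
          omega) (by omega)).add (blockInv_one (show s - 1 ≤ h by omega) (by omega))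
      rwa [show 1 + (s - 1) = s by omega] at h1

/-- Every involution of a set of `t * h` points preserves a partition into `t` blocks of size `h`. -/
theorem exists_blocks {h t : ℕ} (hh : 0 < h) (π : Perm (Fin (t * h))) (hπ : ∀ i, π (π i) = i) :
    ∃ (e : Fin (t * h) ≃ Fin t × Fin h) (σ : Perm (Fin t)), ∀ i, (e (π i)).1 = σ (e i).1 := by
  classical
  have supp : ∀ (ρ : Perm (Fin (t * h))), (∀ i, ρ (ρ i) = i) →
      ρ.cycleType = Multiset.replicate ρ.cycleType.card 2 ∧
        2 * ρ.cycleType.card + Nat.card {i // ρ i = i} = t * h := by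
    intro ρ hρ
    haveI : Fact (Nat.Prime 2) := ⟨Nat.prime_two⟩
    have h1 := Equiv.Perm.cycleType_of_pow_prime_eq_one (p := 2) (σ := ρ)
      (Equiv.ext fun i => by simp [pow_two, hρ])
    refine ⟨h1, ?_⟩
    have h2 := ρ.sum_cycleType
    rw [h1, Multiset.sum_replicate, smul_eq_mul] at h2
    have h3 : Nat.card {i // ρ i = i} = Fintype.card (Fin (t * h)) - ρ.support.card := by
      rw [Nat.card_eq_fintype_card, Fintype.card_subtype, ← Finset.card_compl]
      congr 1
      ext i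
      simp [Equiv.Perm.mem_support]
    have h4 : ρ.support.card ≤ Fintype.card (Fin (t * h)) := Finset.card_le_univ _
    rw [Fintype.card_fin] at h3 h4
    omega
  obtain ⟨hπ1, hπ2⟩ := supp π hπ
  obtain ⟨τ, σ, hτ, hσ, hτs⟩ := blockInv_exists hh t (Nat.card {i // π i = i}) (by omega) (by omega)
  let e₀ : Fin t × Fin h ≃ Fin (t * h) := finProdFinEquiv
  obtain ⟨hτ1, hτ2⟩ := supp (e₀.permCongr τ) fun i => by simp [Equiv.permCongr_apply, hτ]
  have E : {i // e₀.permCongr τ i = i} ≃ {x // τ x = x} :=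
    Equiv.subtypeEquiv e₀.symm fun i => by simp [Equiv.permCongr_apply, Equiv.eq_symm_apply]
  rw [Nat.card_congr E, hτs] at hτ2
  obtain ⟨g, hg⟩ := isConj_iff.1 (Equiv.Perm.isConj_iff_cycleType_eq.2
    (show π.cycleType = (e₀.permCongr τ).cycleType by
      rw [hπ1, hτ1, show π.cycleType.card = (e₀.permCongr τ).cycleType.card by omega]))
  refine ⟨g.trans e₀.symm, σ, fun i => ?_⟩
  have h5 : g (π i) = e₀.permCongr τ (g i) := by
    rw [← hg, Equiv.Perm.mul_apply, Equiv.Perm.mul_apply, Equiv.Perm.coe_inv, Equiv.symm_apply_apply]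
  simp [h5, Equiv.permCongr_apply, hσ]

end CfsgLib.PrimeOrderSp
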