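import Cfsg.Agent.Lib.PrimeOrderSp.Order

/-!
# Non-degenerate invariant blocks of symplectic isometries of prime order
-/

set_option autoImplicit false
set_option linter.style.haveILetI false

namespace CfsgLib.PrimeOrderSp

open Polynomial CfsgLib.KnownB.PrimeOrder

universe u

variable {F : Type u} [Field F] {V : Type*} [AddCommGroup V] [Module F V] [FiniteDimensional F V]

section split

variable {σ : F →+* F} {B : V →ₗ[F] V →ₛₗ[σ] F} [Finite F]

theorem sup_perp (h : IsHerm B) {D U : Submodule F V} (hD : Nondeg B D) (hUD : U ≤ D) (hU : Nondeg B U) :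
    U ⊔ (perp B U ⊓ D) = D := by
  refine Submodule.eq_of_le_of_finrank_le (sup_le hUD inf_le_right) ?_
  have h2 := finrank_perp h hD hUD
  have h3 := Submodule.finrank_sup_add_finrank_inf_eq U (perp B U ⊓ D)
  rw [show U ⊓ (perp B U ⊓ D) = ⊥ from (Submodule.eq_bot_iff _).2 fun u hu => hU u hu.1 hu.2.1, finrank_bot,
    add_zero] at h3
  omega

theorem nondeg_perp (h : IsHerm B) {D U : Submodule F V} (hD : Nondeg B D) (hUD : U ≤ D) (hU : Nondeg B U) :
    Nondeg B (perp B U ⊓ D) := fun u hu hu' => hD u hu.2 fun w hw => by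
  rw [← sup_perp h hD hUD hU] at hw
  obtain ⟨a, ha, b, hb, rfl⟩ := Submodule.mem_sup.1 hw
  rw [map_add, hu.1 a ha, hu' b hb, add_zero]

theorem nondeg_sup_orth (h : IsHerm B) {U W : Submodule F V} (hU : Nondeg B U) (hW : Nondeg B W)
    (ho : W ≤ perp B U) : Nondeg B (U ⊔ W) := by
  intro u hu hu'
  obtain ⟨a, ha, b, hb, rfl⟩ := Submodule.mem_sup.1 hu
  have e1 : a = 0 := hU a ha fun x hx => by
    have := hu' x (Submodule.mem_sup_left hx)
    rwa [map_add, LinearMap.add_apply, ho hb x hx, add_zero] at this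
  have e2 : b = 0 := hW b hb fun x hx => by
    have := hu' x (Submodule.mem_sup_right hx)
    rwa [map_add, LinearMap.add_apply, h.refl (ho hx a ha), zero_add] at this
  rw [e1, e2, add_zero]

/-- The dimensions of non-degenerate invariant subspaces when blocks of dimension `c` exist. -/
theorem exists_sub_of_atoms (h : IsHerm B) {f : Module.End F V} (hf : ∀ u v, B (f u) (f v) = B u v)
    {S : Submodule F V} {c : ℕ} (hc : 0 < c)
    (atom : ∀ D ≤ S, Inv f D → Nondeg B D → D ≠ ⊥ →
      ∃ U ≤ D, Inv f U ∧ Nondeg B U ∧ Module.finrank F U = c) :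
    ∀ D ≤ S, Inv f D → Nondeg B D → c ∣ Module.finrank F D ∧
      ∀ n, n * c ≤ Module.finrank F D → ∃ U ≤ D, Inv f U ∧ Nondeg B U ∧ Module.finrank F U = n * c := by
  suffices H : ∀ k, ∀ D ≤ S, Module.finrank F D = k → Inv f D → Nondeg B D → c ∣ Module.finrank F D ∧
      ∀ n, n * c ≤ Module.finrank F D → ∃ U ≤ D, Inv f U ∧ Nondeg B U ∧ Module.finrank F U = n * c from
    fun D hD => H _ D hD rfl
  intro k
  induction k using Nat.strong_induction_on with
  | _ k ih =>
  intro D hDS hk hDi hD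
  have zero : ∃ U ≤ D, Inv f U ∧ Nondeg B U ∧ Module.finrank F U = 0 * c :=
    ⟨⊥, bot_le, fun v hv => by simp [(Submodule.mem_bot F).1 hv], fun u hu _ => (Submodule.mem_bot F).1 hu,
      by simp⟩
  by_cases h0 : D = ⊥
  · subst h0
    refine ⟨by simp, fun n hn => ?_⟩
    rw [finrank_bot, Nat.le_zero, mul_eq_zero] at hn
    rw [hn.resolve_right hc.ne']
    exact zero
  obtain ⟨U₀, hU₀, hU₀i, hU₀n, hU₀r⟩ := atom D hDS hDi hD h0
  have hsum := finrank_perp h hD hU₀
  obtain ⟨hdvd, hsub⟩ := ih _ (by omega) (perp B U₀ ⊓ D) (inf_le_right.trans hDS) rfl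
    ((hU₀i.perp h hf).inf hDi) (nondeg_perp h hD hU₀ hU₀n)
  refine ⟨by rw [← hsum, hU₀r]; exact dvd_add hdvd dvd_rfl, fun n hn => ?_⟩
  rcases n with _ | n
  · exact zero
  obtain ⟨W, hW, hWi, hWn, hWr⟩ := hsub n (by rw [add_mul, one_mul] at hn; omega)
  refine ⟨U₀ ⊔ W, sup_le hU₀ (hW.trans inf_le_right), hU₀i.sup hWi,
    nondeg_sup_orth h hU₀n hWn (hW.trans inf_le_left), ?_⟩
  have h3 := Submodule.finrank_sup_add_finrank_inf_eq U₀ W
  rw [show U₀ ⊓ W = ⊥ from (Submodule.eq_bot_iff _).2 fun u hu => hU₀n u hu.1 (hW hu.2).1, finrank_bot,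
    add_zero, hU₀r, hWr] at h3
  rw [h3]
  ring

end split

variable [Fintype F] {B : LinearMap.BilinForm F V} {f : Module.End F V}

/-- The fixed space splits into planes. -/
theorem atom_fix (hA : B.IsAlt) {D : Submodule F V} (hDf : D ≤ fixSp f)
    (hD : Nondeg (σ := RingHom.id F) B D) (h0 : D ≠ ⊥) :
    ∃ U ≤ D, Inv f U ∧ Nondeg (σ := RingHom.id F) B U ∧ Module.finrank F U = 2 := by
  obtain ⟨u, hu, hu0⟩ := Submodule.exists_mem_ne_zero_of_ne_bot h0
  obtain ⟨w, hw, huw⟩ : ∃ w ∈ D, B u w ≠ 0 := by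
    by_contra hc
    push Not at hc
    exact hu0 (hD u hu hc)
  have hwu : B w u ≠ 0 := fun e => huw (by rw [← (LinearMap.IsAlt.neg hA w u), e, neg_zero])
  have hle : Submodule.span F ({u, w} : Set V) ≤ D := Submodule.span_le.2 (by
    rintro _ (rfl | rfl) <;> assumption)
  refine ⟨_, hle, fun v hv => by rwa [mem_fixSp.1 (hDf (hle hv))], fun a ha ha' => ?_, ?_⟩
  · obtain ⟨s, t, rfl⟩ := Submodule.mem_span_pair.1 ha
    have e1 := ha' u (Submodule.subset_span (by simp))
    have e2 := ha' w (Submodule.subset_span (by simp))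
    simp only [map_add, map_smul, LinearMap.add_apply, LinearMap.smul_apply, smul_eq_mul, hA u, hA w, mul_zero,
      zero_add, add_zero, mul_eq_zero, huw, hwu, or_false] at e1 e2
    simp [e1, e2]
  · have hli : LinearIndependent F ![u, w] := LinearIndependent.pair_iff.2 fun s t hst => by
      have e1 := congrArg (fun a => B a u) hst
      have e2 := congrArg (fun a => B a w) hst
      simp only [map_add, map_smul, LinearMap.add_apply, LinearMap.smul_apply, smul_eq_mul, hA u, hA w, mul_zero,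
        zero_add, add_zero, map_zero, LinearMap.zero_apply, mul_eq_zero, huw, hwu, or_false] at e1 e2
      exact ⟨e2, e1⟩
    have h := finrank_span_eq_card hli
    rwa [Matrix.range_cons_cons_empty, Fintype.card_fin] at h

/-- The block dimension. -/
noncomputable def blockDim (F : Type*) [Fintype F] (r : ℕ) : ℕ :=
  if Even (orderOf ((Fintype.card F : ℕ) : ZMod r)) then orderOf ((Fintype.card F : ℕ) : ZMod r)
  else 2 * orderOf ((Fintype.card F : ℕ) : ZMod r)

variable {r : ℕ} [Fact r.Prime]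

/-- The moved space splits into blocks of dimension `blockDim`. -/
theorem atom_mov (hA : B.IsAlt) (hnd : ∀ u, (∀ v, B u v = 0) → u = 0) (hf : ∀ u v, B (f u) (f v) = B u v)
    (hr : (r : F) ≠ 0) (hr2 : r ≠ 2) (hfr : f ^ r = 1) {D : Submodule F V} (hDm : D ≤ movSp f) (hDi : Inv f D)
    (hD : Nondeg (σ := RingHom.id F) B D) (h0 : D ≠ ⊥) :
    ∃ U ≤ D, Inv f U ∧ Nondeg (σ := RingHom.id F) B U ∧ Module.finrank F U = blockDim F r := by
  classical
  have hrp : r.Prime := Fact.out
  have h := isHerm_alt hA hnd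
  have hk := (killed_movSp (f := f) hr hfr).mono hDi hDm
  set i := orderOf ((Fintype.card F : ℕ) : ZMod r) with hi
  obtain ⟨P, hP, v, hv, hv0, hPv⟩ := exists_factor _ hk.inv h0 hk.kill
  have hi0 : 0 < i := by rw [← hk.deg P hP]; exact (hk.irr P hP).natDegree_pos
  -- a non-degenerate cyclic space is a block
  have single : ∀ Q ∈ factors F r, ∀ z ∈ D, z ≠ 0 → aeval f Q z = 0 →
      ¬ TI (σ := RingHom.id F) B (cyc f z) →
      ∃ U ≤ D, Inv f U ∧ Nondeg (σ := RingHom.id F) B U ∧ Module.finrank F U = blockDim F r := by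
    intro Q hQ z hz hz0 hQz hnTI
    have hr' := (finrank_cyc (hk.irr Q hQ) hQz hz0).trans (hk.deg Q hQ)
    have hWn : Nondeg (σ := RingHom.id F) B (cyc f z) := fun u hu huW => by
      by_contra hu0
      have h1 := cyc_minimal (hk.irr Q hQ) hQz (((cyc_inv z).perp h hf).inf (cyc_inv z)) hu ⟨huW, hu⟩ hu0
      exact hnTI fun a ha b hb => (h1 ha).1 b hb
    have hev : Even i := hr' ▸ even_finrank hA hWn
    exact ⟨cyc f z, cyc_le hDi hz, cyc_inv z, hWn, by rw [hr', blockDim, if_pos hev]⟩
  by_cases hTI : TI (σ := RingHom.id F) B (cyc f v)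
  swap
  · exact single P hP v hv hv0 hPv hTI
  set W := cyc f v with hW
  have hWD : W ≤ D := cyc_le hDi hv
  have hWr : Module.finrank F W = i := (finrank_cyc (hk.irr P hP) hPv hv0).trans (hk.deg P hP)
  obtain ⟨U, hUi, hUD, hsup, hdis⟩ := exists_compl_inv (isSemisimple_of_pow hr hfr)
    (((cyc_inv v).perp h hf).inf hDi) hDi inf_le_right
  have hUr : Module.finrank F U = i := by
    have h1 := finrank_perp h hD hWD
    have h2 := Submodule.finrank_sup_add_finrank_inf_eq (perp B W ⊓ D) U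
    rw [hsup, hdis.eq_bot, finrank_bot, add_zero] at h2
    omega
  have hUW : ∀ b ∈ U, b ∈ perp B W → b = 0 := fun b hb hb' =>
    Submodule.disjoint_def.1 hdis b ⟨hb', hUD hb⟩ hb
  have hWU : ∀ a ∈ W, (∀ b ∈ U, B a b = 0) → a = 0 := fun a ha ha' => hD a (hWD ha) fun x hx => by
    rw [← hsup] at hx
    obtain ⟨y, hy, b, hb, rfl⟩ := Submodule.mem_sup.1 hx
    rw [map_add, ha' b hb, add_zero]
    exact h.refl (hy.1 a ha)
  have hU0 : U ≠ ⊥ := fun e => by rw [e, finrank_bot] at hUr; omega
  obtain ⟨Q, hQ, w, hw, hw0, hQw⟩ := exists_factor _ hUi hU0 ((hk.mono hUi hUD).kill)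
  by_cases hUTI : TI (σ := RingHom.id F) B (cyc f w)
  swap
  · exact single Q hQ w (hUD hw) hw0 hQw hUTI
  have hUeq : cyc f w = U := Submodule.eq_of_le_of_finrank_eq (cyc_le hUi hw)
    (((finrank_cyc (hk.irr Q hQ) hQw hw0).trans (hk.deg Q hQ)).trans hUr.symm)
  rw [hUeq] at hUTI
  rcases Nat.even_or_odd i with hev | hodd
  swap
  · have hdis' : W ⊓ U = ⊥ := (Submodule.eq_bot_iff _).2 fun a ha => hUW a ha.2 fun x hx => hTI a ha.1 x hx
    refine ⟨W ⊔ U, sup_le hWD hUD, (cyc_inv v).sup hUi, fun u hu hu' => ?_, ?_⟩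
    · obtain ⟨a, ha, b, hb, rfl⟩ := Submodule.mem_sup.1 hu
      have e1 : a = 0 := hWU a ha fun x hx => by
        have := hu' x (Submodule.mem_sup_right hx)
        rwa [map_add, LinearMap.add_apply, hUTI b hb x hx, add_zero] at this
      have e2 : b = 0 := hUW b hb (mem_perp.2 fun x hx => by
        have := hu' x (Submodule.mem_sup_left hx)
        rwa [map_add, LinearMap.add_apply, hTI a ha x hx, zero_add] at this)
      rw [e1, e2, add_zero]
    · have h2 := Submodule.finrank_sup_add_finrank_inf_eq W U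
      rw [hdis', finrank_bot, add_zero, hWr, hUr] at h2
      rw [h2, blockDim, if_neg (Nat.not_even_iff_odd.2 hodd), two_mul]
  -- `i` even: a diagonal cyclic space
  set g := f ^ (r - 1) with hg
  have hfg : ∀ x, f (g x) = x := fun x => by
    rw [hg, ← Module.End.mul_apply, ← pow_succ', Nat.sub_add_cancel hrp.one_le, hfr, Module.End.one_apply]
  have hgi : ∀ x y, B (g x) y = B x (f y) := fun x y => by rw [← hf (g x) y, hfg]
  have hadj : ∀ (a : F[X]) x y, B (aeval f a x) y = B x (aeval g a y) := by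
    intro a
    induction a using Polynomial.induction_on with
    | C c => intro x y; simp [Module.algebraMap_end_apply]
    | add a b ha hb =>
      intro x y
      rw [map_add, map_add, LinearMap.add_apply, LinearMap.add_apply, map_add, map_add, LinearMap.add_apply, ha, hb]
    | monomial k c ih =>
      intro x y
      rw [pow_succ, ← mul_assoc, map_mul (aeval f), aeval_X, Module.End.mul_apply, ih,
        mul_comm (C c * X ^ k), map_mul (aeval g) X, aeval_X, Module.End.mul_apply]
      conv_lhs => rw [← hfg (aeval g (C c * X ^ k) y)]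
      exact hf _ _
  have hgU : ∀ x ∈ U, g x ∈ U := fun x hx => by
    have := hUi.aeval (X ^ (r - 1)) hx
    rwa [map_pow, aeval_X] at this
  have hgW : ∀ x ∈ W, g x ∈ W := fun x hx => by
    have := (cyc_inv v).aeval (X ^ (r - 1)) hx
    rwa [map_pow, aeval_X] at this
  have hkillW : ∀ x ∈ W, aeval f P x = 0 := by
    rintro _ ⟨a, rfl⟩
    rw [evalAt_apply, ← Module.End.mul_apply, ← map_mul, mul_comm, map_mul, Module.End.mul_apply, hPv, map_zero]
  have hPgw : aeval g P w = 0 := hUW _ (Inv.aeval hgU P hw) (mem_perp.2 fun x hx => h.refl (by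
    rw [← hadj, hkillW x hx, map_zero, LinearMap.zero_apply]))
  have hPw : aeval f P w = 0 := by
    obtain ⟨j, hj⟩ := hev
    obtain ⟨bar, hbar⟩ := exists_isConj hr (j := j) (by omega) (by omega) hQ
    have hcomp : aeval f (P.comp (X ^ (r - 1))) w = 0 := by rw [aeval_comp, map_pow, aeval_X, ← hg, hPgw]
    have hdvd := (aeval_eq_zero_iff (hk.irr Q hQ) hQw hw0 _).1 hcomp
    refine (aeval_eq_zero_iff (hk.irr Q hQ) hQw hw0 _).2 (AdjoinRoot.mk_eq_zero.1 ?_)
    haveI := Fact.mk (hk.irr Q hQ)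
    have hb : bar (AdjoinRoot.root Q) = AdjoinRoot.root Q ^ (r - 1) := by
      have h0' : AdjoinRoot.root Q ≠ 0 := fun e => by
        have := root_pow_eq_one hrp.ne_zero hQ
        rw [e, zero_pow hrp.ne_zero] at this
        exact zero_ne_one this
      refine mul_right_cancel₀ h0' ?_
      rw [hbar.root, ← pow_succ, Nat.sub_add_cancel hrp.one_le, root_pow_eq_one hrp.ne_zero hQ]
    refine bar.injective ?_
    rw [map_zero, ← AdjoinRoot.aeval_eq, aeval_def, hom_eval₂, hb,
      show bar.comp (algebraMap F (AdjoinRoot Q)) = algebraMap F (AdjoinRoot Q) from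
        RingHom.ext fun c => hbar.of c, ← aeval_def]
    have e := aeval_comp (R := F) (p := P) (q := X ^ (r - 1)) (x := AdjoinRoot.root Q)
    rw [map_pow, aeval_X, AdjoinRoot.aeval_eq, AdjoinRoot.mk_eq_zero.2 hdvd] at e
    exact e.symm
  -- `f - g` is injective on `W`
  let L : W →ₗ[F] W := ((f - g).comp W.subtype).codRestrict W fun x => W.sub_mem (cyc_inv v _ x.2) (hgW _ x.2)
  have hL : Function.Injective L := (injective_iff_map_eq_zero _).2 fun x hx => by
    have e : f (x : V) = g x := sub_eq_zero.1 (congrArg Subtype.val hx)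
    have e2 : (f ^ 2) (x : V) = x := by rw [pow_two, Module.End.mul_apply, e, hfg]
    obtain ⟨k, hk'⟩ := hrp.odd_of_ne_two hr2
    have e3 : ∀ n, ((f ^ 2) ^ n) (x : V) = x := fun n => by
      induction n with
      | zero => simp
      | succ n ihn => rw [pow_succ', Module.End.mul_apply, ihn, e2]
    have e4 : f (x : V) = x := by
      have := congrArg (fun T : Module.End F V => T (x : V)) hfr
      simp only [hk', pow_succ', pow_mul, Module.End.mul_apply, e3, Module.End.one_apply] at this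
      exact this
    exact Subtype.ext (Submodule.disjoint_def.1 (isCompl_fix_mov hr hfr).disjoint _ (mem_fixSp.2 e4)
      (hDm (hWD x.2)))
  obtain ⟨y, hy, hyw⟩ : ∃ y ∈ W, B y w ≠ 0 := by
    by_contra hc
    push Not at hc
    exact hw0 (hUW w hw (mem_perp.2 fun x hx => h.refl (hc x hx)))
  obtain ⟨⟨v', hv'⟩, hLv⟩ := LinearMap.injective_iff_surjective.1 hL ⟨y, hy⟩
  have hy' : f v' - g v' = y := congrArg Subtype.val hLv
  refine single P hP (v' + w) (D.add_mem (hWD hv') (hUD hw)) (fun e => ?_)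
    (by rw [map_add, hkillW v' hv', hPw, add_zero]) fun hT => ?_
  · have hwW : w ∈ W := by
      rw [eq_neg_of_add_eq_zero_right e]
      exact W.neg_mem hv'
    exact hw0 (hUW w hw fun x hx => hTI w hwW x hx)
  · have e := hT _ (cyc_inv _ _ (mem_cyc_self _)) _ (mem_cyc_self (v' + w))
    simp only [map_add, LinearMap.add_apply, hTI _ (cyc_inv v _ hv') _ hv', hUTI _ (hUi _ hw) _ hw, zero_add,
      add_zero] at e
    refine hyw ?_
    rw [← hy', map_sub, LinearMap.sub_apply, hgi, ← e, ← (LinearMap.IsAlt.neg hA (f w) v')]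
    ring

end CfsgLib.PrimeOrderSp
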