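import Cfsg.Agent.Lib.PrimeOrderSp.SkewJ
import Cfsg.Agent.Lib.PrimeOrderSp.SympInv
import Cfsg.Agent.Lib.PrimeOrderSp.Config

/-!
# Elements of prime order commuting or anticommuting with a skew element of non-square square
-/

set_option autoImplicit false
set_option maxHeartbeats 800000

namespace CfsgLib.PrimeOrderSp

open Matrix CfsgLib.Geometry CfsgLib.KnownB.PrimeOrder

universe u

variable {F : Type u} [Field F] {d : ℕ}

local notation "V" => (Fin d ⊕ Fin d → F)
local notation "Md" => Matrix (Fin d ⊕ Fin d) (Fin d ⊕ Fin d) F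

/-- Every element with scalar square commutes or anticommutes with some skew element with square `ν`. -/
theorem exists_skew_of_sq [Finite F] (hd : 0 < d) (h2 : (2 : F) ≠ 0) {ν : F} (hν : ν ≠ 0)
    (x : Matrix.symplecticGroup (Fin d) F) {z : F}
    (hx : ((x ^ 2 : Matrix.symplecticGroup (Fin d) F) : Md) = z • (1 : Md)) :
    ∃ (e : F) (J : Module.End F V), e * e = 1 ∧ SkewSq ν J ∧
      ∀ v, Matrix.toLin' (x : Md) (J v) = e • J (Matrix.toLin' (x : Md) v) := by
  classical
  obtain ⟨hzz, ⟨S⟩⟩ := exists_planeSys_sp hd x hx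
  set f := Matrix.toLin' (x : Md) with hf
  have hA := sympBilin_isAlt d F
  have hiso : ∀ u v, sympBilin d F (f u) (f v) = sympBilin d F u v := iso_toLin' x
  have sw : ∀ u v, sympBilin d F u v = - sympBilin d F v u := fun u v =>
    (LinearMap.IsAlt.neg hA v u).symm
  have hff : ∀ v, f (f v) = z • v := fun v => by
    rw [SubmonoidClass.coe_pow] at hx
    rw [hf, ← LinearMap.comp_apply, ← Matrix.toLin'_mul, ← pow_two, hx, Matrix.toLin'_apply,
      Matrix.smul_mulVec, Matrix.one_mulVec]
  obtain ⟨α₀, β₀, hab⟩ := exists_norm_value h2 (-1 : F) ν (neg_ne_zero.2 one_ne_zero)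
  have hab' : α₀ * α₀ + β₀ * β₀ = ν := by linear_combination hab
  let sgn : Fin d → F := fun i => if z = 1 ∨ i < S.perm i then 1 else -1
  let α : Fin d → F := fun i => if z = -1 ∧ S.perm i = i then α₀ else 0
  let β : Fin d → F := fun i => if z = -1 ∧ S.perm i = i then β₀ else sgn i
  let γ : Fin d → F := fun i => if z = -1 ∧ S.perm i = i then β₀ else ν * sgn i
  have hsgn : ∀ i, sgn i * sgn i = 1 := fun i => by simp only [sgn]; split_ifs <;> ring
  have hsq : ∀ i, α i * α i + β i * γ i = ν := fun i => by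
    simp only [α, β, γ]
    split_ifs with h
    · exact hab'
    · rw [zero_mul, zero_add, mul_left_comm, hsgn, mul_one]
  haveI : Nonempty (Fin d ⊕ Fin d) := ⟨Sum.inl ⟨0, hd⟩⟩
  let b := basisOfLinearIndependentOfCardEqFinrank (S.linearIndependent hA)
    (Module.finrank_fintype_fun_eq_card (R := F) (η := Fin d ⊕ Fin d)).symm
  have hb : ∀ k, b k = Sum.elim S.a S.b k := fun k => by
    simp [b]
  let J : Module.End F V :=
    b.constr F (Sum.elim (fun i => α i • S.a i + β i • S.b i) (fun i => γ i • S.a i - α i • S.b i))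
  have hJa : ∀ i, J (S.a i) = α i • S.a i + β i • S.b i := fun i => by
    have h := b.constr_basis F (Sum.elim (fun i => α i • S.a i + β i • S.b i)
      (fun i => γ i • S.a i - α i • S.b i)) (Sum.inl i)
    rwa [hb, Sum.elim_inl, Sum.elim_inl] at h
  have hJb : ∀ i, J (S.b i) = γ i • S.a i - α i • S.b i := fun i => by
    have h := b.constr_basis F (Sum.elim (fun i => α i • S.a i + β i • S.b i)
      (fun i => γ i • S.a i - α i • S.b i)) (Sum.inr i)
    rwa [hb, Sum.elim_inr, Sum.elim_inr] at h
  have hskew : ∀ u v, sympBilin d F (J u) v = - sympBilin d F u (J v) := by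
    have h : (sympBilin d F).comp J LinearMap.id + (sympBilin d F).comp LinearMap.id J = 0 :=
      LinearMap.ext_basis b b fun k l => by
        simp only [LinearMap.add_apply, LinearMap.BilinForm.comp_apply, LinearMap.id_apply, LinearMap.zero_apply, hb]
        rcases k with i | i <;> rcases l with j | j <;>
          simp only [Sum.elim_inl, Sum.elim_inr, hJa, hJb, map_add, map_sub, map_smul, LinearMap.add_apply,
            LinearMap.sub_apply, LinearMap.smul_apply, smul_eq_mul] <;>
        (by_cases hij : i = j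
         · subst hij
           simp only [hA (S.a i), hA (S.b i), sw (S.b i) (S.a i)]
           ring
         · obtain ⟨e1, e2, e3, e4⟩ := S.orth i j hij
           simp only [e1, e2, e3, e4, mul_zero, add_zero, sub_zero])
    intro u v
    have e := LinearMap.congr_fun₂ h u v
    simp only [LinearMap.add_apply, LinearMap.BilinForm.comp_apply, LinearMap.id_apply, LinearMap.zero_apply] at e
    exact eq_neg_of_add_eq_zero_left e
  have hJJ : ∀ v, J (J v) = ν • v := by
    have h : J.comp J = ν • LinearMap.id := b.ext fun k => by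
      rw [LinearMap.comp_apply, LinearMap.smul_apply, LinearMap.id_apply, hb]
      rcases k with i | i
      · simp only [Sum.elim_inl, hJa, map_add, map_smul, hJb]
        rw [← hsq i]; module
      · simp only [Sum.elim_inr, hJb, map_sub, map_smul, hJa]
        rw [← hsq i]; module
    exact fun v => LinearMap.congr_fun h v
  refine ⟨z, J, hzz, ⟨hskew, hJJ⟩, ?_⟩
  have h : f.comp J = z • J.comp f := b.ext fun k => by
    have hcases : z = 1 ∨ z = -1 := mul_self_eq_one_iff.1 hzz
    have hne : z = 1 → z ≠ -1 := fun h1 h3 => h2 (by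
      rw [h1] at h3; rw [← one_add_one_eq_two]; nth_rewrite 1 [h3]; exact neg_add_cancel _)
    rw [LinearMap.comp_apply, LinearMap.smul_apply, LinearMap.comp_apply, hb]
    rcases k with i | i <;> simp only [Sum.elim_inl, Sum.elim_inr] <;>
      rcases S.kind i with ⟨c, ha, hb'⟩ | ⟨hp, ha, hb'⟩
    all_goals rcases hcases with hz | hz
    -- scalar or paired plane, `z = 1`
    case inl.inl.inl | inr.inl.inl =>
      have e1 : ∀ j, α j = 0 ∧ β j = 1 ∧ γ j = ν := fun j => by
        have h' : sgn j = 1 := if_pos (Or.inl hz)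
        simp [α, β, γ, hne hz, h']
      simp only [hJa, hJb, map_add, map_sub, map_smul, ha, hb', (e1 i).1, (e1 i).2.1, (e1 i).2.2,
        (e1 (S.perm i)).1, (e1 (S.perm i)).2.1, (e1 (S.perm i)).2.2, hz]
      module
    -- paired plane, `z = -1`
    case inl.inl.inr | inr.inl.inr =>
      have hp : S.perm i ≠ i := by
        intro he
        rw [he] at ha hb'
        have h' := hiso (S.a i) (S.b i)
        rw [ha, hb', map_smul, map_smul, LinearMap.smul_apply, smul_eq_mul, smul_eq_mul, ← mul_assoc] at h'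
        have h4 : c * c = 1 := (mul_eq_right₀ (S.pair i)).1 h'
        have h5 : (c * c) • S.a i = z • S.a i := by rw [mul_smul, ← ha, ← map_smul, ← ha, hff]
        have h6 : S.a i ≠ 0 := fun e => S.pair i (by simp [e])
        have h7 := smul_left_injective F h6 h5
        exact hne (h7.symm.trans h4) hz
      have hne1 : ¬ z = 1 := fun h1 => hne h1 hz
      have e1 : ∀ j, S.perm j ≠ j → α j = 0 ∧ β j = sgn j ∧ γ j = ν * sgn j := fun j hj => by
        simp [α, β, γ, hj]
      have e2 : sgn (S.perm i) = - sgn i := by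
        simp only [sgn, S.invol, hne1, false_or]
        rcases lt_or_gt_of_ne hp with hlt | hlt
        · rw [if_pos hlt, if_neg hlt.le.not_gt, neg_neg]
        · rw [if_neg hlt.le.not_gt, if_pos hlt]
      have e3 := e1 _ hp
      have e4 := e1 (S.perm i) (by rw [S.invol]; exact Ne.symm hp)
      simp only [hJa, hJb, map_add, map_sub, map_smul, ha, hb', e3.1, e3.2.1, e3.2.2, e4.1, e4.2.1, e4.2.2, e2, hz]
      module
    -- a rotated plane with `z = 1` does not occur
    case inl.inr.inl | inr.inr.inl =>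
      exfalso
      have h' := hiso (S.a i) (S.b i)
      have hz1 : ∀ y : F, z * y = y := fun y => by rw [hz, one_mul]
      rw [ha, hb', map_smul, smul_eq_mul, hz1, sw] at h'
      exact S.pair i ((mul_eq_zero.1 (show (2 : F) * sympBilin d F (S.a i) (S.b i) = 0 by
        rw [two_mul]; nth_rewrite 1 [← h']; exact neg_add_cancel _)).resolve_left h2)
    -- a rotated plane with `z = -1`
    case inl.inr.inr | inr.inr.inr =>
      have e1 : α i = α₀ ∧ β i = β₀ ∧ γ i = β₀ := by simp [α, β, γ, hz, hp]
      simp only [hJa, hJb, map_add, map_sub, map_smul, ha, hb', e1.1, e1.2.1, e1.2.2, hz]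
      module
  exact fun v => LinearMap.congr_fun h v

/-- A transvection commutes with no element of non-square square. -/
theorem transvection_not_commute {ν : F} (hν : ¬ IsSquare ν) {J : Module.End F V} (hsq : ∀ v, J (J v) = ν • v)
    {w : V} (hw : w ≠ 0) :
    ¬ ∀ v, Matrix.toLin' (Cfsg.sympTransvection d w (1 : F)) (J v) =
      J (Matrix.toLin' (Cfsg.sympTransvection d w (1 : F)) v) := by
  intro hc
  obtain ⟨u, hu⟩ : ∃ u, Cfsg.sympForm d F u w ≠ 0 := by
    by_contra h
    push Not at h
    exact hw ((sympBilin_nondegenerate d F).1 w fun u => by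
      rw [← (LinearMap.IsAlt.neg (sympBilin_isAlt d F) u w), sympBilin_apply, h, neg_zero])
  have h := hc u
  rw [Matrix.toLin'_apply, Matrix.toLin'_apply, sympTransvection_mulVec, sympTransvection_mulVec, one_mul,
    one_mul, map_add, map_smul, add_right_inj] at h
  set c := Cfsg.sympForm d F (J u) w / Cfsg.sympForm d F u w
  have hJw : J w = c • w := by
    rw [show c = (Cfsg.sympForm d F u w)⁻¹ * Cfsg.sympForm d F (J u) w from div_eq_inv_mul _ _, mul_smul, h,
      inv_smul_smul₀ hu]
  have h' := hsq w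
  rw [hJw, map_smul, hJw, smul_smul] at h'
  exact hν ⟨c, (smul_left_injective F hw h').symm⟩

theorem aeval_commute {J f : Module.End F V} (hcomm : ∀ v : V, f (J v) = J (f v)) (a : Polynomial F) (v : V) :
    Polynomial.aeval f a (J v) = J (Polynomial.aeval f a v) := by
  induction a using Polynomial.induction_on generalizing v with
  | C c => simp [Module.algebraMap_end_apply]
  | add a b ha hb => simp [ha, hb]
  | monomial k c ih =>
    rw [pow_succ, ← mul_assoc, map_mul, Polynomial.aeval_X, Module.End.mul_apply, Module.End.mul_apply, hcomm, ih]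

section odd

variable [Fintype F] {ν : F} {J : Module.End F (Fin d ⊕ Fin d → F)} {f : Module.End F (Fin d ⊕ Fin d → F)} {r : ℕ} [Fact r.Prime]

/-- For odd degree no non-degenerate space is killed by one factor. -/
theorem not_nondeg_single [DecidableEq F] (hiso : ∀ u v, sympBilin d F (f u) (f v) = sympBilin d F u v)
    (hr2 : r ≠ 2) (hfr : f ^ r = 1) {P : Polynomial F} (hP : P ∈ factors F r) (hdeg : Odd P.natDegree)
    {D : Submodule F V} (hDi : Inv f D) (hD : Nondeg (σ := RingHom.id F) (sympBilin d F) D)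
    (hk : ∀ v ∈ D, Polynomial.aeval f P v = 0) : D = ⊥ := by
  have hrp : r.Prime := Fact.out
  obtain ⟨hirr, hm, -, -⟩ := (mem_factors hrp.ne_zero).1 hP
  haveI := Fact.mk hirr
  set g := f ^ (r - 1) with hg
  have hgf : ∀ v, f (g v) = v := fun v => by
    rw [hg, ← Module.End.mul_apply, ← pow_succ', Nat.sub_add_cancel hrp.one_le, hfr, Module.End.one_apply]
  have hadj : ∀ (a : Polynomial F) u w,
      sympBilin d F (Polynomial.aeval f a u) w = sympBilin d F u (Polynomial.aeval g a w) := by
    intro a
    induction a using Polynomial.induction_on with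
    | C c => intro u w; simp [Module.algebraMap_end_apply, -sympBilin_apply]
    | add a b ha hb =>
      intro u w
      rw [map_add, map_add, LinearMap.add_apply, LinearMap.add_apply, map_add, map_add, LinearMap.add_apply, ha, hb]
    | monomial k c ih =>
      intro u w
      rw [pow_succ, ← mul_assoc, map_mul (Polynomial.aeval f), Polynomial.aeval_X, Module.End.mul_apply, ih,
        mul_comm (Polynomial.C c * Polynomial.X ^ k), map_mul (Polynomial.aeval g) Polynomial.X, Polynomial.aeval_X,
        Module.End.mul_apply]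
      conv_lhs => rw [← hgf (Polynomial.aeval g (Polynomial.C c * Polynomial.X ^ k) w)]
      exact hiso _ _
  rw [Submodule.eq_bot_iff]
  intro v hv
  by_contra hv0
  have hgv : Polynomial.aeval f (P.comp (Polynomial.X ^ (r - 1))) v = 0 := by
    rw [Polynomial.aeval_comp, map_pow, Polynomial.aeval_X, ← hg]
    refine hD _ ?_ fun u hu => ?_
    · have hgD : Inv g D := fun w hw => by
        have := hDi.aeval (Polynomial.X ^ (r - 1)) hw
        rwa [map_pow, Polynomial.aeval_X] at this
      exact hgD.aeval P hv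
    · rw [← (LinearMap.IsAlt.neg (sympBilin_isAlt d F) u _), ← hadj, hk u hu, map_zero, LinearMap.zero_apply,
        neg_zero]
  have hdvd := (aeval_eq_zero_iff hirr (hk v hv) hv0 _).1 hgv
  haveI : Module.Finite F (AdjoinRoot P) := (AdjoinRoot.powerBasis' hm).finite
  haveI : Finite (AdjoinRoot P) := Module.finite_of_finite F
  have hroot : Polynomial.aeval (AdjoinRoot.root P ^ (r - 1)) P = 0 := by
    have h := Polynomial.aeval_comp (R := F) (p := P) (q := Polynomial.X ^ (r - 1)) (x := AdjoinRoot.root P)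
    rw [map_pow, Polynomial.aeval_X, AdjoinRoot.aeval_eq, AdjoinRoot.mk_eq_zero.2 hdvd] at h
    exact h.symm
  let φ : AdjoinRoot P →ₐ[F] AdjoinRoot P := AdjoinRoot.liftAlgHom P (Algebra.ofId F _) _ hroot
  have hφr : φ (AdjoinRoot.root P) = AdjoinRoot.root P ^ (r - 1) := AdjoinRoot.liftAlgHom_root _ _ _ _
  let τ : AdjoinRoot P ≃ₐ[F] AdjoinRoot P :=
    AlgEquiv.ofBijective φ (Finite.injective_iff_bijective.1 φ.toRingHom.injective)
  have hτ2 : τ ^ 2 = 1 := by
    refine AlgEquiv.ext fun x => ?_
    have h : φ.comp φ = AlgHom.id F _ := AdjoinRoot.algHom_ext (by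
      rw [AlgHom.comp_apply, hφr, map_pow, hφr, AlgHom.id_apply, ← pow_mul]
      obtain ⟨c, hc⟩ : ∃ c, (r - 1) * (r - 1) = c * r + 1 := by
        obtain ⟨a, rfl⟩ : ∃ a, r = a + 2 := ⟨r - 2, by have := hrp.two_le; omega⟩
        exact ⟨a, by rw [show a + 2 - 1 = a + 1 by omega]; ring⟩
      rw [hc, pow_succ, mul_comm c, pow_mul, root_pow_eq_one hrp.ne_zero hP, one_pow, one_mul])
    rw [pow_two]
    exact DFunLike.congr_fun h x
  have hcard : Nat.card (AdjoinRoot P ≃ₐ[F] AdjoinRoot P) = P.natDegree := by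
    rw [IsGalois.card_aut_eq_finrank, (AdjoinRoot.powerBasis' hm).finrank, AdjoinRoot.powerBasis'_dim]
  have hτ1 : τ = 1 := orderOf_eq_one_iff.1 (Nat.eq_one_of_dvd_coprimes
    (Nat.coprime_two_left.2 hdeg) (orderOf_dvd_of_pow_eq_one hτ2)
    (hcard ▸ orderOf_dvd_natCard τ))
  have h1 : AdjoinRoot.root P ^ (r - 1) = AdjoinRoot.root P := by
    rw [← hφr]
    exact DFunLike.congr_fun hτ1 (AdjoinRoot.root P)
  have h2 : AdjoinRoot.root P ^ 2 = 1 := by
    rw [pow_two]
    nth_rewrite 1 [← h1]
    rw [← pow_succ, Nat.sub_add_cancel hrp.one_le, root_pow_eq_one hrp.ne_zero hP]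
  exact root_ne_one hrp.ne_zero hP (orderOf_eq_one_iff.1 (Nat.eq_one_of_dvd_coprimes
    ((Nat.coprime_primes Nat.prime_two hrp).2 (Ne.symm hr2))
    (orderOf_dvd_of_pow_eq_one h2) (orderOf_dvd_of_pow_eq_one (root_pow_eq_one hrp.ne_zero hP))))

/-- An element with a `2i`-dimensional moved space, `i` odd, commutes with no such `J`. -/
theorem no_skew_odd (hν : ¬ IsSquare ν) (hJ : SkewSq ν J)
    (hiso : ∀ u v, sympBilin d F (f u) (f v) = sympBilin d F u v) (hr : (r : F) ≠ 0) (hr2 : r ≠ 2)
    (hfr : f ^ r = 1) (hodd : Odd (orderOf ((Fintype.card F : ℕ) : ZMod r)))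
    (hmov : Module.finrank F (movSp f) = 2 * orderOf ((Fintype.card F : ℕ) : ZMod r))
    (hcomm : ∀ v, f (J v) = J (f v)) : False := by
  classical
  have h := sympHerm (F := F) (d := d)
  have hk := killed_movSp (f := f) hr hfr
  have hi0 := orderOf_card_pos (F := F) (r := r) hr
  have hne : movSp f ≠ ⊥ := fun e => by rw [e, finrank_bot] at hmov; omega
  have hJmov : ∀ v ∈ movSp f, J v ∈ movSp f := by
    rintro _ ⟨w, rfl⟩
    exact ⟨J w, by simp [hcomm]⟩
  obtain ⟨P, hP, v, hv, hv0, hPv⟩ := exists_factor _ hk.inv hne hk.kill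
  have hPJ : Polynomial.aeval f P (J v) = 0 := by rw [aeval_commute hcomm, hPv, map_zero]
  have hWd : Module.finrank F (cyc f v) = orderOf ((Fintype.card F : ℕ) : ZMod r) :=
    (finrank_cyc (hk.irr P hP) hPv hv0).trans (hk.deg P hP)
  have hJv0 : J v ≠ 0 := fun e => hv0 (by
    have h1 := hJ.sq v
    rw [e, map_zero] at h1
    exact (smul_eq_zero.1 h1.symm).resolve_left fun h0 => hν (h0 ▸ IsSquare.zero))
  have hJW : J v ∉ cyc f v := by
    intro hmem
    have hinvJ : ∀ u ∈ cyc f v, J u ∈ cyc f v := by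
      rintro _ ⟨a, rfl⟩
      rw [evalAt_apply, ← aeval_commute hcomm]
      exact (cyc_inv v).aeval a hmem
    have hdet := congrArg LinearMap.det
      (show J.restrict hinvJ * J.restrict hinvJ = ν • (1 : Module.End F (cyc f v)) from
        LinearMap.ext fun u => Subtype.ext (hJ.sq u))
    rw [map_mul, LinearMap.det_smul, map_one, mul_one, hWd] at hdet
    obtain ⟨c, hc⟩ := hodd
    rw [hc, pow_succ, pow_mul] at hdet
    have hν0 : ν ≠ 0 := fun h0 => hν (h0 ▸ IsSquare.zero)
    refine hν ⟨LinearMap.det (J.restrict hinvJ) / ν ^ c, ?_⟩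
    field_simp
    linear_combination -hdet
  have hdisj : cyc f v ⊓ cyc f (J v) = ⊥ := by
    rw [Submodule.eq_bot_iff]
    intro u hu
    by_contra hu0
    exact hJW (cyc_minimal (hk.irr P hP) hPJ (cyc_inv v) hu.2 hu.1 hu0 (mem_cyc_self (J v)))
  have hsup : cyc f v ⊔ cyc f (J v) = movSp f := by
    refine Submodule.eq_of_le_of_finrank_le (sup_le (cyc_le hk.inv hv) (cyc_le hk.inv (hJmov v hv))) ?_
    have h3 := Submodule.finrank_sup_add_finrank_inf_eq (cyc f v) (cyc f (J v))
    rw [hdisj, finrank_bot, add_zero, hWd, finrank_cyc (hk.irr P hP) hPJ hJv0, hk.deg P hP] at h3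
    omega
  refine hne (not_nondeg_single hiso hr2 hfr hP (by rw [hk.deg P hP]; exact hodd) hk.inv
    (nondeg_movSp hr hfr h hiso) fun u hu => ?_)
  rw [← hsup] at hu
  obtain ⟨a, ⟨p, rfl⟩, b, ⟨q, rfl⟩, rfl⟩ := Submodule.mem_sup.1 hu
  simp only [evalAt_apply, map_add]
  rw [← Module.End.mul_apply, ← map_mul, mul_comm, map_mul, Module.End.mul_apply, hPv, map_zero,
    ← Module.End.mul_apply, ← map_mul, mul_comm, map_mul, Module.End.mul_apply, hPJ, map_zero, add_zero]

/-- An element with one constituent of degree `i`, `4 ∣ i`, commutes with no such `J`. -/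
theorem no_skew_even (h2 : (2 : F) ≠ 0) (hν : ¬ IsSquare ν) (hJ : SkewSq ν J)
    (hiso : ∀ u v, sympBilin d F (f u) (f v) = sympBilin d F u v) (hr : (r : F) ≠ 0)
    (hfr : f ^ r = 1) {j : ℕ} (hj : 0 < j) (hje : Even j)
    (hord : orderOf ((Fintype.card F : ℕ) : ZMod r) = 2 * j)
    (hmov : Module.finrank F (movSp f) = 2 * j)
    (hcomm : ∀ v, f (J v) = J (f v)) : False := by
  classical
  have hrp : r.Prime := Fact.out
  have h := sympHerm (F := F) (d := d)
  have hk := killed_movSp (f := f) hr hfr
  have hne : movSp f ≠ ⊥ := fun e => by rw [e, finrank_bot] at hmov; omega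
  obtain ⟨P, hP, v, hv, hv0, hPv⟩ := exists_factor _ hk.inv hne hk.kill
  have hirr := hk.irr P hP
  have hm : P.Monic := monic_factor hrp.ne_zero hP
  haveI := Fact.mk hirr
  haveI : Module.Finite F (AdjoinRoot P) := (AdjoinRoot.powerBasis' hm).finite
  haveI : Finite (AdjoinRoot P) := Module.finite_of_finite F
  have hWd : Module.finrank F (cyc f v) = 2 * j := by rw [finrank_cyc hirr hPv hv0, hk.deg P hP, hord]
  have hD : cyc f v = movSp f := Submodule.eq_of_le_of_finrank_eq (cyc_le hk.inv hv) (hWd.trans hmov.symm)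
  have hactinj : Function.Injective (act f hm v) := by
    have hrange : LinearMap.range (act f hm v) = cyc f v :=
      le_antisymm (by rintro _ ⟨a, rfl⟩; exact mem_cyc_act a) fun u hu => exists_act hirr hPv hu
    refine LinearMap.ker_eq_bot.1 (Submodule.finrank_eq_zero.1 ?_)
    have h3 := LinearMap.finrank_range_add_finrank_ker (act f hm v)
    rw [hrange, hWd, (AdjoinRoot.powerBasis' hm).finrank, AdjoinRoot.powerBasis'_dim, hk.deg P hP, hord] at h3
    omega
  obtain ⟨a, ha⟩ := exists_act (hm := hm) hirr hPv (show J v ∈ cyc f v by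
    rw [hD]
    rw [← hD] at hv
    obtain ⟨w, hw⟩ := (hD ▸ mem_cyc_self v : v ∈ movSp f)
    exact ⟨J w, by rw [← hw]; simp [hcomm]⟩)
  have hact : ∀ b, J (act f hm v b) = act f hm v (a * b) := by
    intro b
    obtain ⟨b, rfl⟩ := AdjoinRoot.mk_surjective b
    obtain ⟨a, rfl⟩ := AdjoinRoot.mk_surjective a
    rw [act_mk hirr hPv, ← aeval_commute hcomm, ← ha, act_mk hirr hPv, ← map_mul, mul_comm, act_mk hirr hPv,
      map_mul, Module.End.mul_apply]
  have haa : a * a = algebraMap F (AdjoinRoot P) ν := hactinj (by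
    rw [← hact, ha, hJ.sq, Algebra.algebraMap_eq_smul_one, map_smul, act_one hirr hPv])
  -- the conjugation fixes `a`
  obtain ⟨bar, hbar, hbarpow⟩ := exists_isConj_pow hr hj hord hP
  have hodd : Fintype.card F % 2 = 1 := by
    rcases Nat.mod_two_eq_zero_or_one (Fintype.card F) with h0 | h0
    · exact absurd (by
        rw [← FiniteField.even_card_iff_char_two] at h0
        exact_mod_cast (h0 ▸ ringChar.Nat.cast_ringChar : ((2 : ℕ) : F) = 0)) h2
    · exact h0
  have hchar : ringChar F ≠ 2 := fun e => by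
    rw [FiniteField.even_card_iff_char_two] at e; omega
  have hν0 : ν ≠ 0 := fun h0 => hν (h0 ▸ IsSquare.zero)
  have hpow : ν ^ (Fintype.card F / 2) = -1 :=
    (FiniteField.pow_dichotomy hchar hν0).resolve_left fun e => hν ((FiniteField.isSquare_iff hchar hν0).2 e)
  have haq : a ^ Fintype.card F = -a := by
    conv_lhs => rw [show Fintype.card F = 2 * (Fintype.card F / 2) + 1 by omega]
    rw [pow_succ, pow_mul, pow_two, haa, ← map_pow, hpow, map_neg, map_one, neg_one_mul]
  have haqk : ∀ k : ℕ, a ^ Fintype.card F ^ k = (-1) ^ k * a := fun k => by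
    induction k with
    | zero => simp
    | succ k ih =>
      rw [pow_succ, pow_mul, ih, mul_pow, haq, ← pow_mul, mul_comm k, pow_mul,
        (Nat.odd_iff.2 hodd).neg_one_pow, pow_succ]
      ring
  have hbara : bar a = a := by rw [hbarpow, haqk, hje.neg_one_pow, one_mul]
  -- `v` gives a totally isotropic cyclic space
  have hlam : ∀ b, sympBilin d F (act f hm v b) v = 0 := by
    intro c
    obtain ⟨b, hb⟩ := Finite.injective_iff_surjective.1 bar.injective (c * a⁻¹)
    have ha0 : a ≠ 0 := fun h0 => by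
      rw [h0, mul_zero] at haa
      exact hν0 ((algebraMap F (AdjoinRoot P)).injective (by rw [← haa, map_zero]))
    have hs := hJ.skew (act f hm v 1) (act f hm v b)
    rw [hact, hact, mul_one, form_act hirr hPv hbar hiso, form_act hirr hPv hbar hiso, map_mul bar, hbara,
      one_mul, hb, show a * (c * a⁻¹) = c by field_simp] at hs
    exact (mul_eq_zero.1 (show (2 : F) * sympBilin d F (act f hm v c) v = 0 by
      rw [two_mul]; nth_rewrite 1 [hs]; exact neg_add_cancel _)).resolve_left h2
  refine hv0 (nondeg_movSp hr hfr h hiso v hv fun u hu => ?_)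
  rw [← hD] at hu
  obtain ⟨b, rfl⟩ := exists_act (hm := hm) hirr hPv hu
  rw [← (LinearMap.IsAlt.neg (sympBilin_isAlt d F) (act f hm v b) v), hlam, neg_zero]

end odd

end CfsgLib.PrimeOrderSp
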