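import Cfsg.Prelude.Def_GeometricClasses
import Cfsg.Agent.Lib.PrimeOrderSp.Blocks
import Cfsg.Agent.Lib.PrimeOrderSp.Config
import Cfsg.Agent.Lib.PrimeOrderSp.SpGL

/-!
# Orthogonal decompositions of symplectic spaces and elements of prime order
-/

set_option autoImplicit false
set_option linter.style.haveILetI false

namespace CfsgLib.PrimeOrderSp

open CfsgLib.Geometry

universe u

section orthogonal

variable {F : Type u} [Field F] {V : Type*} [AddCommGroup V] [Module F V] {B : LinearMap.BilinForm F V}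
  {t : ℕ} {D : Fin t → Submodule F V}

/-- Components of a relation among pairwise orthogonal non-degenerate subspaces vanish. -/
theorem orth_sum_eq_zero {ι : Type*} [Fintype ι] {π : ι → Fin t} (hπ : Function.Injective π)
    (hnd : ∀ j, Nondeg (σ := RingHom.id F) B (D j))
    (ho : ∀ j j', j ≠ j' → ∀ u ∈ D j, ∀ v ∈ D j', B u v = 0)
    (x : ι → V) (hx : ∀ k, x k ∈ D (π k)) (h : ∑ k, x k = 0) : ∀ k, x k = 0 := by
  intro k
  refine hnd _ _ (hx k) fun v hv => ?_
  have e := congrArg (fun a => B a v) h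
  simp only [map_sum, LinearMap.sum_apply, map_zero, LinearMap.zero_apply] at e
  rwa [Finset.sum_eq_single_of_mem k (Finset.mem_univ k) fun l _ hl =>
    ho _ _ (fun e => hl (hπ e)) _ (hx l) _ hv] at e

theorem indep_of_orth (hnd : ∀ j, Nondeg (σ := RingHom.id F) B (D j))
    (ho : ∀ j j', j ≠ j' → ∀ u ∈ D j, ∀ v ∈ D j', B u v = 0) : iSupIndep D := by
  intro j
  rw [Submodule.disjoint_def]
  intro u hu hu'
  refine hnd j u hu fun v hv => ?_
  have hle : (⨆ (k : Fin t) (_ : k ≠ j), D k) ≤ LinearMap.ker (B.flip v) :=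
    iSup₂_le fun k hk w hw => ho k j hk w hw v hv
  exact hle hu'

variable [FiniteDimensional F V] [Fintype F] {f : Module.End F V}

/-- A decomposition respected by `f`. -/
theorem exists_dec (hA : B.IsAlt) (hnd : ∀ u, (∀ v, B u v = 0) → u = 0) (hf : ∀ u v, B (f u) (f v) = B u v)
    {r : ℕ} [Fact r.Prime] (hr : (r : F) ≠ 0) (hr2 : r ≠ 2) (hfr : f ^ r = 1) {a : ℕ} (hae : Even a) :
    ∀ (t : ℕ) (A M : Submodule F V), A ≤ fixSp f → Nondeg (σ := RingHom.id F) B A → M ≤ movSp f → Inv f M →
      Nondeg (σ := RingHom.id F) B M → Module.finrank F A + Module.finrank F M = t * a →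
      Module.finrank F M / blockDim F r ≤ t * (a / blockDim F r) →
      ∃ D : Fin t → Submodule F V, (∀ j, Inv f (D j) ∧ Nondeg (σ := RingHom.id F) B (D j) ∧
        Module.finrank F (D j) = a) ∧ (∀ j j', j ≠ j' → ∀ u ∈ D j, ∀ v ∈ D j', B u v = 0) ∧
        iSup D = A ⊔ M := by
  have h := isHerm_alt hA hnd
  have hi := orderOf_pos_iff.2 ((isOfFinOrder_iff_pow_eq_one).2
    (⟨r - 1, by have := (Fact.out : r.Prime).two_le; omega, ZMod.pow_card_sub_one_eq_one (fun h0 => by
      rw [ZMod.natCast_eq_zero_iff] at h0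
      obtain ⟨p, hp⟩ := CharP.exists F
      obtain ⟨n, hp', hq⟩ := FiniteField.card F p
      rw [hq] at h0
      exact hr ((CharP.cast_eq_zero_iff F p r).2
        (((Nat.prime_dvd_prime_iff_eq (Fact.out : r.Prime) hp').1
          ((Fact.out : r.Prime).dvd_of_dvd_pow h0)).symm ▸ dvd_rfl)))⟩ :
      ∃ n, 0 < n ∧ ((Fintype.card F : ℕ) : ZMod r) ^ n = 1))
  have hc : 0 < blockDim F r := by unfold blockDim; split_ifs <;> omega
  have hce : Even (blockDim F r) := by
    unfold blockDim
    split_ifs with he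
    · exact he
    · exact even_two_mul _
  intro t
  induction t with
  | zero =>
    intro A M _ _ _ _ _ hdim _
    rw [zero_mul] at hdim
    have e1 : A = ⊥ := Submodule.finrank_eq_zero.1 (by omega)
    have e2 : M = ⊥ := Submodule.finrank_eq_zero.1 (by omega)
    exact ⟨Fin.elim0, fun j => j.elim0, fun j => j.elim0, by rw [e1, e2, sup_idem, iSup_of_empty]⟩
  | succ t ih =>
    intro A M hAf hAn hMm hMi hMn hdim hN
    obtain ⟨hcM, hsubM⟩ := exists_sub_of_atoms h hf hc (fun D hD hDi hDn h0 =>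
      atom_mov hA hnd hf hr hr2 hfr hD hDi hDn h0) M hMm hMi hMn
    obtain ⟨hcA, hsubA⟩ := exists_sub_of_atoms h hf two_pos (fun D hD _ hDn h0 => atom_fix hA hD hDn h0)
      A hAf (fun v hv => by rwa [mem_fixSp.1 (hAf hv)]) hAn
    obtain ⟨N, hMN⟩ := hcM
    rw [hMN, Nat.mul_div_cancel_left _ hc] at hN
    set c := blockDim F r
    have hac : a / c * c ≤ a := Nat.div_mul_le_self a c
    set n := min N (a / c) with hn
    have hnN : n * c ≤ N * c := Nat.mul_le_mul_right _ (min_le_left _ _)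
    have hna : n * c ≤ a := le_trans (Nat.mul_le_mul_right _ (min_le_right _ _)) hac
    have hrest : N - n ≤ t * (a / c) := by rw [add_mul, one_mul] at hN; omega
    have hneed : a - n * c ≤ Module.finrank F A := by
      rw [add_mul, one_mul, hMN, mul_comm c] at hdim
      rcases le_total N (a / c) with hl | hl
      · rw [show n = N from min_eq_left hl]; omega
      · have h1 : (N - n) * c ≤ t * a := le_trans (Nat.mul_le_mul_right c hrest)
          (by rw [mul_assoc]; exact Nat.mul_le_mul_left t hac)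
        rw [Nat.sub_mul] at h1
        omega
    obtain ⟨e, he⟩ : 2 ∣ a - n * c := even_iff_two_dvd.1 ((Nat.even_sub (by omega)).2 (iff_of_true hae (hce.mul_left n)))
    obtain ⟨UA, hUA, hUAi, hUAn, hUAr⟩ := hsubA e (by omega)
    obtain ⟨UM, hUM, hUMi, hUMn, hUMr⟩ := hsubM n (by rw [hMN, mul_comm c]; exact hnN)
    have hAdim := finrank_perp h hAn hUA
    have hMdim := finrank_perp h hMn hUM
    obtain ⟨D, hD, hDo, hDs⟩ := ih (perp B UA ⊓ A) (perp B UM ⊓ M) (inf_le_right.trans hAf)
      (nondeg_perp h hAn hUA hUAn) (inf_le_right.trans hMm) ((hUMi.perp h hf).inf hMi)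
      (nondeg_perp h hMn hUM hUMn) (by rw [add_mul, one_mul] at hdim; omega) (by
        rw [show Module.finrank F (perp B UM ⊓ M : Submodule F V) = c * (N - n) by
          rw [Nat.mul_sub, ← hMN, mul_comm c n]; omega, Nat.mul_div_cancel_left _ hc]
        exact hrest)
    have horth : ∀ x ∈ UA, ∀ y ∈ UM, B x y = 0 ∧ B y x = 0 := fun x hx y hy =>
      orth_fix_mov h hf x (hAf (hUA hx)) y (hMm (hUM hy))
    have hUn : Nondeg (σ := RingHom.id F) B (UA ⊔ UM) :=
      nondeg_sup_orth h hUAn hUMn fun y hy => mem_perp.2 fun x hx => (horth x hx y hy).2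
    have hrest' : (perp B UA ⊓ A) ⊔ (perp B UM ⊓ M) ≤ perp B (UA ⊔ UM) := by
      refine sup_le ?_ ?_ <;> intro y hy <;> refine mem_perp.2 fun x hx => ?_ <;>
        obtain ⟨p, hp, q, hq, rfl⟩ := Submodule.mem_sup.1 hx <;> rw [map_add]
      · rw [hy.1 p hp, (orth_fix_mov h hf y (hAf hy.2) q (hMm (hUM hq))).1, add_zero]
      · rw [hy.1 q hq, (orth_fix_mov h hf p (hAf (hUA hp)) y (hMm hy.2)).2, add_zero]
    refine ⟨Fin.cons (UA ⊔ UM) D, fun j => ?_, fun j j' hjj u hu v hv => ?_, ?_⟩
    · refine Fin.cases ?_ (fun i => ?_) j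
      · refine ⟨hUAi.sup hUMi, hUn, ?_⟩
        have h2 := Submodule.finrank_sup_add_finrank_inf_eq UA UM
        rw [show UA ⊓ UM = ⊥ from ((isCompl_fix_mov hr hfr).disjoint.mono (hUA.trans hAf) (hUM.trans hMm)).eq_bot,
          finrank_bot, add_zero, hUAr, hUMr] at h2
        rw [Fin.cons_zero]
        omega
      · rw [Fin.cons_succ]; exact hD i
    · revert hu hv hjj
      refine Fin.cases (Fin.cases ?_ (fun i' => ?_) j') (fun i => Fin.cases ?_ (fun i' => ?_) j') j <;>
        intro hjj hu hv <;> simp only [Fin.cons_zero, Fin.cons_succ] at hu hv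
      · exact absurd rfl hjj
      · exact h.refl (hrest' (hDs ▸ le_iSup D i' hv) u hu)
      · exact hrest' (hDs ▸ le_iSup D i hu) v hv
      · exact hDo i i' (fun e => hjj (by rw [e])) u hu v hv
    · have hsup : iSup (Fin.cons (UA ⊔ UM) D : Fin (t + 1) → Submodule F V) = (UA ⊔ UM) ⊔ iSup D :=
        le_antisymm (iSup_le fun j => Fin.cases (by simp)
          (fun i => by simp only [Fin.cons_succ]; exact le_sup_of_le_right (le_iSup D i)) j)
          (sup_le (le_iSup_of_le 0 (by simp)) (iSup_le fun i => le_iSup_of_le i.succ (by simp)))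
      rw [hsup, hDs, sup_sup_sup_comm, sup_perp h hAn hUA hUAn, sup_perp h hMn hUM hUMn]

omit [Fintype F] in
/-- The dimensions forced by a permuted decomposition: the fixed summands. -/
theorem fixed_summand [Fintype F] (hA : B.IsAlt) (hnd : ∀ u, (∀ v, B u v = 0) → u = 0)
    (hf : ∀ u v, B (f u) (f v) = B u v) {r : ℕ} [Fact r.Prime] (hr : (r : F) ≠ 0) (hr2 : r ≠ 2) (hfr : f ^ r = 1)
    (hc : 0 < blockDim F r) {W : Submodule F V} (hWi : Inv f W) (hW : Nondeg (σ := RingHom.id F) B W) :
    blockDim F r ∣ Module.finrank F (W ⊓ movSp f : Submodule F V) ∧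
      Module.finrank F (W ⊓ fixSp f : Submodule F V) + Module.finrank F (W ⊓ movSp f : Submodule F V) =
        Module.finrank F W := by
  have h := isHerm_alt hA hnd
  have hdim := split_inv hr hfr hWi
  have hsup : (W ⊓ fixSp f) ⊔ (W ⊓ movSp f) = W := by
    refine Submodule.eq_of_le_of_finrank_le (sup_le inf_le_left inf_le_left) ?_
    have h2 := Submodule.finrank_sup_add_finrank_inf_eq (W ⊓ fixSp f) (W ⊓ movSp f)
    rw [((isCompl_fix_mov hr hfr).disjoint.mono inf_le_right inf_le_right).eq_bot, finrank_bot, add_zero] at h2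
    omega
  refine ⟨?_, by omega⟩
  refine ((exists_sub_of_atoms h hf hc (fun D hD hDi hDn h0 => atom_mov hA hnd hf hr hr2 hfr hD hDi hDn h0)
    _ inf_le_right (hWi.inf inv_movSp) fun u hu hu' => hW u hu.1 fun w hw => ?_)).1
  rw [← hsup] at hw
  obtain ⟨x, hx, y, hy, rfl⟩ := Submodule.mem_sup.1 hw
  rw [map_add, (orth_fix_mov h hf x hx.2 u hu.2).2, hu' y hy, add_zero]

omit [Fintype F] in
/-- The dimensions forced by a permuted decomposition: the moved summands. -/
theorem moved_summand (hnd : ∀ j, Nondeg (σ := RingHom.id F) B (D j))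
    (ho : ∀ j j', j ≠ j' → ∀ u ∈ D j, ∀ v ∈ D j', B u v = 0)
    (hD0 : ∀ j, D j ≠ ⊥) {σ : Equiv.Perm (Fin t)} (hσ : ∀ j, (D j).map f = D (σ j))
    {r : ℕ} (hrp : r.Prime) (hfr : f ^ r = 1) {a : ℕ} (ha : ∀ j, Module.finrank F (D j) = a) {j : Fin t}
    (hj : σ j ≠ j) : a ≤ Module.finrank F (fixSp f) ∧ (r - 1) * a ≤ Module.finrank F (movSp f) := by
  have hinj : Function.Injective D := fun x y e => by
    by_contra hxy
    have := (indep_of_orth hnd ho x)
    refine hD0 x (disjoint_self.1 (this.mono_right ?_))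
    rw [e]
    exact le_iSup₂_of_le y (Ne.symm hxy) le_rfl
  have hpow : ∀ (n : ℕ) x, (D x).map (f ^ n) = D ((σ ^ n) x) := fun n => by
    induction n with
    | zero => intro x; simp [Module.End.one_eq_id]
    | succ n ih => intro x; rw [pow_succ', pow_succ', Module.End.mul_eq_comp, Submodule.map_comp, ih, hσ]; rfl
  have hσr : σ ^ r = 1 := Equiv.ext fun x => hinj (by
    rw [← hpow, hfr, Module.End.one_eq_id, Submodule.map_id]; rfl)
  let π : Fin r → Fin t := fun i => (σ ^ (i : ℕ)) j
  have hπ : Function.Injective π := by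
    intro i k e
    by_contra hik
    wlog hlt : (i : ℕ) < k generalizing i k
    · exact this e.symm (Ne.symm hik) (lt_of_le_of_ne (not_lt.1 hlt) fun e' => hik (Fin.ext e'.symm))
    set m := (k : ℕ) - i with hm
    have hfix : (σ ^ m) j = j := by
      have e' : (σ ^ (i : ℕ)) j = (σ ^ (k : ℕ)) j := e
      rw [show (k : ℕ) = i + m by omega, pow_add, Equiv.Perm.mul_apply] at e'
      exact ((σ ^ (i : ℕ)).injective e').symm
    have hfix' : ∀ n, ((σ ^ m) ^ n) j = j := fun n => by
      induction n with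
      | zero => simp
      | succ n ih => rw [pow_succ', Equiv.Perm.mul_apply, ih, hfix]
    obtain ⟨n, hn⟩ : ∃ n, m * n % r = 1 := by
      haveI := Fact.mk hrp
      refine ⟨((m : ZMod r)⁻¹).val, ?_⟩
      have hm0 : (m : ZMod r) ≠ 0 := fun e => by
        rw [ZMod.natCast_eq_zero_iff] at e
        have := Nat.le_of_dvd (by omega) e
        have := k.isLt
        omega
      rw [← ZMod.val_natCast, Nat.cast_mul, ZMod.natCast_zmod_val, mul_inv_cancel₀ hm0, ZMod.val_one]
    refine hj ?_
    have h1 := hfix' n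
    rw [← pow_mul, ← Nat.div_add_mod (m * n) r, hn, pow_add, pow_mul, hσr, one_pow, one_mul, pow_one] at h1
    exact h1
  have hmem : ∀ (i : ℕ) (v : V), v ∈ D j → (f ^ i) v ∈ D ((σ ^ i) j) := fun i v hv => by
    rw [← hpow]; exact Submodule.mem_map_of_mem hv
  have hfinj : ∀ (i : ℕ) (v : V), i ≤ r → (f ^ i) v = 0 → v = 0 := fun i v hi e => by
    have := congrArg (f ^ (r - i)) e
    rwa [← Module.End.mul_apply, ← pow_add, Nat.sub_add_cancel hi, hfr, map_zero, Module.End.one_apply] at this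
  constructor
  · let T : D j →ₗ[F] fixSp f := ((∑ i ∈ Finset.range r, f ^ i).comp (D j).subtype).codRestrict _ fun v => by
      rw [mem_fixSp, ← sub_eq_zero]
      have e := congrArg (fun G : Module.End F V => G (v : V)) (mul_geom_sum f r)
      simpa [hfr, Module.End.mul_apply, LinearMap.sub_apply] using e
    have hT : Function.Injective T := (injective_iff_map_eq_zero _).2 fun v hv => by
      have e : ∑ i : Fin r, (f ^ (i : ℕ)) (v : V) = 0 := by
        rw [Fin.sum_univ_eq_sum_range (fun i => (f ^ i) (v : V))]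
        simpa [T, LinearMap.sum_apply] using congrArg Subtype.val hv
      exact Subtype.ext (hfinj 0 _ (Nat.zero_le r)
        (orth_sum_eq_zero hπ hnd ho _ (fun i => hmem i _ v.2) e ⟨0, hrp.pos⟩))
    rw [← ha j]
    exact LinearMap.finrank_le_finrank_of_injective hT
  · let T : (Fin (r - 1) → D j) →ₗ[F] movSp f :=
      (∑ i : Fin (r - 1), ((f ^ ((i : ℕ) + 1) - 1).comp (D j).subtype).comp
        (LinearMap.proj i)).codRestrict _ fun v => by
        rw [LinearMap.sum_apply]
        refine Submodule.sum_mem _ fun i _ => ⟨(∑ k ∈ Finset.range ((i : ℕ) + 1), f ^ k) (v i : V), ?_⟩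
        rw [← Module.End.mul_apply, mul_geom_sum]
        rfl
    have hT : Function.Injective T := (injective_iff_map_eq_zero _).2 fun v hv => by
      have e0 : ∑ i : Fin (r - 1), ((f ^ ((i : ℕ) + 1)) (v i : V) - (v i : V)) = 0 := by
        simpa [T, LinearMap.sum_apply] using congrArg Subtype.val hv
      funext i
      refine Subtype.ext (hfinj ((i : ℕ) + 1) _ (by omega) ?_)
      let π' : Option (Fin (r - 1)) → Fin t := fun o =>
        match o with
        | none => π ⟨0, hrp.pos⟩
        | some k => π ⟨(k : ℕ) + 1, by omega⟩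
      have hπ' : Function.Injective π' := by
        rintro (_ | x) (_ | y) hxy
        · rfl
        · exact absurd (hπ hxy) (by simp)
        · exact absurd (hπ hxy) (by simp)
        · exact congrArg some (Fin.ext (by simpa using hπ hxy))
      let x : Option (Fin (r - 1)) → V := fun o =>
        match o with
        | none => -∑ k, (v k : V)
        | some k => (f ^ ((k : ℕ) + 1)) (v k : V)
      refine orth_sum_eq_zero hπ' hnd ho x (fun o => ?_) ?_ (some i)
      · rcases o with _ | k
        · show -∑ k, (v k : V) ∈ D ((σ ^ 0) j)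
          rw [pow_zero]
          exact neg_mem (sum_mem fun k _ => (v k).2)
        · exact hmem _ _ (v k).2
      · rw [Fintype.sum_option]
        show -∑ k, (v k : V) + ∑ k : Fin (r - 1), (f ^ ((k : ℕ) + 1)) (v k : V) = 0
        rw [Finset.sum_sub_distrib] at e0
        rw [← e0]; abel
    have h := LinearMap.finrank_le_finrank_of_injective hT
    rwa [Module.finrank_pi_fintype, Finset.sum_const, Finset.card_univ, Fintype.card_fin, ha j, smul_eq_mul] at h

omit [Fintype F] in
theorem sum_finrank_le (hnd : ∀ j, Nondeg (σ := RingHom.id F) B (D j))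
    (ho : ∀ j j', j ≠ j' → ∀ u ∈ D j, ∀ v ∈ D j', B u v = 0) (S : Submodule F V) :
    ∑ j, Module.finrank F (D j ⊓ S : Submodule F V) ≤ Module.finrank F S := by
  let T : ((j : Fin t) → (D j ⊓ S : Submodule F V)) →ₗ[F] S :=
    (∑ j, (D j ⊓ S).subtype.comp (LinearMap.proj j)).codRestrict S fun v => by
      rw [LinearMap.sum_apply]
      exact sum_mem fun j _ => (v j).2.2
  have hT : Function.Injective T := (injective_iff_map_eq_zero _).2 fun v hv => funext fun j => Subtype.ext
    (orth_sum_eq_zero (π := id) Function.injective_id hnd ho (fun j => (v j : V)) (fun j => (v j).2.1)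
      (by simpa [T, LinearMap.sum_apply] using congrArg Subtype.val hv) j)
  have h := LinearMap.finrank_le_finrank_of_injective hT
  rwa [Module.finrank_pi_fintype] at h

end orthogonal

section count

variable {F : Type u} [Field F] {d : ℕ}

/-- Orthogonal decompositions into `t` non-degenerate summands of dimension `a`. -/
def IsOrthDec (a : ℕ) {t : ℕ} (D : Fin t → Submodule F (Fin d ⊕ Fin d → F)) : Prop :=
  Cfsg.Geo.IsMDecomposition a D ∧ (∀ j, ∀ u ∈ D j, u ≠ 0 → ∃ v ∈ D j, Cfsg.sympForm d F u v ≠ 0) ∧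
    (∀ j j', j ≠ j' → ∀ u ∈ D j, ∀ v ∈ D j', Cfsg.sympForm d F u v = 0)

theorem IsOrthDec.nondeg {a t : ℕ} {D : Fin t → Submodule F (Fin d ⊕ Fin d → F)} (h : IsOrthDec a D) (j : Fin t) :
    Nondeg (σ := RingHom.id F) (sympBilin d F) (D j) := fun u hu hu' => by
  by_contra hu0
  obtain ⟨v, hv, hne⟩ := h.2.1 j u hu hu0
  exact hne (hu' v hv)

theorem exists_map_dec {a t : ℕ} {D D' : Fin t → Submodule F (Fin d ⊕ Fin d → F)} (hD : IsOrthDec a D)
    (hD' : IsOrthDec a D') : ∃ A : Matrix.symplecticGroup (Fin d) F, ∀ j,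
      (D j).map (Matrix.toLin' (A : Matrix (Fin d ⊕ Fin d) (Fin d ⊕ Fin d) F)) = D' j := by
  classical
  have hA := sympBilin_isAlt d F
  choose m b b1 b2 b3 using fun j => exists_sympBasis_of_nondeg hA (D j) (hD.nondeg j)
  choose m' b' b1' b2' b3' using fun j => exists_sympBasis_of_nondeg hA (D' j) (hD'.nondeg j)
  have hm : m' = m := funext fun j => by
    have e1 := Module.finrank_eq_card_basis (b j)
    have e2 := Module.finrank_eq_card_basis (b' j)
    rw [hD.1.finrank_eq, Fintype.card_sum, Fintype.card_fin] at e1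
    rw [hD'.1.finrank_eq, Fintype.card_sum, Fintype.card_fin] at e2
    omega
  subst hm
  let I := Σ j : Fin t, Fin (m' j) ⊕ Fin (m' j)
  let fam : I → (Fin d ⊕ Fin d → F) := fun x => (b x.1 x.2 : Fin d ⊕ Fin d → F)
  let fam' : I → (Fin d ⊕ Fin d → F) := fun x => (b' x.1 x.2 : Fin d ⊕ Fin d → F)
  have hli : ∀ {E : Fin t → Submodule F (Fin d ⊕ Fin d → F)}, IsOrthDec a E →
      ∀ (c : ∀ j, Module.Basis (Fin (m' j) ⊕ Fin (m' j)) F (E j)),
      LinearIndependent F (fun x : I => (c x.1 x.2 : Fin d ⊕ Fin d → F)) := by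
    intro E hE c
    rw [Fintype.linearIndependent_iff]
    intro g hg x
    obtain ⟨j, y⟩ := x
    rw [Fintype.sum_sigma] at hg
    have h0 := orth_sum_eq_zero (π := id) Function.injective_id hE.nondeg hE.2.2
      (fun j => ∑ y, g ⟨j, y⟩ • (c j y : Fin d ⊕ Fin d → F))
      (fun j => sum_mem fun y _ => Submodule.smul_mem _ _ (c j y).2) hg j
    refine Fintype.linearIndependent_iff.1 (c j).linearIndependent (fun y => g ⟨j, y⟩) (Subtype.ext ?_) y
    simpa using h0
  have hgram : ∀ x y : I, Cfsg.sympForm d F (fam x) (fam y) = Cfsg.sympForm d F (fam' x) (fam' y) := by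
    rintro ⟨j, x⟩ ⟨j', y⟩
    by_cases hjj : j = j'
    · subst hjj
      simp only [fam, fam', ← sympBilin_apply]
      rcases x with x | x <;> rcases y with y | y
      · rw [b2 j, b2' j]
      · rw [b1 j, b1' j]
      · rw [← (LinearMap.IsAlt.neg hA (b j (.inl y) : Fin d ⊕ Fin d → F) _), b1 j,
          ← (LinearMap.IsAlt.neg hA (b' j (.inl y) : Fin d ⊕ Fin d → F) _), b1' j]
      · rw [b3 j, b3' j]
    · rw [hD.2.2 j j' hjj _ (b j x).2 _ (b j' y).2, hD'.2.2 j j' hjj _ (b' j x).2 _ (b' j' y).2]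
  let τ := (Fintype.equivFin I).symm
  obtain ⟨A, hA'⟩ := sp_extend d F (fam ∘ τ) (fam' ∘ τ) ((hli hD b).comp _ τ.injective)
    ((hli hD' b').comp _ τ.injective) fun i j => hgram _ _
  refine ⟨A, fun j => Submodule.eq_of_le_of_finrank_eq ?_ ?_⟩
  · rintro _ ⟨v, hv, rfl⟩
    rw [show v = ((⟨v, hv⟩ : D j) : Fin d ⊕ Fin d → F) from rfl, ← (b j).sum_repr ⟨v, hv⟩, Submodule.coe_sum,
      map_sum]
    refine sum_mem fun y _ => ?_
    rw [Submodule.coe_smul, map_smul, Matrix.toLin'_apply]
    refine Submodule.smul_mem _ _ ?_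
    have e := hA' (τ.symm ⟨j, y⟩)
    simp only [Function.comp_apply, Equiv.apply_symm_apply] at e
    rw [show (b j y : Fin d ⊕ Fin d → F) = fam ⟨j, y⟩ from rfl, e]
    exact (b' j y).2
  · rw [hD'.1.finrank_eq, ← hD.1.finrank_eq j]
    exact (Submodule.equivMapOfInjective _ (spEquiv d F A).injective (D j)).finrank_eq.symm

theorem IsOrthDec.map_spEquiv {a t : ℕ} {D : Fin t → Submodule F (Fin d ⊕ Fin d → F)} (hD : IsOrthDec a D)
    (A : Matrix.symplecticGroup (Fin d) F) :
    IsOrthDec a (fun j => (D j).map (spEquiv d F A).toLinearMap) := by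
  have hiso : ∀ u v, Cfsg.sympForm d F (spEquiv d F A u) (spEquiv d F A v) = Cfsg.sympForm d F u v :=
    fun u v => spEquiv_preserves d F A u v
  obtain ⟨⟨h2, hpos, hfr, hind, htop⟩, hn, ho⟩ := hD
  have ho' : ∀ j j', j ≠ j' → ∀ u ∈ (D j).map (spEquiv d F A).toLinearMap,
      ∀ v ∈ (D j').map (spEquiv d F A).toLinearMap, Cfsg.sympForm d F u v = 0 := by
    rintro j j' hjj _ ⟨u, hu, rfl⟩ _ ⟨v, hv, rfl⟩
    exact (hiso u v).trans (ho j j' hjj u hu v hv)
  have hn' : ∀ j, ∀ u ∈ (D j).map (spEquiv d F A).toLinearMap, u ≠ 0 →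
      ∃ v ∈ (D j).map (spEquiv d F A).toLinearMap, Cfsg.sympForm d F u v ≠ 0 := by
    rintro j _ ⟨u, hu, rfl⟩ hu0
    obtain ⟨v, hv, hne⟩ := hn j u hu fun e => hu0 (by simp [e])
    exact ⟨_, ⟨v, hv, rfl⟩, fun e => hne ((hiso u v).symm.trans e)⟩
  refine ⟨⟨h2, hpos, fun j => ((spEquiv d F A).finrank_map_eq _).trans (hfr j), ?_, ?_⟩, hn', ho'⟩
  · refine indep_of_orth (B := sympBilin d F) (fun j u hu hu' => ?_) ho'
    by_contra hu0
    obtain ⟨v, hv, hne⟩ := hn' j u hu hu0
    exact hne (hu' v hv)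
  · rw [← Submodule.map_iSup, htop, Submodule.map_top, LinearEquiv.range]

theorem IsOrthDec.comp_perm {a t : ℕ} {D : Fin t → Submodule F (Fin d ⊕ Fin d → F)} (hD : IsOrthDec a D)
    (s : Equiv.Perm (Fin t)) : IsOrthDec a (fun j => D (s j)) := by
  obtain ⟨⟨h2, hpos, hfr, hind, htop⟩, hn, ho⟩ := hD
  exact ⟨⟨h2, hpos, fun j => hfr _, hind.comp s.injective, (Equiv.iSup_comp (g := D) s).trans htop⟩,
    fun j => hn _, fun j j' hjj => ho _ _ fun e => hjj (s.injective e)⟩

/-- The symplectic group acts on the decompositions. -/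
@[instance_reducible] noncomputable def decAction (F : Type u) [Field F] (d a t : ℕ) :
    MulAction (Matrix.symplecticGroup (Fin d) F)
      {D : Fin t → Submodule F (Fin d ⊕ Fin d → F) // IsOrthDec a D} where
  smul A D := ⟨fun j => (D.1 j).map (spEquiv d F A).toLinearMap, D.2.map_spEquiv A⟩
  one_smul D := Subtype.ext (funext fun j => by
    show (D.1 j).map (spEquiv d F 1).toLinearMap = _
    rw [map_one]; exact Submodule.map_id _)
  mul_smul A B D := Subtype.ext (funext fun j => by
    show (D.1 j).map (spEquiv d F (A * B)).toLinearMap = ((D.1 j).map _).map _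
    rw [map_mul, ← Submodule.map_comp]; rfl)

/-- The permutations act on the decompositions. -/
@[instance_reducible] def permAction (F : Type u) [Field F] (d a t : ℕ) :
    MulAction (Equiv.Perm (Fin t)) {D : Fin t → Submodule F (Fin d ⊕ Fin d → F) // IsOrthDec a D} where
  smul s D := ⟨fun j => D.1 (s⁻¹ j), D.2.comp_perm s⁻¹⟩
  one_smul D := Subtype.ext (funext fun j => rfl)
  mul_smul s s' D := Subtype.ext (funext fun j => by
    show D.1 ((s * s')⁻¹ j) = D.1 (s'⁻¹ (s⁻¹ j))
    rw [mul_inv_rev]; rfl)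

theorem card_decs_dvd {a t : ℕ} (x₀ : {D : Fin t → Submodule F (Fin d ⊕ Fin d → F) // IsOrthDec a D}) :
    Nat.card {D : Fin t → Submodule F (Fin d ⊕ Fin d → F) // IsOrthDec a D} ∣
      Nat.card (Matrix.symplecticGroup (Fin d) F) := by
  letI := decAction F d a t
  have htrans : ∀ D, D ∈ MulAction.orbit (Matrix.symplecticGroup (Fin d) F) x₀ := fun D => by
    obtain ⟨A, hA⟩ := exists_map_dec x₀.2 D.2
    refine ⟨A, Subtype.ext (funext fun j => ?_)⟩
    show (x₀.1 j).map (spEquiv d F A).toLinearMap = D.1 j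
    rw [← hA j]
    exact congrArg (fun T => Submodule.map T (x₀.1 j)) (LinearMap.ext fun v => by simp)
  rw [← Nat.card_congr (Equiv.subtypeUnivEquiv htrans), Nat.card_congr
    (MulAction.orbitEquivQuotientStabilizer (Matrix.symplecticGroup (Fin d) F) x₀)]
  exact Subgroup.card_quotient_dvd_card _

theorem factorial_dvd_decs {a t : ℕ} :
    Nat.factorial t ∣ Nat.card {D : Fin t → Submodule F (Fin d ⊕ Fin d → F) // IsOrthDec a D} := by
  letI := permAction F d a t
  have hfree : ∀ D : {D : Fin t → Submodule F (Fin d ⊕ Fin d → F) // IsOrthDec a D},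
      MulAction.stabilizer (Equiv.Perm (Fin t)) D = ⊥ := fun D => by
    rw [Subgroup.eq_bot_iff_forall]
    intro s hs
    refine Equiv.ext fun j => ?_
    by_contra hne
    obtain ⟨⟨h2, hpos, hfr, hind, -⟩, -⟩ := D.2
    have hne' : j ≠ s j := fun e => hne e.symm
    have e : D.1 (s⁻¹ (s j)) = D.1 (s j) :=
      congrFun (congrArg Subtype.val (MulAction.mem_stabilizer_iff.1 hs)) (s j)
    rw [Equiv.Perm.inv_def, Equiv.symm_apply_apply] at e
    have hdis := (hind (s j)).mono_right (le_iSup₂_of_le (f := fun k (_ : k ≠ s j) => D.1 k) j hne' e.ge)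
    have := hfr (s j)
    rw [disjoint_self.1 hdis, finrank_bot] at this
    omega
  rw [Nat.card_congr (MulAction.selfEquivOrbitsQuotientProd hfree), Nat.card_prod, Nat.card_perm, Nat.card_fin]
  exact dvd_mul_left _ _

/-- A prime dividing the number of decompositions divides the group order. -/
theorem dvd_card_of_dvd_decs {a t r : ℕ}
    (x₀ : {D : Fin t → Submodule F (Fin d ⊕ Fin d → F) // IsOrthDec a D})
    (h : r ∣ Nat.card {D : Fin t → Submodule F (Fin d ⊕ Fin d → F) // IsOrthDec a D} / Nat.factorial t) :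
    r ∣ Nat.card (Matrix.symplecticGroup (Fin d) F) :=
  (h.trans (Nat.div_dvd_of_dvd factorial_dvd_decs)).trans (card_decs_dvd x₀)

end count

end CfsgLib.PrimeOrderSp
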