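import Mathlib

/-!
# Isometries with scalar square of an alternating space

An isometry `f` with `f² = z`, `z² = 1`, of a non-degenerate alternating space permutes the planes of some
decomposition into orthogonal hyperbolic planes.
-/

set_option autoImplicit false

namespace CfsgLib.PrimeOrderSp

variable {F : Type*} [Field F] {V : Type*} [AddCommGroup V] [Module F V]

/-- The orthogonal of two vectors. -/
def perp2 (B : LinearMap.BilinForm F V) (a b : V) : Submodule F V :=
  LinearMap.ker (B a) ⊓ LinearMap.ker (B b)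

/-- The form is non-degenerate on `W`. -/
def NDOn (B : LinearMap.BilinForm F V) (W : Submodule F V) : Prop :=
  ∀ u ∈ W, (∀ v ∈ W, B u v = 0) → u = 0

variable {B : LinearMap.BilinForm F V}

theorem mem_perp2 {a b x : V} : x ∈ perp2 B a b ↔ B a x = 0 ∧ B b x = 0 := Iff.rfl

/-- Splitting off a hyperbolic plane. -/
theorem split_plane (hA : B.IsAlt) {W : Submodule F V} {a b : V} (ha : a ∈ W) (hb : b ∈ W)
    (hab : B a b ≠ 0) (hW : NDOn B W) :
    W ≤ Submodule.span F {a, b} ⊔ (W ⊓ perp2 B a b) ∧ NDOn B (W ⊓ perp2 B a b) ∧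
      a ∉ W ⊓ perp2 B a b := by
  have sw : ∀ u v : V, B u v = - B v u := fun u v => (LinearMap.IsAlt.neg hA v u).symm
  have key : ∀ x ∈ W, ∃ c d : F, x - (c • a + d • b) ∈ W ⊓ perp2 B a b := fun x hx =>
    ⟨B x b / B a b, B a x / B a b,
      W.sub_mem hx (W.add_mem (W.smul_mem _ ha) (W.smul_mem _ hb)), mem_perp2.2 ⟨by
        simp only [map_sub, map_add, map_smul, smul_eq_mul, hA a, mul_zero, zero_add]
        field_simp
        simp, by
        simp only [map_sub, map_add, map_smul, smul_eq_mul, hA b, mul_zero, add_zero]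
        rw [sw b x, sw b a]
        field_simp
        ring⟩⟩
  refine ⟨fun x hx => ?_, fun u hu h => hW u hu.1 fun v hv => ?_, fun h => ?_⟩
  · obtain ⟨c, d, hcd⟩ := key x hx
    refine Submodule.mem_sup.2 ⟨c • a + d • b, ?_, _, hcd, add_sub_cancel _ _⟩
    exact Submodule.mem_span_pair.2 ⟨c, d, rfl⟩
  · obtain ⟨c, d, hcd⟩ := key v hv
    have h1 := h _ hcd
    obtain ⟨h2, h3⟩ := mem_perp2.1 hu.2
    have h2' : B u a = 0 := by rw [sw, h2, neg_zero]
    have h3' : B u b = 0 := by rw [sw, h3, neg_zero]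
    simpa [h2', h3'] using h1
  · exact hab (by rw [sw, (mem_perp2.1 h.2).2, neg_zero])

/-- A system of orthogonal hyperbolic planes permuted by `f`. -/
structure PlaneSys (B : LinearMap.BilinForm F V) (f : V →ₗ[F] V) (z : F) (W : Submodule F V) (n : ℕ) where
  /-- the permutation of the planes -/
  perm : Equiv.Perm (Fin n)
  /-- first vectors -/
  a : Fin n → V
  /-- second vectors -/
  b : Fin n → V
  invol : ∀ i, perm (perm i) = i
  a_mem : ∀ i, a i ∈ W
  b_mem : ∀ i, b i ∈ W
  pair : ∀ i, B (a i) (b i) ≠ 0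
  orth : ∀ i j, i ≠ j → B (a i) (a j) = 0 ∧ B (a i) (b j) = 0 ∧ B (b i) (a j) = 0 ∧ B (b i) (b j) = 0
  span : W ≤ Submodule.span F (Set.range a ∪ Set.range b)
  kind : ∀ i, (∃ c : F, f (a i) = c • a (perm i) ∧ f (b i) = c • b (perm i)) ∨
    (perm i = i ∧ f (a i) = b i ∧ f (b i) = z • a i)

/-- Adjoining systems. -/
theorem PlaneSys.append {f : V →ₗ[F] V} {z : F} {W W₁ W₂ : Submodule F V} {n m : ℕ}
    (S : PlaneSys B f z W₁ n) (T : PlaneSys B f z W₂ m) (h1 : W₁ ≤ W) (h2 : W₂ ≤ W) (h3 : W ≤ W₁ ⊔ W₂)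
    (ho : ∀ u ∈ W₁, ∀ v ∈ W₂, B u v = 0 ∧ B v u = 0) : Nonempty (PlaneSys B f z W (n + m)) := by
  refine ⟨{
    perm := finSumFinEquiv.permCongr (Equiv.sumCongr S.perm T.perm)
    a := fun i => Sum.elim S.a T.a (finSumFinEquiv.symm i)
    b := fun i => Sum.elim S.b T.b (finSumFinEquiv.symm i)
    invol := ?_, a_mem := ?_, b_mem := ?_, pair := ?_, orth := ?_, span := ?_, kind := ?_ }⟩
  · intro i
    obtain ⟨(i | i), rfl⟩ := finSumFinEquiv.surjective i <;>
      simp [Equiv.permCongr_apply, S.invol, T.invol]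
  · intro i
    obtain ⟨(i | i), rfl⟩ := finSumFinEquiv.surjective i <;>
      simp [h1 (S.a_mem _), h2 (T.a_mem _)]
  · intro i
    obtain ⟨(i | i), rfl⟩ := finSumFinEquiv.surjective i <;>
      simp [h1 (S.b_mem _), h2 (T.b_mem _)]
  · intro i
    obtain ⟨(i | i), rfl⟩ := finSumFinEquiv.surjective i <;> simp [S.pair, T.pair]
  · intro i j hij
    obtain ⟨(i | i), rfl⟩ := finSumFinEquiv.surjective i <;>
      obtain ⟨(j | j), rfl⟩ := finSumFinEquiv.surjective j <;>
      simp only [Equiv.symm_apply_apply, Sum.elim_inl, Sum.elim_inr]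
    · exact S.orth i j fun e => hij (by rw [e])
    · exact ⟨(ho _ (S.a_mem i) _ (T.a_mem j)).1, (ho _ (S.a_mem i) _ (T.b_mem j)).1,
        (ho _ (S.b_mem i) _ (T.a_mem j)).1, (ho _ (S.b_mem i) _ (T.b_mem j)).1⟩
    · exact ⟨(ho _ (S.a_mem j) _ (T.a_mem i)).2, (ho _ (S.b_mem j) _ (T.a_mem i)).2,
        (ho _ (S.a_mem j) _ (T.b_mem i)).2, (ho _ (S.b_mem j) _ (T.b_mem i)).2⟩
    · exact T.orth i j fun e => hij (by rw [e])
  · refine h3.trans (sup_le (S.span.trans (Submodule.span_mono ?_)) (T.span.trans (Submodule.span_mono ?_)))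
    · rintro x (⟨i, rfl⟩ | ⟨i, rfl⟩)
      · exact Or.inl ⟨finSumFinEquiv (Sum.inl i), by simp⟩
      · exact Or.inr ⟨finSumFinEquiv (Sum.inl i), by simp⟩
    · rintro x (⟨i, rfl⟩ | ⟨i, rfl⟩)
      · exact Or.inl ⟨finSumFinEquiv (Sum.inr i), by simp⟩
      · exact Or.inr ⟨finSumFinEquiv (Sum.inr i), by simp⟩
  · intro i
    obtain ⟨(i | i), rfl⟩ := finSumFinEquiv.surjective i
    · simpa [Equiv.permCongr_apply] using S.kind i
    · simpa [Equiv.permCongr_apply] using T.kind i

/-- Isometries with scalar square permute the planes of an orthogonal decomposition. -/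
theorem exists_planeSys [FiniteDimensional F V] (hA : B.IsAlt) (f : V →ₗ[F] V)
    (hiso : ∀ u v, B (f u) (f v) = B u v) (z : F) (hz : z * z = 1) (hff : ∀ v, f (f v) = z • v)
    (W : Submodule F V) (hW : NDOn B W) (hfW : ∀ v ∈ W, f v ∈ W) :
    ∃ n, Nonempty (PlaneSys B f z W n) := by
  suffices H : ∀ (k : ℕ) (W : Submodule F V), Module.finrank F W ≤ k → NDOn B W →
      (∀ v ∈ W, f v ∈ W) → ∃ n, Nonempty (PlaneSys B f z W n) from H _ W le_rfl hW hfW
  intro k
  induction k with
  | zero =>
    intro W hk _ _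
    have h0 : W = ⊥ := Submodule.finrank_eq_zero.1 (Nat.le_zero.1 hk)
    exact ⟨0, ⟨⟨1, Fin.elim0, Fin.elim0, fun i => i.elim0, fun i => i.elim0, fun i => i.elim0,
      fun i => i.elim0, fun i => i.elim0, by simp [h0], fun i => i.elim0⟩⟩⟩
  | succ k ih =>
    intro W hk hW hfW
    by_cases h0 : W = ⊥
    · exact ih W (by subst h0; simp) hW hfW
    have sw : ∀ u v : V, B u v = - B v u := fun u v => (LinearMap.IsAlt.neg hA v u).symm
    -- `f` respects orthogonality to an invariant pair
    have inv : ∀ a y : V, B (f a) y = 0 → B a (f y) = 0 := fun a y h => by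
      have h1 := hiso (f a) y
      rw [h, hff, map_smul, LinearMap.smul_apply, smul_eq_mul] at h1
      rcases mul_eq_zero.1 h1 with h2 | h2
      · rw [h2, zero_mul] at hz; exact absurd hz zero_ne_one
      · exact h2
    have inv' : ∀ a y : V, B a y = 0 → B (f a) (f y) = 0 := fun a y h => (hiso a y).trans h
    -- the complement of one plane
    have single : ∀ a b, a ∈ W → b ∈ W → B a b ≠ 0 →
        ((f a = b ∧ f b = z • a) ∨ ∃ c : F, f a = c • a ∧ f b = c • b) →
        ∃ n, Nonempty (PlaneSys B f z W n) := by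
      intro a b ha hb hab hk'
      obtain ⟨hs, hnd, hna⟩ := split_plane hA ha hb hab hW
      have hlt : Module.finrank F (W ⊓ perp2 B a b : Submodule F V) < Module.finrank F W :=
        Submodule.finrank_lt_finrank_of_lt (lt_of_le_of_ne inf_le_left fun e => hna (e.symm ▸ ha))
      have hinv : ∀ v ∈ W ⊓ perp2 B a b, f v ∈ W ⊓ perp2 B a b := by
        intro v hv
        obtain ⟨hva, hvb⟩ := mem_perp2.1 hv.2
        refine ⟨hfW v hv.1, mem_perp2.2 ⟨inv a v ?_, inv b v ?_⟩⟩
        · rcases hk' with ⟨h1, -⟩ | ⟨c, h1, -⟩ <;> rw [h1]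
          · exact hvb
          · simp [hva]
        · rcases hk' with ⟨-, h1⟩ | ⟨c, -, h1⟩ <;> rw [h1]
          · simp [hva]
          · simp [hvb]
      obtain ⟨n, ⟨T⟩⟩ := ih _ (by omega) hnd hinv
      have S : PlaneSys B f z (Submodule.span F {a, b}) 1 :=
        ⟨1, fun _ => a, fun _ => b, fun i => rfl, fun _ => Submodule.subset_span (by simp),
          fun _ => Submodule.subset_span (by simp), fun _ => hab,
          fun i j hij => absurd (Subsingleton.elim i j) hij,
          Submodule.span_le.2 (by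
            rintro x (rfl | rfl)
            · exact Submodule.subset_span (Or.inl ⟨0, rfl⟩)
            · exact Submodule.subset_span (Or.inr ⟨0, rfl⟩)),
          fun _ => by
            rcases hk' with ⟨h1, h2⟩ | ⟨c, h1, h2⟩
            · exact Or.inr ⟨rfl, h1, h2⟩
            · exact Or.inl ⟨c, h1, h2⟩⟩
      refine ⟨_, S.append T (Submodule.span_le.2 (by rintro x (rfl | rfl) <;> assumption)) inf_le_left
        hs fun u hu v hv => ?_⟩
      obtain ⟨c, d, rfl⟩ := Submodule.mem_span_pair.1 hu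
      obtain ⟨hva, hvb⟩ := mem_perp2.1 hv.2
      have e : B (c • a + d • b) v = 0 := by simp [hva, hvb]
      exact ⟨e, by rw [sw, e, neg_zero]⟩
    obtain ⟨a, ha, ha0⟩ := Submodule.exists_mem_ne_zero_of_ne_bot h0
    by_cases hcase : ∃ v ∈ W, B v (f v) ≠ 0
    · obtain ⟨v, hv, hvf⟩ := hcase
      exact single v (f v) hv (hfW v hv) hvf (Or.inl ⟨rfl, hff v⟩)
    push Not at hcase
    by_cases hscal : ∃ v ∈ W, ∀ c : F, f v ≠ c • v
    · obtain ⟨v, hv, hvc⟩ := hscal
      have hv0 : v ≠ 0 := fun e => hvc 0 (by simp [e])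
      -- a partner of `v` orthogonal to `f v`
      obtain ⟨w, hw, hvw, hfvw⟩ : ∃ w ∈ W, B v w ≠ 0 ∧ B (f v) w = 0 := by
        obtain ⟨w₁, hw₁, h1⟩ : ∃ w ∈ W, B v w ≠ 0 := by
          by_contra hc
          push Not at hc
          exact hv0 (hW v hv hc)
        by_contra hc
        push Not at hc
        have h2 : ∀ w ∈ W, B (f v) w = 0 → B v w = 0 := fun w hw h => by
          by_contra hne; exact hc w hw hne h
        have h3 : ∃ w₂ ∈ W, B (f v) w₂ ≠ 0 := by
          by_contra hc'
          push Not at hc'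
          exact h1 (h2 w₁ hw₁ (hc' w₁ hw₁))
        obtain ⟨w₂, hw₂, h4⟩ := h3
        refine hvc (B (f v) w₂ / B v w₂) (sub_eq_zero.1 (hW _ (W.sub_mem (hfW v hv) (W.smul_mem _ hv)) fun w hw => ?_))
        have h5 := h2 (w - (B (f v) w / B (f v) w₂) • w₂) (W.sub_mem hw (W.smul_mem _ hw₂)) (by
          simp [h4])
        rw [map_sub, map_smul, smul_eq_mul, sub_eq_zero] at h5
        have h6 : B v w₂ ≠ 0 := fun e => h1 (by
          have := h2 (w₁ - (B (f v) w₁ / B (f v) w₂) • w₂) (W.sub_mem hw₁ (W.smul_mem _ hw₂)) (by simp [h4])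
          simpa [e] using this)
        simp only [map_sub, map_smul, LinearMap.sub_apply, LinearMap.smul_apply, smul_eq_mul]
        rw [h5]
        field_simp
        ring
      have pol : ∀ u₁ ∈ W, ∀ u₂ ∈ W, B u₁ (f u₂) = B (f u₁) u₂ := fun u₁ h₁ u₂ h₂ => by
        have h := hcase (u₁ + u₂) (W.add_mem h₁ h₂)
        simp only [map_add, LinearMap.add_apply, hcase u₁ h₁, hcase u₂ h₂, zero_add, add_zero] at h
        rw [sw (f u₁) u₂]
        exact eq_neg_of_add_eq_zero_right h
      have hvfw : B v (f w) = 0 := (pol v hv w hw).trans hfvw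
      obtain ⟨hs, hnd, hna⟩ := split_plane hA hv hw hvw hW
      have hfv : f v ∈ W ⊓ perp2 B v w := ⟨hfW v hv, mem_perp2.2 ⟨hcase v hv, by rw [sw, hfvw, neg_zero]⟩⟩
      have hfw : f w ∈ W ⊓ perp2 B v w := ⟨hfW w hw, mem_perp2.2 ⟨hvfw, hcase w hw⟩⟩
      have hfvfw : B (f v) (f w) ≠ 0 := by rw [hiso]; exact hvw
      obtain ⟨hs', hnd', hna'⟩ := split_plane hA hfv hfw hfvfw hnd
      set W' := W ⊓ perp2 B v w ⊓ perp2 B (f v) (f w)
      have hlt : Module.finrank F W' < Module.finrank F W :=
        Submodule.finrank_lt_finrank_of_lt (lt_of_le_of_ne (inf_le_left.trans inf_le_left)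
          fun e => hna ((e.symm ▸ hv : v ∈ W').1))
      have hinv : ∀ u ∈ W', f u ∈ W' := by
        intro u hu
        obtain ⟨h1, h2⟩ := mem_perp2.1 hu.1.2
        obtain ⟨h3, h4⟩ := mem_perp2.1 hu.2
        exact ⟨⟨hfW u hu.1.1, mem_perp2.2 ⟨inv v u h3, inv w u h4⟩⟩, mem_perp2.2 ⟨inv' v u h1, inv' w u h2⟩⟩
      obtain ⟨n, ⟨T⟩⟩ := ih W' (by omega) hnd' hinv
      have S : PlaneSys B f z (Submodule.span F {v, w, f v, f w}) 2 := by
        refine ⟨Equiv.swap 0 1, ![v, f v], ![w, f w], fun i => Equiv.swap_apply_self _ _ i, ?_, ?_, ?_, ?_, ?_, ?_⟩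
        · intro i; fin_cases i <;> exact Submodule.subset_span (by simp)
        · intro i; fin_cases i <;> exact Submodule.subset_span (by simp)
        · intro i; fin_cases i <;> simp [hvw, hfvfw]
        · intro i j hij
          have e1 : B v (f v) = 0 := hcase v hv
          have e2 : B w (f w) = 0 := hcase w hw
          have e3 : B w (f v) = 0 := by rw [sw, hfvw, neg_zero]
          have e4 : B (f v) v = 0 := by rw [sw, e1, neg_zero]
          have e5 : B (f w) w = 0 := by rw [sw, e2, neg_zero]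
          have e6 : B (f w) v = 0 := by rw [sw, hvfw, neg_zero]
          fin_cases i <;> fin_cases j <;> first | exact absurd rfl hij | simp [e1, e2, e3, e4, e5, e6, hvfw, hfvw]
        · refine Submodule.span_le.2 ?_
          rintro x (rfl | rfl | rfl | rfl)
          · exact Submodule.subset_span (Or.inl ⟨0, rfl⟩)
          · exact Submodule.subset_span (Or.inr ⟨0, rfl⟩)
          · exact Submodule.subset_span (Or.inl ⟨1, rfl⟩)
          · exact Submodule.subset_span (Or.inr ⟨1, rfl⟩)
        · intro i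
          fin_cases i
          · exact Or.inl ⟨1, by simp, by simp⟩
          · exact Or.inl ⟨z, by simp [hff], by simp [hff]⟩
      refine ⟨_, S.append T (Submodule.span_le.2 ?_) (inf_le_left.trans inf_le_left) ?_ ?_⟩
      · rintro x (rfl | rfl | rfl | rfl)
        exacts [hv, hw, hfW _ hv, hfW _ hw]
      · refine hs.trans (sup_le ((Submodule.span_mono ?_).trans le_sup_left) (hs'.trans (sup_le_sup_right (Submodule.span_mono ?_) _)))
        · intro x; simp; tauto
        · intro x; simp; tauto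
      · intro u hu x hx
        obtain ⟨h1, h2⟩ := mem_perp2.1 hx.1.2
        obtain ⟨h3, h4⟩ := mem_perp2.1 hx.2
        have e : B u x = 0 := by
          refine (Submodule.span_le (p := LinearMap.ker (B.flip x))).2 ?_ hu
          rintro y (rfl | rfl | rfl | rfl) <;> simp [h1, h2, h3, h4]
        exact ⟨e, by rw [sw, e, neg_zero]⟩
    · push Not at hscal
      obtain ⟨b, hb, hab⟩ : ∃ b ∈ W, B a b ≠ 0 := by
        by_contra hc
        push Not at hc
        exact ha0 (hW a ha hc)
      obtain ⟨c, hc⟩ := hscal a ha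
      obtain ⟨d, hd⟩ := hscal b hb
      obtain ⟨e, he⟩ := hscal (a + b) (W.add_mem ha hb)
      rw [map_add, hc, hd] at he
      have h1 : c = e := by
        have h := congrArg (fun u => B u b) he
        simp only [map_add, map_smul, LinearMap.add_apply, LinearMap.smul_apply, smul_eq_mul, hA b,
          mul_zero, add_zero] at h
        exact mul_right_cancel₀ hab h
      have h2 : d = e := by
        have h := congrArg (fun u => B a u) he
        simp only [map_add, map_smul, smul_eq_mul, hA a, mul_zero, zero_add] at h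
        exact mul_right_cancel₀ hab h
      exact single a b ha hb hab (Or.inr ⟨e, h1 ▸ hc, h2 ▸ hd⟩)

namespace PlaneSys

variable {f : V →ₗ[F] V} {z : F} {n : ℕ} (S : PlaneSys B f z ⊤ n)
include S

theorem eq_zero_of_orth (hA : B.IsAlt) (hnd : NDOn B ⊤) {x : V}
    (h : ∀ i, B x (S.a i) = 0 ∧ B x (S.b i) = 0) : x = 0 := by
  refine hnd x trivial fun v hv => ?_
  refine (Submodule.span_le (p := LinearMap.ker (B x))).2 ?_ (S.span hv)
  rintro y (⟨i, rfl⟩ | ⟨i, rfl⟩)
  · exact (h i).1
  · exact (h i).2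

theorem linearIndependent (hA : B.IsAlt) : LinearIndependent F (Sum.elim S.a S.b) := by
  classical
  rw [Fintype.linearIndependent_iff]
  intro g hg
  rw [Fintype.sum_sum_type] at hg
  simp only [Sum.elim_inl, Sum.elim_inr] at hg
  intro k
  rcases k with j | j
  · have h := congrArg (fun u => B u (S.b j)) hg
    simp only [map_add, map_sum, map_smul, LinearMap.add_apply, LinearMap.coe_sum, Finset.sum_apply,
      LinearMap.smul_apply, smul_eq_mul, map_zero, LinearMap.zero_apply] at h
    rw [Finset.sum_eq_single j (fun i _ hij => by rw [(S.orth i j hij).2.1, mul_zero]) (by simp),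
      Finset.sum_eq_zero (fun i _ => ?_), add_zero] at h
    · exact (mul_eq_zero.1 h).resolve_right (S.pair j)
    · by_cases hij : i = j
      · subst hij; rw [hA, mul_zero]
      · rw [(S.orth i j hij).2.2.2, mul_zero]
  · have h := congrArg (fun u => B (S.a j) u) hg
    simp only [map_add, map_sum, map_smul, smul_eq_mul, map_zero] at h
    rw [Finset.sum_eq_zero (fun i _ => ?_),
      Finset.sum_eq_single j (fun i _ hij => by rw [(S.orth j i (Ne.symm hij)).2.1, mul_zero]) (by simp),
      zero_add] at h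
    · exact (mul_eq_zero.1 h).resolve_right (S.pair j)
    · by_cases hij : i = j
      · subst hij; rw [hA, mul_zero]
      · rw [(S.orth j i (Ne.symm hij)).1, mul_zero]

theorem finrank_eq [FiniteDimensional F V] (hA : B.IsAlt) : Module.finrank F V = 2 * n := by
  have h1 := finrank_span_eq_card (S.linearIndependent hA)
  rw [Set.Sum.elim_range, top_unique S.span, finrank_top] at h1
  simpa [two_mul] using h1

end PlaneSys

end CfsgLib.PrimeOrderSp
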