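import Cfsg.Agent.Lib.PrimeOrderSp.Config
import Cfsg.Agent.Lib.Geometry.SpSplit
import Cfsg.Agent.Lib.Classical.Order

/-!
# Pairs of complementary totally isotropic subspaces
-/

set_option autoImplicit false

namespace CfsgLib.PrimeOrderSp

open Matrix CfsgLib.Geometry

universe u

variable {F : Type u} [Field F] {d : ℕ}

local notation "V" => (Fin d ⊕ Fin d → F)

/-- Pairs of complementary totally isotropic subspaces. -/
abbrev LagPair (F : Type u) [Field F] (d : ℕ) : Type u :=
  {P : Submodule F (Fin d ⊕ Fin d → F) × Submodule F (Fin d ⊕ Fin d → F) // IsCompl P.1 P.2 ∧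
    (∀ u ∈ P.1, ∀ v ∈ P.1, Cfsg.sympForm d F u v = 0) ∧ (∀ u ∈ P.2, ∀ v ∈ P.2, Cfsg.sympForm d F u v = 0)}

theorem finrank_std : Module.finrank F V = 2 * d := by
  rw [Module.finrank_fintype_fun_eq_card, Fintype.card_sum, Fintype.card_fin, two_mul]

theorem finrank_lag [Finite F] (P : LagPair F d) :
    Module.finrank F P.1.1 = d ∧ Module.finrank F P.1.2 = d := by
  have h := isHerm_alt (sympBilin_isAlt d F) fun u h => (sympBilin_nondegenerate d F).1 u h
  have h1 := Submodule.finrank_add_eq_of_isCompl P.2.1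
  have h2 := two_mul_ti_le h h.nondeg_top le_top (W := P.1.1) P.2.2.1
  have h3 := two_mul_ti_le h h.nondeg_top le_top (W := P.1.2) P.2.2.2
  rw [finrank_std] at h1
  rw [finrank_top, finrank_std] at h2 h3
  omega

/-- The coordinate subspaces. -/
def coordSub (F : Type u) [Field F] (d : ℕ) (s : Fin d → Fin d ⊕ Fin d) :
    Submodule F (Fin d ⊕ Fin d → F) where
  carrier := {v | ∀ i, v (s i) = 0}
  add_mem' ha hb i := by simp [ha i, hb i]
  zero_mem' i := rfl
  smul_mem' c v hv i := by simp [hv i]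

theorem mem_coordSub {s : Fin d → Fin d ⊕ Fin d} {v : V} : v ∈ coordSub F d s ↔ ∀ i, v (s i) = 0 := Iff.rfl

theorem coordSub_le {s s' : Fin d → Fin d ⊕ Fin d} (hall : ∀ x, (∃ i, x = s i) ∨ ∃ i, x = s' i)
    {M : Submodule F V} (h : ∀ i, (Pi.single (s' i) (1 : F) : V) ∈ M) : coordSub F d s ≤ M := by
  intro v hv
  rw [← Finset.univ_sum_single v]
  refine M.sum_mem fun x _ => ?_
  rcases hall x with ⟨i, rfl⟩ | ⟨i, rfl⟩
  · rw [hv i, Pi.single_zero]; exact M.zero_mem
  · rw [show (Pi.single (s' i) (v (s' i)) : V) = v (s' i) • Pi.single (s' i) (1 : F) by simp [← Pi.single_smul]]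
    exact M.smul_mem _ (h i)

/-- The coordinate pair. -/
def stdPair (F : Type u) [Field F] (d : ℕ) : LagPair F d :=
  ⟨(coordSub F d Sum.inr, coordSub F d Sum.inl),
    ⟨Submodule.disjoint_def.2 fun v hv hv' => funext fun x => by
      rcases x with i | i
      · exact hv' i
      · exact hv i,
    codisjoint_iff.2 (Submodule.eq_top_iff'.2 fun v => Submodule.mem_sup.2
      ⟨Sum.elim (v ∘ Sum.inl) 0, fun i => rfl, Sum.elim 0 (v ∘ Sum.inr), fun i => rfl,
        funext fun x => by rcases x with i | i <;> simp⟩)⟩,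
    fun u hu v hv => by
      rw [sympForm_eq]
      exact Finset.sum_eq_zero fun i _ => by rw [hu i, hv i, zero_mul, mul_zero, sub_zero],
    fun u hu v hv => by
      rw [sympForm_eq]
      exact Finset.sum_eq_zero fun i _ => by rw [hu i, hv i, mul_zero, zero_mul, sub_zero]⟩

variable [Fintype F]

theorem exists_map_stdPair (P : LagPair F d) : ∃ A : Matrix.symplecticGroup (Fin d) F,
    (stdPair F d).1.1.map (spEquiv d F A).toLinearMap = P.1.1 ∧
    (stdPair F d).1.2.map (spEquiv d F A).toLinearMap = P.1.2 := by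
  classical
  obtain ⟨hU, hW⟩ := finrank_lag P
  obtain ⟨hS1, hS2⟩ := finrank_lag (stdPair F d)
  let b := Module.finBasisOfFinrankEq F P.1.1 hU
  have hnd : ∀ u, (∀ v, sympBilin d F u v = 0) → u = 0 := fun u h => (sympBilin_nondegenerate d F).1 u h
  let e : Fin d ⊕ Fin d → V := fun x => Pi.single x 1
  let g : P.1.2 →ₗ[F] (Fin d → F) :=
    LinearMap.pi fun i => (sympBilin d F (b i : V)).comp P.1.2.subtype
  have hg : Function.Injective g := (injective_iff_map_eq_zero g).2 fun w hw => Subtype.ext (hnd _ fun v => by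
    obtain ⟨a, ha, c, hc, rfl⟩ := Submodule.mem_sup.1
      (P.2.1.sup_eq_top.symm ▸ (Submodule.mem_top : v ∈ (⊤ : Submodule F V)))
    rw [map_add, sympBilin_apply _ _ _ c, P.2.2.2 _ w.2 c hc, add_zero]
    have h0 : ∀ i, sympBilin d F (b i : V) w = 0 := fun i => congrFun hw i
    rw [← (LinearMap.IsAlt.neg (sympBilin_isAlt d F) _ _), neg_eq_zero, show a = ((⟨a, ha⟩ : P.1.1) : V) from rfl,
      ← b.sum_repr ⟨a, ha⟩, Submodule.coe_sum, map_sum, LinearMap.sum_apply]
    exact Finset.sum_eq_zero fun i _ => by simp [h0 i, -sympBilin_apply])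
  have hgs : Function.Surjective g := (LinearMap.injective_iff_surjective_of_finrank_eq_finrank (by
    rw [hW, Module.finrank_fintype_fun_eq_card, Fintype.card_fin])).1 hg
  choose w hw using fun j => hgs fun i => sympBilin d F (e (Sum.inl i)) (e (Sum.inr j))
  have hw' : ∀ i j, sympBilin d F (b i : V) (w j) = sympBilin d F (e (Sum.inl i)) (e (Sum.inr j)) :=
    fun i j => congrFun (hw j) i
  let t : Fin d ⊕ Fin d → V := Sum.elim (fun i => (b i : V)) fun j => (w j : V)
  have hmem1 : ∀ i, e (Sum.inl i) ∈ (stdPair F d).1.1 := fun i j => by simp [e]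
  have hmem2 : ∀ i, e (Sum.inr i) ∈ (stdPair F d).1.2 := fun i j => by simp [e]
  have hgram : ∀ x y, sympBilin d F (e x) (e y) = sympBilin d F (t x) (t y) := by
    rintro (i | i) (j | j)
    · rw [sympBilin_apply, sympBilin_apply, (stdPair F d).2.2.1 _ (hmem1 i) _ (hmem1 j)]
      exact (P.2.2.1 _ (b i).2 _ (b j).2).symm
    · exact (hw' i j).symm
    · rw [← (LinearMap.IsAlt.neg (sympBilin_isAlt d F) _ _)]
      refine Eq.trans ?_ (LinearMap.IsAlt.neg (sympBilin_isAlt d F) _ _)
      exact congrArg Neg.neg (hw' j i).symm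
    · rw [sympBilin_apply, sympBilin_apply, (stdPair F d).2.2.2 _ (hmem2 i) _ (hmem2 j)]
      exact (P.2.2.2 _ (w i).2 _ (w j).2).symm
  let τ := (finSumFinEquiv (m := d) (n := d)).symm
  have he : LinearIndependent F e := Pi.linearIndependent_single_one _ F
  have ht : LinearIndependent F t := by
    rw [Fintype.linearIndependent_iff]
    intro c hc
    have h1 : ∀ y, sympBilin d F (∑ x, c x • e x) (e y) = 0 := fun y => by
      rw [map_sum, LinearMap.sum_apply,
        Finset.sum_congr rfl (fun x _ => by rw [map_smul, LinearMap.smul_apply, hgram x y] :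
          ∀ x ∈ Finset.univ, sympBilin d F (c x • e x) (e y) = c x • sympBilin d F (t x) (t y))]
      have h2 := congrArg (fun u => sympBilin d F u (t y)) hc
      simpa [map_sum, LinearMap.sum_apply, -sympBilin_apply] using h2
    have h3 : (∑ x, c x • e x) = 0 := hnd _ fun v => by
      rw [← Finset.univ_sum_single v, map_sum]
      refine Finset.sum_eq_zero fun y _ => ?_
      rw [show (Pi.single y (v y) : V) = v y • e y by simp [e, ← Pi.single_smul], map_smul, h1, smul_zero]
    exact Fintype.linearIndependent_iff.1 he c h3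
  obtain ⟨A, hA⟩ := sp_extend d F (e ∘ τ) (t ∘ τ) (he.comp _ τ.injective) (ht.comp _ τ.injective)
    fun i j => hgram (τ i) (τ j)
  have hAx : ∀ x, spEquiv d F A (e x) = t x := fun x => by
    have := hA (τ.symm x)
    simpa using this
  refine ⟨A, Submodule.eq_of_le_of_finrank_eq ?_ ?_, Submodule.eq_of_le_of_finrank_eq ?_ ?_⟩
  · refine Submodule.map_le_iff_le_comap.2 (coordSub_le (s' := Sum.inl) (fun x => ?_) fun i => ?_)
    · rcases x with i | i
      exacts [Or.inr ⟨i, rfl⟩, Or.inl ⟨i, rfl⟩]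
    · change spEquiv d F A (e (Sum.inl i)) ∈ P.1.1
      rw [hAx]; exact (b i).2
  · rw [← (Submodule.equivMapOfInjective _ (spEquiv d F A).injective _).finrank_eq, hS1, hU]
  · refine Submodule.map_le_iff_le_comap.2 (coordSub_le (s' := Sum.inr) (fun x => ?_) fun i => ?_)
    · rcases x with i | i
      exacts [Or.inl ⟨i, rfl⟩, Or.inr ⟨i, rfl⟩]
    · change spEquiv d F A (e (Sum.inr i)) ∈ P.1.2
      rw [hAx]; exact (w i).2
  · rw [← (Submodule.equivMapOfInjective _ (spEquiv d F A).injective _).finrank_eq, hS2, hW]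

/-- The number of pairs divides `q ^ a * ∏ (q ^ j + 1)`. -/
theorem card_lagPair_dvd : ∃ a : ℕ,
    Nat.card (LagPair F d) ∣ Fintype.card F ^ a * ∏ i ∈ Finset.range d, (Fintype.card F ^ (i + 1) + 1) := by
  classical
  haveI : Finite (Submodule F V) := Finite.of_injective _ SetLike.coe_injective
  let mapP : Matrix.symplecticGroup (Fin d) F → LagPair F d → LagPair F d := fun A P =>
    ⟨(P.1.1.map (spEquiv d F A).toLinearMap, P.1.2.map (spEquiv d F A).toLinearMap),
      ⟨Submodule.disjoint_def.2 (by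
        rintro _ ⟨u, hu, rfl⟩ ⟨v, hv, e⟩
        obtain rfl := (spEquiv d F A).injective e
        rw [Submodule.disjoint_def.1 P.2.1.disjoint v hu hv, map_zero]), codisjoint_iff.2 (by
        rw [← Submodule.map_sup, P.2.1.sup_eq_top, Submodule.map_top, LinearEquiv.range])⟩,
      by rintro _ ⟨u, hu, rfl⟩ _ ⟨v, hv, rfl⟩
         exact ((mem_sp_iff d F _).1 A.2 u v).trans (P.2.2.1 u hu v hv),
      by rintro _ ⟨u, hu, rfl⟩ _ ⟨v, hv, rfl⟩
         exact ((mem_sp_iff d F _).1 A.2 u v).trans (P.2.2.2 u hu v hv)⟩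
  letI : MulAction (Matrix.symplecticGroup (Fin d) F) (LagPair F d) :=
    { smul := mapP
      one_smul := fun P => Subtype.ext (by
        change (P.1.1.map _, P.1.2.map _) = P.1
        rw [map_one]
        exact Prod.ext (Submodule.map_id _) (Submodule.map_id _))
      mul_smul := fun A B P => Subtype.ext (by
        change (P.1.1.map _, P.1.2.map _) = ((P.1.1.map _).map _, (P.1.2.map _).map _)
        rw [← Submodule.map_comp, ← Submodule.map_comp, map_mul]
        rfl) }
  have htrans : MulAction.orbit (Matrix.symplecticGroup (Fin d) F) (stdPair F d) = Set.univ :=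
    Set.eq_univ_of_forall fun P => by
      obtain ⟨A, h1, h2⟩ := exists_map_stdPair P
      exact ⟨A, Subtype.ext (Prod.ext h1 h2)⟩
  have hcard := Nat.card_congr
    (MulAction.orbitProdStabilizerEquivGroup (Matrix.symplecticGroup (Fin d) F) (stdPair F d))
  rw [Nat.card_prod, Nat.card_congr ((Equiv.setCongr htrans).trans (Equiv.Set.univ _))] at hcard
  obtain ⟨iso⟩ := CfsgLib.Geometry.SpSplit.lagrangian_pair_equiv (F := F) (m := d)
  set S := Cfsg.stabilizing (Cfsg.spToMat d F) {v : V | ∀ i : Fin d, v (Sum.inr i) = 0} ⊓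
    Cfsg.stabilizing (Cfsg.spToMat d F) {v : V | ∀ i : Fin d, v (Sum.inl i) = 0}
  have hle : S ≤ MulAction.stabilizer (Matrix.symplecticGroup (Fin d) F) (stdPair F d) := fun A hA => by
    obtain ⟨hS1, hS2⟩ := finrank_lag (stdPair F d)
    rw [MulAction.mem_stabilizer_iff]
    refine Subtype.ext (Prod.ext ?_ ?_)
    · refine Submodule.eq_of_le_of_finrank_eq ?_ ((Submodule.equivMapOfInjective _ (spEquiv d F A).injective _).finrank_eq.symm)
      rintro _ ⟨u, hu, rfl⟩
      exact (hA.1 u).1 hu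
    · refine Submodule.eq_of_le_of_finrank_eq ?_ ((Submodule.equivMapOfInjective _ (spEquiv d F A).injective _).finrank_eq.symm)
      rintro _ ⟨u, hu, rfl⟩
      exact (hA.2 u).1 hu
  obtain ⟨c, hc⟩ := Subgroup.card_dvd_of_le hle
  rw [hc, Nat.card_congr iso.toEquiv, CfsgLib.Classical.card_GL_fin', CfsgLib.Classical.card_symplecticGroup,
    Nat.card_eq_fintype_card (α := F), Fintype.card_fin] at hcard
  refine ⟨d ^ 2, ?_⟩
  have hsplit : ∏ i ∈ Finset.range d, (Fintype.card F ^ (2 * (i + 1)) - 1) =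
      (∏ i ∈ Finset.range d, (Fintype.card F ^ (i + 1) - 1)) * ∏ i ∈ Finset.range d, (Fintype.card F ^ (i + 1) + 1) := by
    rw [← Finset.prod_mul_distrib]
    refine Finset.prod_congr rfl fun i _ => ?_
    rw [mul_comm (_ - 1), ← Nat.sq_sub_sq, ← pow_mul, one_pow, mul_comm]
  rw [hsplit] at hcard
  have hpos : 0 < ∏ i ∈ Finset.range d, (Fintype.card F ^ (i + 1) - 1) :=
    Finset.prod_pos fun i _ => Nat.sub_pos_of_lt (Nat.one_lt_pow (by omega) Fintype.one_lt_card)
  refine (Nat.mul_dvd_mul_iff_left hpos).1 ⟨Fintype.card F ^ (d * (d - 1) / 2) * c, ?_⟩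
  calc _ = Fintype.card F ^ (d ^ 2) * ((∏ i ∈ Finset.range d, (Fintype.card F ^ (i + 1) - 1)) *
        ∏ i ∈ Finset.range d, (Fintype.card F ^ (i + 1) + 1)) := by ring
    _ = _ := by rw [← hcard]; ring

end CfsgLib.PrimeOrderSp
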