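import Cfsg.Agent.Lib.PrimeOrderSp.Pairing
import Cfsg.Agent.Lib.KnownB.PrimeOrderClasses
import Cfsg.Agent.Lib.Geometry.AltInvolutions

/-!
# Isometries of prime order prime to the characteristic

The fixed space, the moved space and the totally isotropic invariant subspaces.
-/

set_option autoImplicit false

namespace CfsgLib.PrimeOrderSp

open Polynomial CfsgLib.KnownB.PrimeOrder

universe u

variable {F : Type u} [Field F] {V : Type*} [AddCommGroup V] [Module F V]

theorem monic_factor [DecidableEq F] {r : ℕ} (hr : r ≠ 0) {P : F[X]} (hP : P ∈ factors F r) : P.Monic :=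
  ((mem_factors hr).1 hP).2.1

theorem prod_factors [DecidableEq F] {r : ℕ} (hr : (r : F) ≠ 0) :
    (X - 1 : F[X]) * ∏ P ∈ factors F r, P = X ^ r - 1 := by
  have hr0 : r ≠ 0 := fun h => hr (by simp [h])
  have hm : (X ^ r - 1 : F[X]).Monic := by simpa using monic_X_pow_sub_C (1 : F) hr0
  have hnd : (UniqueFactorizationMonoid.normalizedFactors (X ^ r - 1 : F[X])).Nodup :=
    (UniqueFactorizationMonoid.squarefree_iff_nodup_normalizedFactors hm.ne_zero).1 (X_pow_sub_one_separable_iff.2 hr).squarefree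
  have h1 : (X - 1 : F[X]) ∈ UniqueFactorizationMonoid.normalizedFactors (X ^ r - 1 : F[X]) := by
    obtain ⟨Q', hQ', hass⟩ := UniqueFactorizationMonoid.exists_mem_normalizedFactors_of_dvd hm.ne_zero
      (irreducible_X_sub_C (1 : F))
      (show (X - C 1 : F[X]) ∣ X ^ r - 1 by rw [dvd_iff_isRoot]; simp)
    rwa [← Polynomial.eq_of_monic_of_associated (monic_X_sub_C (1 : F)) (monic_of_mem_nf hQ') hass, C_1] at hQ'
  rw [factors, Finset.mul_prod_erase _ (fun P => P) (Multiset.mem_toFinset.2 h1), Finset.prod_eq_multiset_prod,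
    Multiset.toFinset_val, Multiset.dedup_eq_self.2 hnd, Multiset.map_id', monic_prod_normalizedFactors hm]

/-- The fixed space. -/
def fixSp (f : Module.End F V) : Submodule F V := LinearMap.ker (f - 1)

/-- The moved space. -/
def movSp (f : Module.End F V) : Submodule F V := LinearMap.range (f - 1)

theorem mem_fixSp {f : Module.End F V} {v : V} : v ∈ fixSp f ↔ f v = v := by
  rw [fixSp, LinearMap.mem_ker, LinearMap.sub_apply, Module.End.one_apply, sub_eq_zero]

section order

variable {f : Module.End F V} {r : ℕ} (hr : (r : F) ≠ 0) (hfr : f ^ r = 1)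
include hr hfr

theorem isSemisimple_of_pow : f.IsSemisimple :=
  Module.End.isSemisimple_of_squarefree_aeval_eq_zero (X_pow_sub_one_separable_iff.2 hr).squarefree
    (by simp [hfr])

theorem inv_fixSp : Inv f (fixSp f) := fun v hv => mem_fixSp.2 (by rw [mem_fixSp.1 hv, mem_fixSp.1 hv])

omit hr hfr in
theorem inv_movSp : Inv f (movSp f) := by
  rintro _ ⟨w, rfl⟩
  exact ⟨f w, by simp⟩

theorem isCompl_fix_mov [FiniteDimensional F V] : IsCompl (fixSp f) (movSp f) := by
  obtain ⟨U, hU, -, hsup, hdis⟩ := exists_compl_inv (isSemisimple_of_pow hr hfr)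
    (inv_fixSp hr hfr) (W' := ⊤) (fun v _ => trivial) le_top
  have hle : U ≤ movSp f := by
    intro u hu
    let g : U →ₗ[F] U := ((f - 1).comp U.subtype).codRestrict U fun x => by
      simp only [LinearMap.comp_apply, LinearMap.sub_apply, Module.End.one_apply, Submodule.subtype_apply]
      exact U.sub_mem (hU _ x.2) x.2
    have hg : Function.Injective g := (injective_iff_map_eq_zero g).2 fun x hx => by
      have h1 : (x : V) ∈ fixSp f := congrArg Subtype.val hx
      exact Subtype.ext (Submodule.disjoint_def.1 hdis _ h1 x.2)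
    obtain ⟨x, hx⟩ := LinearMap.injective_iff_surjective.1 hg ⟨u, hu⟩
    exact ⟨(x : V), congrArg Subtype.val hx⟩
  have h1 : fixSp f ⊔ movSp f = ⊤ := top_unique (hsup.ge.trans (sup_le_sup_left hle _))
  refine ⟨?_, codisjoint_iff.2 h1⟩
  have h2 := Submodule.finrank_sup_add_finrank_inf_eq (fixSp f) (movSp f)
  have h3 : Module.finrank F (movSp f) + Module.finrank F (fixSp f) = Module.finrank F V :=
    LinearMap.finrank_range_add_finrank_ker (f - 1)
  rw [h1, finrank_top] at h2
  have h4 : Module.finrank F (fixSp f ⊓ movSp f : Submodule F V) = 0 := by omega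
  rw [disjoint_iff]
  exact Submodule.finrank_eq_zero.1 h4

theorem killed_movSp [DecidableEq F] [Fintype F] [Fact r.Prime] :
    Killed f (factors F r) (orderOf ((Fintype.card F : ℕ) : ZMod r)) (movSp f) := by
  have hr0 : r ≠ 0 := (Fact.out : r.Prime).ne_zero
  refine ⟨fun P hP => ((mem_factors hr0).1 hP).1, fun P hP => ?_, inv_movSp, ?_⟩
  · obtain ⟨hi, hm, hd, hne⟩ := (mem_factors hr0).1 hP
    exact natDegree_eq_orderOf hr hi hm hd hne
  · rintro _ ⟨w, rfl⟩
    have h1 : Polynomial.aeval f ((∏ P ∈ factors F r, P) * (X - 1)) w = 0 := by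
      rw [mul_comm, prod_factors hr]; simp [hfr]
    rw [map_mul, Module.End.mul_apply, map_sub, aeval_X, map_one] at h1
    exact h1

theorem killed_fixSp : Killed f {(X - 1 : F[X])} 1 (fixSp f) := by
  refine ⟨fun P hP => ?_, fun P hP => ?_, inv_fixSp hr hfr, fun v hv => ?_⟩
  · rw [Finset.mem_singleton.1 hP, ← C_1]; exact irreducible_X_sub_C _
  · rw [Finset.mem_singleton.1 hP, ← C_1]; exact natDegree_X_sub_C _
  · rw [Finset.prod_singleton, map_sub, aeval_X, map_one]
    exact LinearMap.mem_ker.1 hv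

variable {σ : F →+* F} {B : V →ₗ[F] V →ₛₗ[σ] F} (h : IsHerm B) (hf : ∀ u v, B (f u) (f v) = B u v)
include h hf

omit hr hfr in
theorem orth_fix_mov : ∀ u ∈ fixSp f, ∀ v ∈ movSp f, B u v = 0 ∧ B v u = 0 := by
  intro u hu _ hv
  obtain ⟨w, rfl⟩ := hv
  have e : B u ((f - 1) w) = 0 := by
    rw [LinearMap.sub_apply, Module.End.one_apply, map_sub, ← hf u w, mem_fixSp.1 hu, sub_self]
  exact ⟨e, h.refl e⟩

theorem nondeg_fixSp [FiniteDimensional F V] : Nondeg B (fixSp f) := fun u hu hu' => h.nondeg u fun v => by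
  obtain ⟨a, ha, b, hb, rfl⟩ := Submodule.mem_sup.1
    ((isCompl_fix_mov hr hfr).sup_eq_top.symm ▸ (Submodule.mem_top : v ∈ (⊤ : Submodule F V)))
  rw [map_add, hu' a ha, (orth_fix_mov h hf u hu b hb).1, add_zero]

theorem nondeg_movSp [FiniteDimensional F V] : Nondeg B (movSp f) := fun u hu hu' => h.nondeg u fun v => by
  obtain ⟨a, ha, b, hb, rfl⟩ := Submodule.mem_sup.1
    ((isCompl_fix_mov hr hfr).sup_eq_top.symm ▸ (Submodule.mem_top : v ∈ (⊤ : Submodule F V)))
  rw [map_add, hu' b hb, (orth_fix_mov h hf a ha u hu).2, add_zero]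

end order

section killed

variable {f : Module.End F V} [FiniteDimensional F V]

theorem finrank_dvd (hss : f.IsSemisimple) {S : Finset F[X]} {i : ℕ} :
    ∀ {D : Submodule F V}, Killed f S i D → i ∣ Module.finrank F D := by
  suffices H : ∀ (k : ℕ) (D : Submodule F V), Module.finrank F D ≤ k → Killed f S i D →
      i ∣ Module.finrank F D from fun {D} hD => H _ D le_rfl hD
  intro k
  induction k with
  | zero => intro D h0 _; simp [Nat.le_zero.1 h0]
  | succ k ih =>
    intro D hle hk
    by_cases h0 : D = ⊥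
    · subst h0; simp
    obtain ⟨P, hP, v, hv, hv0, hPv⟩ := exists_factor S hk.inv h0 hk.kill
    have hA := cyc_le hk.inv hv
    have hr := (finrank_cyc (hk.irr P hP) hPv hv0).trans (hk.deg P hP)
    obtain ⟨U, hU, hUle, hsup, hdis⟩ := exists_compl_inv hss (cyc_inv v) hk.inv hA
    have h2 := Submodule.finrank_sup_add_finrank_inf_eq (cyc f v) U
    rw [hsup, hdis.eq_bot, finrank_bot, add_zero, hr] at h2
    have hi : 0 < i := by rw [← hk.deg P hP]; exact (hk.irr P hP).natDegree_pos
    rw [h2]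
    exact (Nat.dvd_add_right dvd_rfl).2 (ih U (by omega) (hk.mono hU hUle))

/-- An invariant subspace is not larger than the sum of its primary parts. -/
theorem finrank_le_sum {W : Submodule F V} (hW : Inv f W) (S : Finset F[X]) (hirr : ∀ P ∈ S, Irreducible P)
    (hm : ∀ P ∈ S, P.Monic) (hk : ∀ v ∈ W, Polynomial.aeval f (∏ P ∈ S, P) v = 0) :
    Module.finrank F W ≤ ∑ P ∈ S, Module.finrank F (W ⊓ LinearMap.ker (Polynomial.aeval f P) : Submodule F V) := by
  classical
  induction S using Finset.induction_on generalizing W with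
  | empty =>
    have h0 : W = ⊥ := (Submodule.eq_bot_iff W).2 fun v hv => by simpa using hk v hv
    subst h0; simp
  | insert P S hP ih =>
    rw [Finset.sum_insert hP]
    set Q := ∏ R ∈ S, R with hQ
    have hco : IsCoprime P Q := IsCoprime.prod_right fun R hR =>
      (hirr P (Finset.mem_insert_self _ _)).coprime_iff_not_dvd.2 fun hd => hP (by
        have := Polynomial.eq_of_monic_of_associated (hm P (Finset.mem_insert_self _ _))
          (hm R (Finset.mem_insert_of_mem hR))
          ((hirr P (Finset.mem_insert_self _ _)).associated_of_dvd (hirr R (Finset.mem_insert_of_mem hR)) hd)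
        rwa [this])
    have hWQ : Inv f (W ⊓ LinearMap.ker (Polynomial.aeval f Q)) := fun v hv => ⟨hW v hv.1, by
      rw [SetLike.mem_coe, LinearMap.mem_ker, ← Module.End.mul_apply, show
        Polynomial.aeval f Q * f = Polynomial.aeval f (X * Q) by rw [mul_comm X, map_mul, aeval_X],
        map_mul, Module.End.mul_apply, LinearMap.mem_ker.1 hv.2, map_zero]⟩
    have h1 := ih hWQ (fun R hR => hirr R (Finset.mem_insert_of_mem hR))
      (fun R hR => hm R (Finset.mem_insert_of_mem hR)) fun v hv => hv.2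
    have h2 : W ≤ (W ⊓ LinearMap.ker (Polynomial.aeval f P)) ⊔ (W ⊓ LinearMap.ker (Polynomial.aeval f Q)) := by
      obtain ⟨a, b, hab⟩ := hco
      intro v hv
      have hv' : Polynomial.aeval f (P * Q) v = 0 := by
        have := hk v hv
        rwa [Finset.prod_insert hP] at this
      refine Submodule.mem_sup.2 ⟨Polynomial.aeval f (b * Q) v, ⟨hW.aeval _ hv, ?_⟩,
        Polynomial.aeval f (a * P) v, ⟨hW.aeval _ hv, ?_⟩, ?_⟩
      · rw [SetLike.mem_coe, LinearMap.mem_ker, ← Module.End.mul_apply, ← map_mul,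
          show P * (b * Q) = b * (P * Q) by ring, map_mul, Module.End.mul_apply, hv', map_zero]
      · rw [SetLike.mem_coe, LinearMap.mem_ker, ← Module.End.mul_apply, ← map_mul,
          show Q * (a * P) = a * (P * Q) by ring, map_mul, Module.End.mul_apply, hv', map_zero]
      · rw [← LinearMap.add_apply, ← map_add, add_comm, hab, map_one, Module.End.one_apply]
    refine ((Submodule.finrank_mono h2).trans ?_).trans (Nat.add_le_add le_rfl (h1.trans
      (Finset.sum_le_sum fun R _ => Submodule.finrank_mono (inf_le_inf_right _ inf_le_left))))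
    exact Submodule.finrank_add_le_finrank_add_finrank _ _

theorem two_mul_ti_le [Finite F] {σ : F →+* F} {B : V →ₗ[F] V →ₛₗ[σ] F} (h : IsHerm B) {D W : Submodule F V}
    (hD : Nondeg B D) (hle : W ≤ D) (hW : TI B W) : 2 * Module.finrank F W ≤ Module.finrank F D := by
  have h1 := finrank_perp h hD hle
  have h2 : W ≤ perp B W ⊓ D := le_inf (fun u hu => mem_perp.2 (hW u hu)) hle
  have := Submodule.finrank_mono h2
  omega

end killed

section conj

variable [Fintype F] {P : F[X]}

/-- A power map of square order is a conjugation. -/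
theorem isConj_of_pow (hP : Irreducible P) (hm : P.Monic) {σ : F →+* F} {s : ℕ} (hs : 2 ≤ s)
    (bar : AdjoinRoot P →+* AdjoinRoot P) (hbar : ∀ x, bar x = x ^ s) (hσ : ∀ c, σ c = c ^ s)
    (hroot : AdjoinRoot.root P ^ (s + 1) = 1) (hcard : Nat.card (AdjoinRoot P) = s * s) :
    IsConj P σ bar := by
  haveI := Fact.mk hP
  haveI : Module.Finite F (AdjoinRoot P) := (AdjoinRoot.powerBasis' hm).finite
  haveI : Finite (AdjoinRoot P) := Module.finite_of_finite F
  refine ⟨fun c => by rw [hbar, ← map_pow, hσ], by rw [hbar, ← pow_succ]; exact hroot, fun e he => ?_⟩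
  rw [hbar] at he
  by_cases h0 : e = 0
  · exact ⟨0, by simp [h0]⟩
  obtain ⟨g, hg⟩ := IsCyclic.exists_generator (α := (AdjoinRoot P)ˣ)
  obtain ⟨k, hk⟩ := mem_powers_iff_mem_zpowers.2 (hg (Units.mk0 e h0))
  simp only at hk
  have hord : orderOf g = (s + 1) * (s - 1) := by
    rw [orderOf_eq_card_of_forall_mem_zpowers hg, Nat.card_units, hcard]
    obtain ⟨c, rfl⟩ : ∃ c, s = c + 1 := ⟨s - 1, by omega⟩
    rw [Nat.add_sub_cancel, show (c + 1) * (c + 1) = (c + 1 + 1) * c + 1 by ring, Nat.add_sub_cancel]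
  have h1 : g ^ (k * (s - 1)) = 1 := by
    rw [pow_mul, hk]
    refine Units.ext ?_
    rw [Units.val_pow_eq_pow_val, Units.val_mk0, Units.val_one]
    refine mul_left_cancel₀ h0 ?_
    rw [← pow_succ', Nat.sub_add_cancel (by omega : 1 ≤ s), he, mul_one]
  rw [← orderOf_dvd_iff_pow_eq_one, hord] at h1
  obtain ⟨c, rfl⟩ := Nat.dvd_of_mul_dvd_mul_right (by omega) h1
  refine ⟨((g ^ c : (AdjoinRoot P)ˣ) : AdjoinRoot P), ?_⟩
  have h2 := congrArg Units.val hk
  rw [Units.val_mk0, Units.val_pow_eq_pow_val] at h2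
  rw [hbar, Units.val_pow_eq_pow_val, ← pow_succ', ← pow_mul, mul_comm, h2]

theorem root_pow_eq_one {r : ℕ} [DecidableEq F] (hr : r ≠ 0) (hP : P ∈ factors F r) :
    AdjoinRoot.root P ^ r = 1 := by
  have h1 := AdjoinRoot.mk_eq_zero.2 ((mem_factors hr).1 hP).2.2.1
  rwa [map_sub, map_pow, AdjoinRoot.mk_X, map_one, sub_eq_zero] at h1

theorem card_adjoinRoot (hP : Irreducible P) (hm : P.Monic) :
    Nat.card (AdjoinRoot P) = Fintype.card F ^ P.natDegree := by
  haveI : Module.Finite F (AdjoinRoot P) := (AdjoinRoot.powerBasis' hm).finite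
  rw [Module.natCard_eq_pow_finrank (K := F), (AdjoinRoot.powerBasis' hm).finrank, AdjoinRoot.powerBasis'_dim,
    Nat.card_eq_fintype_card]

/-- For an even multiplicative order the factors of `X ^ r - 1` are self-conjugate. -/
theorem exists_isConj_pow [DecidableEq F] {r : ℕ} [Fact r.Prime] (hr : (r : F) ≠ 0) {j : ℕ} (hj : 0 < j)
    (hord : orderOf ((Fintype.card F : ℕ) : ZMod r) = 2 * j) (hP : P ∈ factors F r) :
    ∃ bar, IsConj P (RingHom.id F) bar ∧ ∀ x, bar x = x ^ Fintype.card F ^ j := by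
  have hr0 : r ≠ 0 := (Fact.out : r.Prime).ne_zero
  obtain ⟨hirr, hm, hd, hne⟩ := (mem_factors hr0).1 hP
  haveI := Fact.mk hirr
  haveI : Module.Finite F (AdjoinRoot P) := (AdjoinRoot.powerBasis' hm).finite
  haveI : Finite (AdjoinRoot P) := Module.finite_of_finite F
  let := Fintype.ofFinite (AdjoinRoot P)
  let φ := (FiniteField.frobeniusAlgHom F (AdjoinRoot P)) ^ j
  have hφ : ∀ x, φ x = x ^ Fintype.card F ^ j := fun x => by
    simp [φ, AlgHom.coe_pow, FiniteField.coe_frobeniusAlgHom, pow_iterate]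
  have hdvd : r ∣ Fintype.card F ^ j + 1 := by
    rw [← ZMod.natCast_eq_zero_iff, Nat.cast_add, Nat.cast_pow, Nat.cast_one]
    have h1 : ((Fintype.card F : ℕ) : ZMod r) ^ j * ((Fintype.card F : ℕ) : ZMod r) ^ j = 1 := by
      rw [← pow_add, ← two_mul, ← hord, pow_orderOf_eq_one]
    rcases mul_self_eq_one_iff.1 h1 with h2 | h2
    · exact absurd h2 (pow_ne_one_of_lt_orderOf hj.ne' (by omega))
    · rw [h2, neg_add_cancel]
  refine ⟨φ.toRingHom, isConj_of_pow hirr hm (s := Fintype.card F ^ j) ?_ φ.toRingHom hφ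
    (fun c => (FiniteField.pow_card_pow j c).symm) ?_ ?_, hφ⟩
  · exact (Fintype.one_lt_card (α := F)).trans_le (Nat.le_self_pow hj.ne' _)
  · obtain ⟨c, hc⟩ := hdvd
    rw [hc, pow_mul, root_pow_eq_one hr0 hP, one_pow]
  · rw [card_adjoinRoot hirr hm, natDegree_eq_orderOf hr hirr hm hd hne, hord, ← pow_add, two_mul]

theorem exists_isConj [DecidableEq F] {r : ℕ} [Fact r.Prime] (hr : (r : F) ≠ 0) {j : ℕ} (hj : 0 < j)
    (hord : orderOf ((Fintype.card F : ℕ) : ZMod r) = 2 * j) (hP : P ∈ factors F r) :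
    ∃ bar, IsConj P (RingHom.id F) bar := by
  obtain ⟨bar, hbar, -⟩ := exists_isConj_pow hr hj hord hP
  exact ⟨bar, hbar⟩

end conj

section symplectic

variable [FiniteDimensional F V] {B : LinearMap.BilinForm F V} {f : Module.End F V}

theorem isHerm_alt (hA : B.IsAlt) (hnd : ∀ u, (∀ v, B u v = 0) → u = 0) : IsHerm (σ := RingHom.id F) B :=
  ⟨⟨-1, fun u v => by rw [RingHom.id_apply, neg_one_mul]; exact (LinearMap.IsAlt.neg hA u v).symm⟩, hnd⟩

theorem even_finrank (hA : B.IsAlt) {D : Submodule F V} (hD : Nondeg (σ := RingHom.id F) B D) :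
    Even (Module.finrank F D) := by
  obtain ⟨m, b, -⟩ := CfsgLib.Geometry.exists_sympBasis_of_nondeg hA D hD
  rw [Module.finrank_eq_card_basis b, Fintype.card_sum, Fintype.card_fin]
  exact ⟨m, rfl⟩

/-- Totally isotropic subspaces of the fixed space. -/
theorem exists_ti_fix [Finite F] (hA : B.IsAlt) (hnd : ∀ u, (∀ v, B u v = 0) → u = 0)
    (hf : ∀ u v, B (f u) (f v) = B u v) {r : ℕ} (hr : (r : F) ≠ 0) (hfr : f ^ r = 1) {l : ℕ}
    (hl : 2 * l ≤ Module.finrank F (fixSp f)) :
    ∃ W, W ≤ fixSp f ∧ Inv f W ∧ TI (σ := RingHom.id F) B W ∧ Module.finrank F W = l := by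
  have h := isHerm_alt hA hnd
  have hk := killed_fixSp (f := f) hr hfr
  obtain ⟨J, hJ, hW⟩ := exists_ti h hf (isSemisimple_of_pow hr hfr) {X - 1} 0 (fixSp f)
    (nondeg_fixSp hr hfr h hf) hk fun U hU _ hUi hani => by
      rw [zero_mul, Nat.le_zero, Submodule.finrank_eq_zero, Submodule.eq_bot_iff]
      intro v hv
      have hfix := mem_fixSp.1 (hU hv)
      have hcyc : cyc f v ≤ Submodule.span F {v} := cyc_le (fun w hw => by
        obtain ⟨c, rfl⟩ := Submodule.mem_span_singleton.1 hw
        rw [map_smul, hfix]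
        exact hw) (Submodule.mem_span_singleton_self v)
      refine hani _ (Finset.mem_singleton_self _) v hv ?_ fun x hx y hy => ?_
      · simp [hfix]
      · obtain ⟨c, rfl⟩ := Submodule.mem_span_singleton.1 (hcyc hx)
        obtain ⟨e, rfl⟩ := Submodule.mem_span_singleton.1 (hcyc hy)
        simp [hA v]
  rw [mul_one, add_zero] at hJ
  obtain ⟨W, h1, h2, h3, h4⟩ := hW l (by omega)
  exact ⟨W, h1, h2, h3, by rw [h4, mul_one]⟩

/-- Totally isotropic subspaces of the moved space. -/
theorem exists_ti_mov [Fintype F] (hA : B.IsAlt) (hnd : ∀ u, (∀ v, B u v = 0) → u = 0)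
    (hf : ∀ u v, B (f u) (f v) = B u v) {r : ℕ} [Fact r.Prime] (hr : (r : F) ≠ 0) (hfr : f ^ r = 1) :
    ∃ N J : ℕ, Module.finrank F (movSp f) = N * orderOf ((Fintype.card F : ℕ) : ZMod r) ∧
      (Odd (orderOf ((Fintype.card F : ℕ) : ZMod r)) → N = 2 * J) ∧
      N ≤ 2 * J + (r - 1) / orderOf ((Fintype.card F : ℕ) : ZMod r) ∧
      ∀ j ≤ J, ∃ W, W ≤ movSp f ∧ Inv f W ∧ TI (σ := RingHom.id F) B W ∧
        Module.finrank F W = j * orderOf ((Fintype.card F : ℕ) : ZMod r) := by
  classical
  have h := isHerm_alt hA hnd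
  set i := orderOf ((Fintype.card F : ℕ) : ZMod r) with hi
  have hk := killed_movSp (f := f) hr hfr
  have hss := isSemisimple_of_pow hr hfr
  have hD := nondeg_movSp hr hfr h hf
  have hqr : ((Fintype.card F : ℕ) : ZMod r) ≠ 0 := fun h0 => by
    rw [ZMod.natCast_eq_zero_iff] at h0
    obtain ⟨p, hp⟩ := CharP.exists F
    obtain ⟨n, hp', hq⟩ := FiniteField.card F p
    rw [hq] at h0
    exact hr ((CharP.cast_eq_zero_iff F p r).2
      (((Nat.prime_dvd_prime_iff_eq (Fact.out : r.Prime) hp').1 ((Fact.out : r.Prime).dvd_of_dvd_pow h0)).symm ▸ dvd_rfl))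
  have hipos : 0 < i := orderOf_pos_iff.2 ((isOfFinOrder_iff_pow_eq_one).2
    ⟨r - 1, by have := (Fact.out : r.Prime).two_le; omega, ZMod.pow_card_sub_one_eq_one hqr⟩)
  have hcard := card_factors (F := F) (r := r) hr
  rw [← hi] at hcard
  obtain ⟨N, hN⟩ : i ∣ Module.finrank F (movSp f) := finrank_dvd hss hk
  rw [mul_comm] at hN
  rcases Nat.even_or_odd i with ⟨j₀, hj₀⟩ | hodd
  · obtain ⟨J, hJ, hW⟩ := exists_ti h hf hss (factors F r) (factors F r).card (movSp f) hD hk
      fun U hU hUnd hUi hani => finrank_aniso_le h hf (factors F r) (fun P hP v₁ v₂ h1 h2 n1 n2 ho => by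
        obtain ⟨bar, hbar⟩ := exists_isConj hr (j := j₀) (by omega) (by omega) hP
        exact exists_ti_of_pair (hk.irr P hP) h hbar (monic_factor (Fact.out : r.Prime).ne_zero hP) hf
          h1 h2 n1 n2 ho) U hUnd (hk.mono hUi hU) hani
    refine ⟨N, J, hN, fun ho => absurd ⟨j₀, hj₀⟩ (Nat.not_even_iff_odd.2 ho), ?_, hW⟩
    rw [hN] at hJ
    have h1 := Nat.le_of_mul_le_mul_right hJ hipos
    rwa [← hcard, Nat.mul_div_cancel _ hipos]
  · obtain ⟨J, hJ, hW⟩ := exists_ti h hf hss (factors F r) 0 (movSp f) hD hk fun U hU hUnd hUi hani => by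
      rw [zero_mul, Nat.le_zero, Submodule.finrank_eq_zero]
      by_contra h0
      obtain ⟨P, hP, v, hv, hv0, hPv⟩ := exists_factor _ hUi h0 (hk.mono hUi hU).kill
      refine hv0 (hani P hP v hv hPv fun x hx y hy => ?_)
      by_contra hxy
      have hWnd : Nondeg (σ := RingHom.id F) B (cyc f v) := fun u hu huW => by
        by_contra hu0
        have h1 := cyc_minimal (hk.irr P hP) hPv (((cyc_inv v).perp h hf).inf (cyc_inv v)) hu ⟨huW, hu⟩ hu0
        exact hxy ((h1 hx).1 y hy)
      have h2 := even_finrank hA hWnd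
      rw [finrank_cyc (hk.irr P hP) hPv hv0, hk.deg P hP] at h2
      exact Nat.not_even_iff_odd.2 hodd h2
    rw [add_zero, hN] at hJ
    have h1 := Nat.le_of_mul_le_mul_right hJ hipos
    -- a totally isotropic subspace has at most half the dimension
    obtain ⟨W, hWle, -, hWti, hWr⟩ := hW J le_rfl
    have h2 := two_mul_ti_le h hD hWle hWti
    rw [hWr, hN, ← mul_assoc] at h2
    have h3 := Nat.le_of_mul_le_mul_right h2 hipos
    exact ⟨N, J, hN, fun _ => by omega, h1.trans (Nat.le_add_right _ _), hW⟩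

end symplectic

end CfsgLib.PrimeOrderSp
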