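import Cfsg.Agent.Lib.PrimeOrderSp.Sesq

/-!
# Two orthogonal isomorphic anisotropic constituents give an isotropic one
-/

set_option autoImplicit false

namespace CfsgLib.PrimeOrderSp

open Polynomial

variable {F : Type*} [Field F] {σ : F →+* F}

/-- A ring map of `F[X]/(P)` extending `σ` and inverting the root, with surjective norm. -/
structure IsConj (P : F[X]) (σ : F →+* F) (bar : AdjoinRoot P →+* AdjoinRoot P) : Prop where
  of : ∀ c, bar (AdjoinRoot.of P c) = AdjoinRoot.of P (σ c)
  root : bar (AdjoinRoot.root P) * AdjoinRoot.root P = 1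
  norm : ∀ e, bar e = e → ∃ c, c * bar c = e

variable {V : Type*} [AddCommGroup V] [Module F V] {B : V →ₗ[F] V →ₛₗ[σ] F} {f : Module.End F V}
  {P : F[X]}

/-- The action of `F[X]/(P)` on a vector killed by `P(f)`. -/
noncomputable def act (f : Module.End F V) (hm : P.Monic) (v : V) : AdjoinRoot P →ₗ[F] V :=
  (evalAt f v) ∘ₗ (AdjoinRoot.modByMonicHom hm)

variable {hm : P.Monic} {v : V}

theorem act_mk (hP : Irreducible P) (hv : Polynomial.aeval f P v = 0) (a : F[X]) :
    act f hm v (AdjoinRoot.mk P a) = Polynomial.aeval f a v := by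
  change Polynomial.aeval f (AdjoinRoot.modByMonicHom hm (AdjoinRoot.mk P a)) v = _
  rw [AdjoinRoot.modByMonicHom_mk]
  conv_rhs => rw [← Polynomial.modByMonic_add_div a P]
  rw [map_add, LinearMap.add_apply, mul_comm P, map_mul, Module.End.mul_apply, hv, map_zero, add_zero]

theorem mem_cyc_act (a : AdjoinRoot P) : act f hm v a ∈ cyc f v := ⟨_, rfl⟩

theorem act_one (hP : Irreducible P) (hv : Polynomial.aeval f P v = 0) : act f hm v 1 = v := by
  have h := act_mk (hm := hm) hP hv 1
  simpa using h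

theorem exists_act (hP : Irreducible P) (hv : Polynomial.aeval f P v = 0) {u : V} (hu : u ∈ cyc f v) :
    ∃ a, act f hm v a = u := by
  obtain ⟨a, rfl⟩ := hu
  exact ⟨AdjoinRoot.mk P a, act_mk hP hv a⟩

theorem act_smul_add (hP : Irreducible P) {w : V} (hv : Polynomial.aeval f P v = 0)
    (hw : Polynomial.aeval f P w = 0) (c a : AdjoinRoot P) :
    act f hm (v + act f hm w c) a = act f hm v a + act f hm w (a * c) := by
  obtain ⟨c, rfl⟩ := AdjoinRoot.mk_surjective c
  obtain ⟨a, rfl⟩ := AdjoinRoot.mk_surjective a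
  have h : Polynomial.aeval f P (v + act f hm w (AdjoinRoot.mk P c)) = 0 := by
    rw [map_add, hv, zero_add, act_mk hP hw, ← Module.End.mul_apply, ← map_mul, mul_comm, map_mul,
      Module.End.mul_apply, hw, map_zero]
  rw [act_mk hP h, act_mk hP hv, ← map_mul (AdjoinRoot.mk P), act_mk hP hw, act_mk hP hw, map_add,
    map_mul, Module.End.mul_apply]

variable (hP : Irreducible P) (hv : Polynomial.aeval f P v = 0)
include hP hv

theorem apply_act (a : AdjoinRoot P) : f (act f hm v a) = act f hm v (a * AdjoinRoot.root P) := by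
  obtain ⟨a, rfl⟩ := AdjoinRoot.mk_surjective a
  rw [← AdjoinRoot.mk_X (f := P), ← map_mul, act_mk hP hv, act_mk hP hv, mul_comm, map_mul, aeval_X,
    Module.End.mul_apply]

theorem form_act {bar : AdjoinRoot P →+* AdjoinRoot P} (hbar : IsConj P σ bar)
    (hf : ∀ u w, B (f u) (f w) = B u w) (a b : AdjoinRoot P) :
    B (act f hm v a) (act f hm v b) = B (act f hm v (a * bar b)) v := by
  obtain ⟨b, rfl⟩ := AdjoinRoot.mk_surjective b
  induction b using Polynomial.induction_on generalizing a with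
  | C c =>
    have e : AdjoinRoot.of P (σ c) = algebraMap F (AdjoinRoot P) (σ c) := rfl
    rw [act_mk hP hv, aeval_C, Module.algebraMap_end_apply, map_smulₛₗ, AdjoinRoot.mk_C, hbar.of, e,
      mul_comm a, ← Algebra.smul_def, map_smul, map_smul]
    rfl
  | add b b' hb hb' =>
    rw [map_add, map_add, map_add, hb, hb', map_add bar, mul_add, map_add, map_add, LinearMap.add_apply]
  | monomial k c ih =>
    rw [pow_succ, ← mul_assoc, map_mul, AdjoinRoot.mk_X, ← apply_act hP hv]
    have h2 : act f hm v a = f (act f hm v (a * bar (AdjoinRoot.root P))) := by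
      rw [apply_act hP hv, mul_assoc, hbar.root, mul_one]
    rw [h2, hf, ih, map_mul bar, mul_assoc, mul_comm (bar (AdjoinRoot.root P))]

omit hv in
theorem exists_ti_of_pair [Finite F] [FiniteDimensional F V] (h : IsHerm B)
    {bar : AdjoinRoot P →+* AdjoinRoot P} (hbar : IsConj P σ bar) (hm : P.Monic)
    (hf : ∀ u w, B (f u) (f w) = B u w) {v₁ v₂ : V}
    (h₁ : Polynomial.aeval f P v₁ = 0) (h₂ : Polynomial.aeval f P v₂ = 0)
    (n₁ : ¬ TI B (cyc f v₁)) (n₂ : ¬ TI B (cyc f v₂)) (ho : cyc f v₂ ≤ perp B (cyc f v₁)) :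
    ∃ w ∈ cyc f v₁ ⊔ cyc f v₂, w ≠ 0 ∧ Polynomial.aeval f P w = 0 ∧ TI B (cyc f w) := by
  haveI := Fact.mk hP
  haveI : Module.Finite F (AdjoinRoot P) := (AdjoinRoot.powerBasis' hm).finite
  haveI : Finite (AdjoinRoot P) := Module.finite_of_finite F
  obtain ⟨ε, hε⟩ := h.symm
  -- the functionals
  let lam : V → Module.Dual F (AdjoinRoot P) := fun w =>
    { toFun := fun a => B (act f hm w a) w
      map_add' := fun a b => by rw [map_add, map_add, LinearMap.add_apply]
      map_smul' := fun c a => by rw [map_smul, map_smul, LinearMap.smul_apply, RingHom.id_apply] }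
  have lam_apply : ∀ w a, lam w a = B (act f hm w a) w := fun _ _ => rfl
  have key : ∀ w, Polynomial.aeval f P w = 0 → ¬ TI B (cyc f w) → lam w ≠ 0 := fun w hw nw h0 =>
    nw fun x hx y hy => by
      obtain ⟨a, rfl⟩ := exists_act (hm := hm) hP hw hx
      obtain ⟨b, rfl⟩ := exists_act (hm := hm) hP hw hy
      rw [form_act hP hw hbar hf, ← lam_apply, h0, LinearMap.zero_apply]
  have herm : ∀ w, Polynomial.aeval f P w = 0 → ∀ a, lam w (bar a) = ε * σ (lam w a) := fun w hw a => by
    have h3 := form_act (hm := hm) hP hw hbar hf 1 a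
    rw [one_mul, act_one hP hw] at h3
    rw [lam_apply, ← h3, hε, lam_apply]
  let Φ : AdjoinRoot P →ₗ[F] Module.Dual F (AdjoinRoot P) :=
    (LinearMap.llcomp F (AdjoinRoot P) (AdjoinRoot P) F (lam v₂)) ∘ₗ LinearMap.mul F (AdjoinRoot P)
  have Φ_apply : ∀ e a, Φ e a = lam v₂ (e * a) := fun _ _ => rfl
  have hΦ : Function.Injective Φ := (injective_iff_map_eq_zero Φ).2 fun e he => by
    by_contra he0
    refine key v₂ h₂ n₂ (LinearMap.ext fun a => ?_)
    have := congrArg (fun φ => φ (e⁻¹ * a)) he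
    simpa [Φ_apply, mul_inv_cancel_left₀ he0] using this
  obtain ⟨e, he⟩ := (LinearMap.injective_iff_surjective_of_finrank_eq_finrank
    (Subspace.dual_finrank_eq (K := F) (V := AdjoinRoot P)).symm).1 hΦ (lam v₁)
  have hbe : bar e = e := by
    refine hΦ (LinearMap.ext fun a => ?_)
    obtain ⟨a, rfl⟩ := (Finite.injective_iff_surjective.1 bar.injective) a
    rw [Φ_apply, ← map_mul, herm v₂ h₂, ← Φ_apply, he, ← herm v₁ h₁, ← he]
  obtain ⟨c, hc⟩ := hbar.norm (-e) (by rw [map_neg, hbe])
  refine ⟨v₁ + act f hm v₂ c, Submodule.add_mem_sup (mem_cyc_self v₁) (mem_cyc_act c), ?_, ?_, ?_⟩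
  · intro h0
    refine n₁ fun x hx y hy => ?_
    have hv1 : v₁ ∈ cyc f v₂ := by
      rw [eq_neg_of_add_eq_zero_left h0]
      exact Submodule.neg_mem _ (mem_cyc_act c)
    exact h.refl (ho (cyc_le (cyc_inv v₂) hv1 hy) x hx)
  · obtain ⟨c, rfl⟩ := AdjoinRoot.mk_surjective c
    rw [map_add, h₁, zero_add, act_mk hP h₂, ← Module.End.mul_apply, ← map_mul, mul_comm, map_mul,
      Module.End.mul_apply, h₂, map_zero]
  · have hw : Polynomial.aeval f P (v₁ + act f hm v₂ c) = 0 := by
      obtain ⟨c, rfl⟩ := AdjoinRoot.mk_surjective c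
      rw [map_add, h₁, zero_add, act_mk hP h₂, ← Module.End.mul_apply, ← map_mul, mul_comm, map_mul,
        Module.End.mul_apply, h₂, map_zero]
    have hz : ∀ a, B (act f hm (v₁ + act f hm v₂ c) a) (v₁ + act f hm v₂ c) = 0 := fun a => by
      rw [act_smul_add hP h₁ h₂]
      simp only [map_add, LinearMap.add_apply]
      rw [h.refl (ho (mem_cyc_act c) _ (mem_cyc_act a)), ho (mem_cyc_act (a * c)) v₁ (mem_cyc_self v₁),
        add_zero, zero_add, form_act hP h₂ hbar hf, mul_assoc, hc, ← lam_apply, ← lam_apply, ← he,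
        Φ_apply, ← map_add, mul_comm e, ← mul_add, add_neg_cancel, mul_zero, map_zero]
    intro x hx y hy
    obtain ⟨a, rfl⟩ := exists_act (hm := hm) hP hw hx
    obtain ⟨b, rfl⟩ := exists_act (hm := hm) hP hw hy
    rw [form_act hP hw hbar hf]
    exact hz _

end CfsgLib.PrimeOrderSp
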