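import Cfsg.Agent.Lib.OrthPrime.Iso
import Cfsg.Agent.Lib.OrthPrime.Struct
import Cfsg.Agent.Lib.PrimeOrderSp.Model
import Cfsg.Agent.Lib.PrimeOrderSp.SpGL
import Cfsg.Agent.Lib.Geometry.Symplectic

/-!
Elements of prime order of `Sp_{2d}(q)`, `q` even, and the orthogonal subgroups.
-/

set_option autoImplicit false
set_option linter.unusedSectionVars false

namespace CfsgLib.PrimeOrderSp.QuadStab

open QuadraticMap CfsgLib.Geometry CfsgLib.OrthPrime
open scoped Matrix MatrixGroups

universe u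

variable {F : Type u} [Field F] [Fintype F] [DecidableEq F] [CharP F 2] {d : ℕ}

local notation "V" => (Fin d ⊕ Fin d → F)
local notation "Mat" => Matrix (Fin d ⊕ Fin d) (Fin d ⊕ Fin d) F

/-- The quadratic forms with polar `sympForm`. -/
def Pol (Q : QuadraticForm F V) : Prop := ∀ u v, polar Q u v = Cfsg.sympForm d F u v

theorem form_symm (u v : V) : Cfsg.sympForm d F u v = Cfsg.sympForm d F v u := by
  rw [← sympBilin_apply, ← sympBilin_apply, ← LinearMap.IsAlt.neg (sympBilin_isAlt d F) v u, CharTwo.neg_eq]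

theorem form_self (u : V) : Cfsg.sympForm d F u u = 0 := sympBilin_isAlt d F u

theorem exists_dual (l : V →ₗ[F] F) : ∃ a : V, ∀ v, l v = Cfsg.sympForm d F a v := by
  refine ⟨((sympBilin d F).toDual (sympBilin_nondegenerate d F)).symm l, fun v => ?_⟩
  rw [← sympBilin_apply, LinearMap.BilinForm.apply_toDual_symm_apply]

theorem eq_zero_of_form {u : V} (h : ∀ v, Cfsg.sympForm d F u v = 0) : u = 0 :=
  (sympBilin_nondegenerate d F).1 u h

theorem finrank_V : Module.finrank F V = 2 * d := by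
  rw [Module.finrank_fintype_fun_eq_card, Fintype.card_sum, Fintype.card_fin, two_mul]

variable {Q R : QuadraticForm F (Fin d ⊕ Fin d → F)}

theorem nondeg_of_pol (hQ : Pol Q) : (polarBilin Q).Nondegenerate := by
  rw [show polarBilin Q = sympBilin d F from LinearMap.ext fun u => LinearMap.ext fun v => hQ u v]
  exact sympBilin_nondegenerate d F

theorem top_nondeg (hQ : Pol Q) : (⊤ : Submodule F V) ⊓ polarPerp Q ⊤ = ⊥ := by
  refine eq_bot_iff.2 fun x hx => (Submodule.mem_bot F).2 (eq_zero_of_form fun v => ?_)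
  rw [form_symm, ← hQ]
  exact mem_polarPerp.1 (Submodule.mem_inf.1 hx).2 v Submodule.mem_top

/-- The form shifted by the square of a functional. -/
def shift (Q : QuadraticForm F V) (a : V) : QuadraticForm F V :=
  Q + linMulLin (sympBilin d F a) (sympBilin d F a)

theorem shift_apply (Q : QuadraticForm F V) (a v : V) :
    shift Q a v = Q v + Cfsg.sympForm d F a v * Cfsg.sympForm d F a v := rfl

theorem shift_pol (hQ : Pol Q) (a : V) : Pol (shift Q a) := fun u v => by
  rw [← hQ u v]
  simp only [polar, shift_apply, ← sympBilin_apply, map_add]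
  linear_combination sympBilin d F a u * sympBilin d F a v * (CharTwo.two_eq_zero : (2 : F) = 0)

theorem sq_inj {x y : F} (h : x * x = y * y) : x = y :=
  CharTwo.sq_injective (by show x ^ 2 = y ^ 2; rw [pow_two, pow_two, h])

theorem shift_inj {a b : V} (h : ∀ v, shift Q a v = shift Q b v) : a = b :=
  sub_eq_zero.1 (eq_zero_of_form fun v => by
    rw [← sympBilin_apply, map_sub, LinearMap.sub_apply, sympBilin_apply, sympBilin_apply,
      sq_inj (add_left_cancel ((shift_apply Q a v).symm.trans ((h v).trans (shift_apply Q b v)))), sub_self])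

theorem exists_sqrt (x : F) : ∃ y : F, y * y = x :=
  ⟨(frobeniusEquiv F 2).symm x, by rw [← pow_two, frobeniusEquiv_symm_pow_p]⟩

theorem exists_shift (hQ : Pol Q) (hR : Pol R) : ∃ a, ∀ v, R v = shift Q a v := by
  have hex : ∀ v, ∃ y : F, y * y = R v + Q v := fun v => exists_sqrt _
  choose s hs using hex
  let l : V →ₗ[F] F :=
    { toFun := s
      map_add' := fun u v => sq_inj (by
        rw [hs]
        have h1 := hQ u v
        have h2 := hR u v
        rw [polar] at h1 h2
        linear_combination h1 + h2 - hs u - hs v +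
          (Cfsg.sympForm d F u v - s u * s v) * (CharTwo.two_eq_zero : (2 : F) = 0))
      map_smul' := fun c v => sq_inj (by
        rw [hs, QuadraticMap.map_smul, QuadraticMap.map_smul]
        simp only [smul_eq_mul, RingHom.id_apply]
        linear_combination -(c * c) * hs v) }
  obtain ⟨a, ha⟩ := exists_dual l
  refine ⟨a, fun v => ?_⟩
  rw [shift_apply, ← ha v, show l v = s v from rfl, hs]
  linear_combination -(Q v) * (CharTwo.two_eq_zero : (2 : F) = 0)

/-! ### The Artin–Schreier subgroup -/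

/-- The elements `s² + s`. -/
def wp (F : Type u) [Field F] [CharP F 2] : AddSubgroup F :=
  AddMonoidHom.range
    { toFun := fun s : F => s * s + s
      map_zero' := by simp
      map_add' := fun s t => by linear_combination s * t * (CharTwo.two_eq_zero : (2 : F) = 0) }

theorem mem_wp {x : F} : x ∈ wp F ↔ ∃ s, s * s + s = x := Iff.rfl

theorem two_card_wp : 2 * Nat.card (wp F) = Nat.card F := by
  set φ : F →+ F :=
    { toFun := fun s : F => s * s + s
      map_zero' := by simp
      map_add' := fun s t => by linear_combination s * t * (CharTwo.two_eq_zero : (2 : F) = 0) }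
  have h1 : φ.ker.index = Nat.card (wp F) := AddSubgroup.index_ker φ
  have h2 := φ.ker.index_mul_card
  have h3 : Nat.card φ.ker = 2 := by
    rw [Nat.card_eq_two_iff]
    refine ⟨⟨0, by simp⟩, ⟨1, ?_⟩, fun h => zero_ne_one (congrArg Subtype.val h), ?_⟩
    · show (1 : F) * 1 + 1 = 0
      rw [one_mul, CharTwo.add_self_eq_zero]
    · refine Set.eq_univ_of_forall fun x => ?_
      have h0 : (x : F) * (x : F) + (x : F) = 0 := x.2
      have h : (x : F) * ((x : F) + 1) = 0 := by linear_combination h0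
      rcases mul_eq_zero.1 h with h | h
      · exact Or.inl (Subtype.ext h)
      · exact Or.inr (Subtype.ext (CharTwo.add_eq_zero.1 h))
  rw [h1, h3] at h2
  omega

theorem wp_index : (wp F).index = 2 := by
  have h1 := (wp F).index_mul_card
  have h2 := two_card_wp (F := F)
  have h3 : 0 < Nat.card (wp F) := Nat.card_pos
  exact Nat.eq_of_mul_eq_mul_right h3 (by omega)

theorem exists_not_wp : ∃ x : F, x ∉ wp F := by
  by_contra h
  push Not at h
  have := wp_index (F := F)
  rw [AddSubgroup.index_eq_one.2 ((AddSubgroup.eq_top_iff' _).2 h)] at this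
  omega

/-! ### Types -/

theorem plus_congr {Q' : QuadraticForm F V} {D : Submodule F V} (h : ∀ v ∈ D, Q v = Q' v) :
    sgn Q D = sgn Q' D := by
  by_cases hp : Plus Q D
  · obtain ⟨U, hU, hQ, hd⟩ := hp
    rw [sgn_plus ⟨U, hU, hQ, hd⟩, sgn_plus ⟨U, hU, fun u hu => by rw [← h u (hU hu)]; exact hQ u hu, hd⟩]
  · rw [sgn_minus hp, sgn_minus fun ⟨U, hU, hQ, hd⟩ => hp ⟨U, hU, fun u hu => by rw [h u (hU hu)]; exact hQ u hu, hd⟩]

theorem sgn_equiv {Q' : QuadraticForm F V} (e : V ≃ₗ[F] V) (he : ∀ v, Q' (e v) = Q v) : sgn Q' ⊤ = sgn Q ⊤ := by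
  have h := sgn_map_isometry e he ⊤
  rwa [Submodule.map_top, LinearMap.range_eq_top.2 e.surjective] at h

/-- The type of a plane with a hyperbolic basis `a, b` of its polar form. -/
theorem plane_plus {D : Submodule F V} {a b : V} (hD : D = Submodule.span F {a, b}) (hd : Module.finrank F D = 2)
    (hab : polar R a b = 1) (ha : R a ≠ 0) : Plus R D ↔ R a * R b ∈ wp F := by
  have hval : ∀ x y : F, R (x • a + y • b) = x * x * R a + x * y + y * y * R b := fun x y => by
    rw [CfsgLib.Geometry.map_add', QuadraticMap.map_smul, QuadraticMap.map_smul, polar_smul_left, polar_smul_right, hab]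
    simp only [smul_eq_mul]
    ring
  constructor
  · rintro ⟨U, hU, hUR, hUd⟩
    obtain ⟨u, hu, hu0⟩ := Submodule.exists_mem_ne_zero_of_ne_bot (p := U) fun h => by
      rw [h, finrank_bot, hd] at hUd; omega
    have huD := hU hu
    rw [hD, Submodule.mem_span_pair] at huD
    obtain ⟨x, y, rfl⟩ := huD
    have h0 : x * x * R a + x * y + y * y * R b = 0 := by rw [← hval]; exact hUR _ hu
    rcases eq_or_ne y 0 with rfl | hy
    · simp only [mul_zero, zero_mul, add_zero, mul_eq_zero, or_self] at h0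
      rw [or_iff_left ha] at h0
      simp [h0] at hu0
    · refine mem_wp.2 ⟨x / y * R a, ?_⟩
      field_simp
      linear_combination h0 - R b * y ^ 2 * (CharTwo.two_eq_zero : (2 : F) = 0)
  · rintro h
    obtain ⟨s, hs⟩ := mem_wp.1 h
    have hab0 : (s / R a) • a + b ≠ 0 := fun h0 => by
      have h1 := congrArg (fun z => polar R a z) h0
      simp only [polar_add_right, polar_smul_right, polar_zero_right, hab, QuadraticMap.polar_self, two_smul,
        CharTwo.add_self_eq_zero, smul_zero, zero_add] at h1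
      exact one_ne_zero h1
    refine ⟨Submodule.span F {(s / R a) • a + b}, ?_, fun u hu => ?_, by rw [finrank_span_singleton hab0, hd]⟩
    · rw [Submodule.span_singleton_le_iff_mem, hD, Submodule.mem_span_pair]
      exact ⟨s / R a, 1, by rw [one_smul]⟩
    · obtain ⟨c, rfl⟩ := Submodule.mem_span_singleton.1 hu
      rw [QuadraticMap.map_smul, show R ((s / R a) • a + b) = 0 by
        have h := hval (s / R a) 1
        rw [one_smul] at h
        rw [h]
        field_simp
        linear_combination hs + R a * R b * (CharTwo.two_eq_zero : (2 : F) = 0), smul_zero]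

theorem sgn_shift (hQ : Pol Q) (a : V) : sgn (shift Q a) ⊤ = sgn Q ⊤ ↔ Q a ∈ wp F := by
  constructor
  · intro h
    by_contra hw
    have ha0 : Q a ≠ 0 := fun h0 => hw (by rw [h0]; exact zero_mem _)
    obtain ⟨b₀, hb₀⟩ : ∃ b, Cfsg.sympForm d F a b ≠ 0 := by
      by_contra h0
      push Not at h0
      exact ha0 (by rw [eq_zero_of_form h0, QuadraticMap.map_zero])
    set b := (Cfsg.sympForm d F a b₀)⁻¹ • b₀
    have hab : Cfsg.sympForm d F a b = 1 := by
      rw [← sympBilin_apply, map_smul, sympBilin_apply, smul_eq_mul, inv_mul_cancel₀ hb₀]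
    set D := Submodule.span F ({a, b} : Set V) with hDdef
    have hli : LinearIndependent F ![a, b] := LinearIndependent.pair_iff.2 fun x y hxy => by
      have e1 := congrArg (fun z => sympBilin d F a z) hxy
      have e2 := congrArg (fun z => sympBilin d F z b) hxy
      simp only [map_add, map_smul, map_zero, LinearMap.add_apply, LinearMap.smul_apply, LinearMap.zero_apply,
        sympBilin_apply, form_self, hab, smul_eq_mul, mul_zero, mul_one, zero_add, add_zero] at e1 e2
      exact ⟨e2, e1⟩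
    have hd : Module.finrank F D = 2 := by
      have h := finrank_span_eq_card hli
      rw [Matrix.range_cons_cons_empty, Fintype.card_fin] at h
      exact h
    have hab' : ∀ {R : QuadraticForm F V}, Pol R → polar R a b = 1 := fun hR => (hR a b).trans hab
    have hDn : ∀ {R : QuadraticForm F V}, Pol R → D ⊓ polarPerp R D = ⊥ := fun {R} hR => by
      refine eq_bot_iff.2 fun z hz => (Submodule.mem_bot F).2 ?_
      obtain ⟨hz1, hz2⟩ := Submodule.mem_inf.1 hz
      rw [hDdef, Submodule.mem_span_pair] at hz1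
      obtain ⟨x, y, rfl⟩ := hz1
      have e1 := mem_polarPerp.1 hz2 a (Submodule.subset_span (by simp))
      have e2 := mem_polarPerp.1 hz2 b (Submodule.subset_span (by simp))
      simp only [hR _ _, ← sympBilin_apply, map_add, map_smul] at e1 e2
      simp only [sympBilin_apply, form_self, hab, form_symm b a, smul_eq_mul, mul_zero, mul_one, zero_add,
        add_zero] at e1 e2
      rw [e1, e2, zero_smul, zero_smul, add_zero]
    have hQ' := shift_pol hQ a
    have split : ∀ {R : QuadraticForm F V}, Pol R → sgn R ⊤ = sgn R D * sgn R (⊤ ⊓ polarPerp R D) := fun {R} hR => by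
      obtain ⟨hC, -, hsup, ho, hfr⟩ := exists_orth_compl (top_nondeg hR) le_top (hDn hR)
      rw [hd, finrank_top, finrank_V] at hfr
      rw [← sgn_sup (hDn hR) hC ho (by rw [hd]; exact even_two) ⟨d - 1, by omega⟩, hsup]
    have hC : (⊤ : Submodule F V) ⊓ polarPerp (shift Q a) D = ⊤ ⊓ polarPerp Q D := by
      ext z
      simp only [Submodule.mem_inf, Submodule.mem_top, true_and, mem_polarPerp, hQ', hQ _ _, hQ' _ _]
    have hagree : ∀ v ∈ (⊤ : Submodule F V) ⊓ polarPerp Q D, shift Q a v = Q v := fun v hv => by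
      have := mem_polarPerp.1 (Submodule.mem_inf.1 hv).2 a (Submodule.subset_span (by simp))
      rw [hQ] at this
      rw [shift_apply, this, mul_zero, add_zero]
    rw [split hQ', split hQ, hC, plus_congr hagree] at h
    have h0 : sgn Q (⊤ ⊓ polarPerp Q D) ≠ 0 := by rcases sgn_cases (Q := Q) (⊤ ⊓ polarPerp Q D) with h | h <;> omega
    have h' := mul_right_cancel₀ h0 h
    have hiff : Plus (shift Q a) D ↔ Plus Q D := by rw [plus_iff_sgn, plus_iff_sgn, h']
    have ea : shift Q a a = Q a := by rw [shift_apply, form_self, mul_zero, add_zero]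
    have eb : shift Q a b = Q b + 1 := by rw [shift_apply, hab, mul_one]
    rw [plane_plus rfl hd (hab' hQ') (by rw [ea]; exact ha0), plane_plus rfl hd (hab' hQ) ha0, ea, eb, mul_add,
      mul_one] at hiff
    by_cases hp : Q a * Q b ∈ wp F
    · exact hw ((AddSubgroup.add_mem_cancel_left _ hp).1 (hiff.2 hp))
    · exact hp (hiff.1 ((AddSubgroup.add_mem_iff_of_index_two wp_index).2 (iff_of_false hp hw)))
  · intro hw
    -- a transvection carries one form to the other
    obtain ⟨c, hc⟩ : ∃ c : F, c * c * Q a + c = 1 := by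
      rcases eq_or_ne (Q a) 0 with h0 | h0
      · exact ⟨1, by rw [h0, mul_zero, zero_add]⟩
      · obtain ⟨s, hs⟩ := mem_wp.1 hw
        refine ⟨s / Q a, ?_⟩
        field_simp
        linear_combination hs
    let t : V →ₗ[F] V :=
      { toFun := fun v => v + (c * Cfsg.sympForm d F a v) • a
        map_add' := fun u v => by
          simp only [← sympBilin_apply, map_add]
          module
        map_smul' := fun r v => by
          simp only [← sympBilin_apply, map_smul, RingHom.id_apply, smul_eq_mul]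
          module }
    have htt : ∀ v, t (t v) = v := fun v => by
      show v + (c * Cfsg.sympForm d F a v) • a + (c * Cfsg.sympForm d F a (v + (c * Cfsg.sympForm d F a v) • a)) • a = v
      simp only [← sympBilin_apply, map_add, map_smul]
      simp only [sympBilin_apply, form_self, smul_zero, add_zero]
      rw [add_assoc, ← add_smul, CharTwo.add_self_eq_zero, zero_smul, add_zero]
    refine (sgn_equiv (LinearEquiv.ofLinear t t (LinearMap.ext htt) (LinearMap.ext htt)) fun v => ?_).symm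
    show Q (v + (c * Cfsg.sympForm d F a v) • a) = shift Q a v
    rw [CfsgLib.Geometry.map_add', QuadraticMap.map_smul, polar_smul_right, hQ, shift_apply, form_symm v a]
    simp only [smul_eq_mul]
    linear_combination Cfsg.sympForm d F a v * Cfsg.sympForm d F a v * hc

/-! ### Conjugacy into the orthogonal group -/

theorem sp_apply {g : GL (Fin d ⊕ Fin d) F} (hg : g ∈ Cfsg.spGL d F) (u v : V) :
    Cfsg.sympForm d F ((g : Mat) *ᵥ u) ((g : Mat) *ᵥ v) = Cfsg.sympForm d F u v := hg u v

theorem iso_of_sim (hd : 0 < d) (hQ : Pol Q) {y : GL (Fin d ⊕ Fin d) F} (hy : y ∈ Cfsg.spGL d F)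
    (hs : y ∈ Cfsg.Geo.quadSimilarityGroup ⇑Q) (v : V) : Q ((y : Mat) *ᵥ v) = Q v := by
  obtain ⟨c, hc⟩ := hs
  let a : V := Pi.single (Sum.inl ⟨0, hd⟩) 1
  obtain ⟨b, hb⟩ : ∃ b, Cfsg.sympForm d F a b ≠ 0 := by
    by_contra h0
    push Not at h0
    have h := congrFun (eq_zero_of_form (u := a) h0) (Sum.inl ⟨0, hd⟩)
    simp [a] at h
  have h := sp_apply hy a b
  rw [← hQ, ← hQ, polar, polar, ← Matrix.mulVec_add, hc, hc, hc] at h
  rw [← hQ, polar] at hb
  have hc1 : (c : F) = 1 := mul_right_cancel₀ hb (by linear_combination h)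
  rw [hc, hc1, one_mul]

theorem gl_inv_apply (g : GL (Fin d ⊕ Fin d) F) (v : V) : (g : Mat) *ᵥ (((g⁻¹ : GL _ F) : Mat) *ᵥ v) = v := by
  rw [Matrix.mulVec_mulVec, Units.mul_inv, Matrix.one_mulVec]

theorem gl_apply_inv (g : GL (Fin d ⊕ Fin d) F) (v : V) : ((g⁻¹ : GL _ F) : Mat) *ᵥ ((g : Mat) *ᵥ v) = v := by
  rw [Matrix.mulVec_mulVec, Units.inv_mul, Matrix.one_mulVec]

/-- The form carried by `g`. -/
def carry (Q : QuadraticForm F V) (g : GL (Fin d ⊕ Fin d) F) : QuadraticForm F V :=
  Q.comp (Matrix.toLin' ((g⁻¹ : GL _ F) : Mat))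

theorem carry_apply (g : GL (Fin d ⊕ Fin d) F) (v : V) : carry Q g v = Q (((g⁻¹ : GL _ F) : Mat) *ᵥ v) := rfl

theorem carry_pol (hQ : Pol Q) {g : GL (Fin d ⊕ Fin d) F} (hg : g ∈ Cfsg.spGL d F) : Pol (carry Q g) := fun u v => by
  rw [polar, carry_apply, carry_apply, carry_apply, Matrix.mulVec_add, ← polar, hQ, sp_apply (inv_mem hg)]

theorem carry_sgn (g : GL (Fin d ⊕ Fin d) F) : sgn (carry Q g) ⊤ = sgn Q ⊤ := by
  refine sgn_equiv (LinearEquiv.ofLinear (Matrix.toLin' (g : Mat)) (Matrix.toLin' ((g⁻¹ : GL _ F) : Mat))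
    (LinearMap.ext fun v => by simp [gl_inv_apply]) (LinearMap.ext fun v => by simp [gl_apply_inv])) fun v => ?_
  show Q (((g⁻¹ : GL _ F) : Mat) *ᵥ ((g : Mat) *ᵥ v)) = Q v
  rw [gl_apply_inv]

theorem exists_carry (hQ : Pol Q) (hR : Pol R) (hs : sgn R ⊤ = sgn Q ⊤) :
    ∃ g ∈ Cfsg.spGL d F, ∀ v, carry Q g v = R v := by
  obtain ⟨e, he⟩ := exists_isometry (nondeg_of_pol hR) (nondeg_of_pol hQ) finrank_V finrank_V hs
  let g : GL (Fin d ⊕ Fin d) F :=
    { val := LinearMap.toMatrix' (e : V →ₗ[F] V)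
      inv := LinearMap.toMatrix' (e.symm : V →ₗ[F] V)
      val_inv := by rw [← LinearMap.toMatrix'_comp, LinearEquiv.comp_coe, e.symm_trans_self]; simp
      inv_val := by rw [← LinearMap.toMatrix'_comp, LinearEquiv.comp_coe, e.self_trans_symm]; simp }
  have hge : ∀ v, (g : Mat) *ᵥ v = e v := fun v => LinearMap.toMatrix'_mulVec _ v
  have hg : g ∈ Cfsg.spGL d F := fun u v => by
    show Cfsg.sympForm d F ((g : Mat) *ᵥ u) ((g : Mat) *ᵥ v) = _
    rw [hge, hge, ← hQ, polar, ← map_add e, he, he, he, ← polar, hR]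
  refine ⟨g⁻¹, inv_mem hg, fun v => ?_⟩
  rw [carry_apply, inv_inv, hge, he]

theorem conj_iff (hd : 0 < d) (hQ : Pol Q) {x : GL (Fin d ⊕ Fin d) F} (hx : x ∈ Cfsg.spGL d F) :
    (∃ g ∈ Cfsg.spGL d F, g⁻¹ * x * g ∈ Cfsg.Geo.quadSimilarityGroup ⇑Q) ↔
      ∃ R : QuadraticForm F V, Pol R ∧ sgn R ⊤ = sgn Q ⊤ ∧ ∀ v, R ((x : Mat) *ᵥ v) = R v := by
  constructor
  · rintro ⟨g, hg, hs⟩
    refine ⟨carry Q g, carry_pol hQ hg, carry_sgn g, fun v => ?_⟩
    have h := iso_of_sim hd hQ (mul_mem (mul_mem (inv_mem hg) hx) hg) hs (((g⁻¹ : GL _ F) : Mat) *ᵥ v)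
    simp only [Units.val_mul, ← Matrix.mulVec_mulVec, gl_inv_apply] at h
    rw [carry_apply, carry_apply, h]
  · rintro ⟨R, hR, hs, hinv⟩
    obtain ⟨g, hg, hgR⟩ := exists_carry hQ hR hs
    refine ⟨g, hg, 1, fun v => ?_⟩
    rw [Units.val_one, one_mul, Units.val_mul, Units.val_mul, ← Matrix.mulVec_mulVec, ← Matrix.mulVec_mulVec,
      ← carry_apply (Q := Q) g ((x : Mat) *ᵥ _), hgR, hinv, ← hgR, carry_apply, gl_apply_inv]

/-! ### The index -/

theorem two_mul_index (hd : 0 < d) (hQ : Pol Q) :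
    (2 * (Cfsg.Geo.quadSimilarityGroup ⇑Q).relIndex (Cfsg.spGL d F) : ℤ) =
      (Fintype.card F : ℤ) ^ d * ((Fintype.card F : ℤ) ^ d + sgn Q ⊤) := by
  classical
  have hex : ∀ g : Cfsg.spGL d F, ∃ a : {a : V // Q a ∈ wp F}, ∀ v, carry Q (g : GL _ F) v = shift Q a.1 v := fun g => by
    obtain ⟨a, ha⟩ := exists_shift hQ (carry_pol hQ g.2)
    refine ⟨⟨a, (sgn_shift hQ a).1 ?_⟩, ha⟩
    rw [← carry_sgn (Q := Q) (g : GL _ F), show shift Q a = carry Q (g : GL _ F) from QuadraticMap.ext fun v => (ha v).symm]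
  choose ψ hψ using hex
  have hrel : ∀ g h : Cfsg.spGL d F,
      ψ g = ψ h ↔ (g⁻¹ * h : Cfsg.spGL d F) ∈ (Cfsg.Geo.quadSimilarityGroup ⇑Q).subgroupOf (Cfsg.spGL d F) := by
    intro g h
    rw [Subgroup.mem_subgroupOf]
    constructor
    · intro he
      refine ⟨1, fun v => ?_⟩
      have h1 := hψ g (((h : GL (Fin d ⊕ Fin d) F) : Mat) *ᵥ v)
      rw [he, ← hψ h, carry_apply, carry_apply, gl_apply_inv] at h1
      rw [Units.val_one, one_mul, Subgroup.coe_mul, InvMemClass.coe_inv, Units.val_mul, ← Matrix.mulVec_mulVec]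
      exact h1
    · intro hs
      refine Subtype.ext (shift_inj (Q := Q) fun v => ?_)
      rw [← hψ, ← hψ, carry_apply, carry_apply]
      have h1 := iso_of_sim hd hQ (g⁻¹ * h : Cfsg.spGL d F).2 hs ((((h : GL (Fin d ⊕ Fin d) F)⁻¹ : GL (Fin d ⊕ Fin d) F) : Mat) *ᵥ v)
      rw [Subgroup.coe_mul, InvMemClass.coe_inv, Units.val_mul, ← Matrix.mulVec_mulVec, gl_inv_apply] at h1
      exact h1
  have hcard : (Cfsg.Geo.quadSimilarityGroup ⇑Q).relIndex (Cfsg.spGL d F) = Nat.card {a : V // Q a ∈ wp F} := by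
    refine Nat.card_congr (Equiv.ofBijective (Quotient.lift ψ fun g h hgh => (hrel g h).2 (QuotientGroup.leftRel_apply.1 hgh))
      ⟨?_, ?_⟩)
    · rintro ⟨g⟩ ⟨h⟩ he
      exact Quotient.sound (QuotientGroup.leftRel_apply.2 ((hrel g h).1 he))
    · intro a
      obtain ⟨g, hg, hgR⟩ := exists_carry hQ (shift_pol hQ a.1) ((sgn_shift hQ a.1).2 a.2)
      refine ⟨Quotient.mk _ ⟨g, hg⟩, Subtype.ext (shift_inj (Q := Q) fun v => ?_)⟩
      show shift Q (ψ ⟨g, hg⟩).1 v = shift Q a.1 v
      rw [← hψ, hgR]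
  have hfib : Nat.card {a : V // Q a ∈ wp F} = ∑ c : wp F, fib Q ⊤ (c : F) := by
    rw [show ∑ c : wp F, fib Q ⊤ (c : F) = Nat.card (Σ c : wp F, {v : (⊤ : Submodule F V) // Q (v : V) = c}) from
      Nat.card_sigma.symm]
    refine Nat.card_congr ⟨fun a => ⟨⟨Q a.1, a.2⟩, ⟨⟨a.1, Submodule.mem_top⟩, rfl⟩⟩,
      fun s => ⟨(s.2.1 : V), by rw [s.2.2]; exact s.1.2⟩, fun a => rfl, ?_⟩
    rintro ⟨⟨c, hc⟩, ⟨v, hv⟩, h⟩
    change Q v = c at h
    subst h
    rfl
  have hE := hasExcess ⊤ d (top_nondeg hQ) (by rw [finrank_top, finrank_V])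
  have hcT : (Nat.card (⊤ : Submodule F V) : ℤ) = (Fintype.card F : ℤ) ^ (2 * d) := by
    rw [natCard_submodule, finrank_top, finrank_V]; norm_cast
  have hW := two_card_wp (F := F)
  rw [Nat.card_eq_fintype_card, Nat.card_eq_fintype_card] at hW
  have hsum : ∑ c : wp F, delta (c : F) = (Fintype.card F : ℤ) - Fintype.card (wp F) := by
    have : ∀ c : wp F, delta (c : F) = (if c = 0 then (Fintype.card F : ℤ) else 0) - 1 := fun c => by
      simp only [delta, ← Subtype.ext_iff (a2 := (0 : wp F)), ZeroMemClass.coe_zero]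
      split_ifs with h1 h2 h2 <;> simp_all
    rw [Finset.sum_congr rfl fun c _ => this c, Finset.sum_sub_distrib, Finset.sum_ite_eq']
    simp
  rw [hcard, hfib]
  push_cast
  refine mul_left_cancel₀ (show (Fintype.card F : ℤ) ≠ 0 by exact_mod_cast Fintype.card_ne_zero) ?_
  have key : (Fintype.card F : ℤ) * ∑ c : wp F, (fib Q ⊤ (c : F) : ℤ) =
      Fintype.card (wp F) * (Fintype.card F : ℤ) ^ (2 * d) +
        sgn Q ⊤ * (Fintype.card F : ℤ) ^ d * ((Fintype.card F : ℤ) - Fintype.card (wp F)) := by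
    rw [Finset.mul_sum, Finset.sum_congr rfl fun (c : wp F) _ => hE (c : F), Finset.sum_add_distrib, ← Finset.mul_sum, hsum,
      hcT, Finset.sum_const, Finset.card_univ, nsmul_eq_mul]
  have hW' : 2 * (Fintype.card (wp F) : ℤ) = Fintype.card F := by exact_mod_cast hW
  linear_combination 2 * key + ((Fintype.card F : ℤ) ^ (2 * d) - sgn Q ⊤ * (Fintype.card F : ℤ) ^ d) * hW'

end CfsgLib.PrimeOrderSp.QuadStab
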