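import Cfsg.Agent.Lib.PrimeOrderSp.QuadStab
import Cfsg.Agent.Lib.PrimeOrderSp.Model
import Cfsg.Agent.Lib.OrthPrime.Model

/-!
Which elements of prime order of `Sp_{2d}(q)`, `q` even, lie in a given orthogonal group up to conjugation.
-/

set_option autoImplicit false
set_option linter.unusedSectionVars false

namespace CfsgLib.PrimeOrderSp.QuadStab

open QuadraticMap CfsgLib.Geometry CfsgLib.OrthPrime
open scoped Matrix MatrixGroups

universe u

variable {F : Type u} [Field F] [Fintype F] [DecidableEq F] [CharP F 2] {d : ℕ}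

local notation "V" => (Fin d ⊕ Fin d → F)
local notation "Mat" => Matrix (Fin d ⊕ Fin d) (Fin d ⊕ Fin d) F

variable {Q : QuadraticForm F (Fin d ⊕ Fin d → F)}

/-! ### Involutions -/

/-- An involution preserves a form of the given type, unless the space is of minus type with `d` even. -/
theorem exists_invariant (hQ : Pol Q) {x : GL (Fin d ⊕ Fin d) F} (hx : x ∈ Cfsg.spGL d F) (hxx : x * x = 1)
    (hT : sgn Q ⊤ = 1 ∨ Odd d) :
    ∃ R : QuadraticForm F V, Pol R ∧ sgn R ⊤ = sgn Q ⊤ ∧ ∀ v, R ((x : Mat) *ᵥ v) = R v := by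
  set f := Matrix.toLin' (x : Mat) with hf
  have hfa : ∀ v, f v = (x : Mat) *ᵥ v := fun v => rfl
  have hff : ∀ v, f (f v) = v := fun v => by
    rw [hfa, hfa, Matrix.mulVec_mulVec, ← Units.val_mul, hxx, Units.val_one, Matrix.one_mulVec]
  have hiso : ∀ u v, Cfsg.sympForm d F (f u) (f v) = Cfsg.sympForm d F u v := fun u v => sp_apply hx u v
  have hadj : ∀ u v, Cfsg.sympForm d F u (f v) = Cfsg.sympForm d F (f u) v := fun u v => by
    conv_lhs => rw [← hiso, hff]
  have hsub : ∀ u w v, Cfsg.sympForm d F (u - w) v = Cfsg.sympForm d F u v - Cfsg.sympForm d F w v := fun u w v => by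
    rw [← sympBilin_apply, map_sub, LinearMap.sub_apply, sympBilin_apply, sympBilin_apply]
  set K := LinearMap.ker (f - 1) with hK
  set Rg := LinearMap.range (f - 1) with hRg
  have memK : ∀ {v}, v ∈ K ↔ f v = v := fun {v} => by
    rw [hK, LinearMap.mem_ker, LinearMap.sub_apply, Module.End.one_apply, sub_eq_zero]
  have hRK : Rg ≤ K := by
    rintro _ ⟨v, rfl⟩
    rw [memK, LinearMap.sub_apply, Module.End.one_apply, map_sub, hff]
    rw [← neg_sub, ← neg_one_smul F, CharTwo.neg_eq, one_smul]
  have hrn : Module.finrank F Rg + Module.finrank F K = 2 * d := by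
    rw [hRg, hK, LinearMap.finrank_range_add_finrank_ker, finrank_V]
  have hperp : Rg = polarPerp Q K := by
    refine Submodule.eq_of_le_of_finrank_le ?_ ?_
    · rintro _ ⟨v, rfl⟩
      refine mem_polarPerp.2 fun k hk => ?_
      rw [hQ, LinearMap.sub_apply, Module.End.one_apply, ← sympBilin_apply, map_sub, sympBilin_apply, sympBilin_apply,
        hadj, memK.1 hk, sub_self]
    · have := finrank_polarPerp (nondeg_of_pol hQ) K
      rw [finrank_V] at this
      omega
  have hxi : x⁻¹ = x := inv_eq_of_mul_eq_one_right hxx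
  obtain ⟨c, hc⟩ := exists_shift hQ (carry_pol hQ hx)
  have hcv : ∀ v, Q (f v) = Q v + Cfsg.sympForm d F c v * Cfsg.sympForm d F c v := fun v => by
    rw [← shift_apply, ← hc, carry_apply, hxi, hfa]
  obtain ⟨b, hb⟩ : c ∈ Rg := by
    rw [hperp]
    refine mem_polarPerp.2 fun k hk => ?_
    have h := hcv k
    rw [memK.1 hk] at h
    rw [hQ, form_symm]
    exact mul_self_eq_zero.1 (add_left_cancel (a := Q k) (by rw [add_zero]; exact h.symm))
  rw [LinearMap.sub_apply, Module.End.one_apply] at hb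
  set R₀ := shift Q b with hR₀
  have hP₀ : Pol R₀ := shift_pol hQ b
  have hI₀ : ∀ v, R₀ (f v) = R₀ v := fun v => by
    rw [hR₀, shift_apply, shift_apply, hcv, ← hb, hsub, hadj]
    linear_combination (Cfsg.sympForm d F (f b) v * Cfsg.sympForm d F (f b) v -
      Cfsg.sympForm d F (f b) v * Cfsg.sympForm d F b v) * (CharTwo.two_eq_zero : (2 : F) = 0)
  by_cases hs : sgn R₀ ⊤ = sgn Q ⊤
  · exact ⟨R₀, hP₀, hs, fun v => hI₀ v⟩
  by_cases hz : ∃ w ∈ K, R₀ w ≠ 0
  · obtain ⟨w, hw, hw0⟩ := hz
    obtain ⟨u, hu⟩ := exists_not_wp (F := F)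
    obtain ⟨t, ht⟩ := exists_sqrt (u / R₀ w)
    refine ⟨shift R₀ (t • w), shift_pol hP₀ _, ?_, fun v => ?_⟩
    · have hne : sgn (shift R₀ (t • w)) ⊤ ≠ sgn R₀ ⊤ := fun h => hu (by
        have := (sgn_shift hP₀ _).1 h
        rwa [QuadraticMap.map_smul, ht, smul_eq_mul, div_mul_cancel₀ _ hw0] at this)
      rcases sgn_cases (Q := R₀) ⊤ with h1 | h1 <;> rcases sgn_cases (Q := Q) ⊤ with h2 | h2 <;>
        rcases sgn_cases (Q := shift R₀ (t • w)) ⊤ with h3 | h3 <;> omega
    · have e := shift_apply R₀ (t • w)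
      rw [← hfa, e, e, hI₀, hadj, map_smul, memK.1 hw]
  -- the fixed space is totally singular
  push Not at hz
  exfalso
  have h2K : 2 * Module.finrank F K ≤ 2 * d := by
    have := two_mul_singular_le (top_nondeg hP₀) (U := K) le_top hz
    rwa [finrank_top, finrank_V] at this
  have hKd : Module.finrank F K = d := by
    have := Submodule.finrank_mono hRK
    omega
  have hplus : sgn R₀ ⊤ = 1 := sgn_plus ⟨K, le_top, hz, by rw [finrank_top, finrank_V, hKd]⟩
  rcases hT with h1 | hodd
  · exact hs (hplus.trans h1.symm)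
  let β : LinearMap.BilinForm F V := (sympBilin d F).compl₂ (f - 1)
  have hβ : ∀ u v, β u v = Cfsg.sympForm d F u ((f - 1) v) := fun u v => rfl
  have hA : β.IsAlt := fun v => by
    rw [hβ]
    have h1 : R₀ ((f - 1) v) = 0 := hz _ (hRK ⟨v, rfl⟩)
    have h2 : f v = v + (f - 1) v := by rw [LinearMap.sub_apply, Module.End.one_apply, add_sub_cancel]
    have h3 := hI₀ v
    rw [h2, CfsgLib.Geometry.map_add', h1, add_zero, hP₀, add_eq_left] at h3
    exact h3
  obtain ⟨C, hC⟩ := Submodule.exists_isCompl K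
  have hdimC : Module.finrank F C = d := by
    have := Submodule.finrank_add_eq_of_isCompl hC
    rw [finrank_V] at this
    omega
  have hnd : Nondeg (σ := RingHom.id F) β C := fun u hu h => by
    have hall : ∀ v, Cfsg.sympForm d F u ((f - 1) v) = 0 := fun v => by
      obtain ⟨k, hk, z, hz', rfl⟩ := Submodule.mem_sup.1 (hC.sup_eq_top ▸ Submodule.mem_top (x := v))
      rw [map_add, show (f - 1) k = 0 from hk, zero_add]
      exact h z hz'
    have hfu : f u = u := sub_eq_zero.1 (eq_zero_of_form fun v => by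
      have := hall v
      rw [LinearMap.sub_apply, Module.End.one_apply, ← sympBilin_apply, map_sub, sympBilin_apply, sympBilin_apply,
        hadj] at this
      rw [hsub]; exact this)
    exact Submodule.disjoint_def.1 hC.disjoint u (memK.2 hfu) hu
  have := even_finrank hA hnd
  rw [hdimC] at this
  exact (Nat.not_even_iff_odd.2 hodd) this

/-- For `d` even, an involution all of whose invariant forms are of plus type. -/
theorem exists_bad_involution {k : ℕ} (hk : 0 < k) (hd : d = k + k) :
    ∃ x ∈ Cfsg.spGL d F, x * x = 1 ∧ (∀ z : F, (x : Mat) ≠ z • 1) ∧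
      ∀ R : QuadraticForm F V, Pol R → (∀ v, R ((x : Mat) *ᵥ v) = R v) → sgn R ⊤ = 1 := by
  let e : Fin d ≃ Fin k ⊕ Fin k := (finCongr hd).trans finSumFinEquiv.symm
  let s : Fin d → Fin d := fun i => e.symm (e i).swap
  have hss : ∀ i, s (s i) = i := fun i => by simp [s]
  have hne : ∀ i, s i ≠ i := fun i h => by
    have h1 := congrArg e h
    simp only [s, Equiv.apply_symm_apply] at h1
    rcases he : e i with a | a <;> simp [he] at h1
  let N : V →ₗ[F] V :=
    { toFun := fun v => Sum.elim (fun i => v (Sum.inr (s i))) 0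
      map_add' := fun u v => by funext i; rcases i with i | i <;> simp
      map_smul' := fun c v => by funext i; rcases i with i | i <;> simp }
  have hNN : ∀ v, N (N v) = 0 := fun v => by funext i; rcases i with i | i <;> simp [N]
  let T : V →ₗ[F] V := LinearMap.id + N
  have hTT : ∀ v, T (T v) = v := fun v => by
    show v + N v + N (v + N v) = v
    rw [map_add, hNN, add_zero, add_assoc, show N v + N v = 0 by rw [← two_smul F, CharTwo.two_eq_zero, zero_smul],
      add_zero]
  have hTc : T.comp T = LinearMap.id := LinearMap.ext hTT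
  let x : GL (Fin d ⊕ Fin d) F :=
    { val := LinearMap.toMatrix' T
      inv := LinearMap.toMatrix' T
      val_inv := by rw [← LinearMap.toMatrix'_comp, hTc, LinearMap.toMatrix'_id]
      inv_val := by rw [← LinearMap.toMatrix'_comp, hTc, LinearMap.toMatrix'_id] }
  have hxv : ∀ v, (x : Mat) *ᵥ v = v + N v := fun v => LinearMap.toMatrix'_mulVec T v
  have fN : ∀ u v, Cfsg.sympForm d F u (N v) = ∑ i, u (Sum.inr i) * v (Sum.inr (s i)) := fun u v => by
    simp [sympForm_eq, N]
  have hsym : ∀ u v, Cfsg.sympForm d F u (N v) = Cfsg.sympForm d F v (N u) := fun u v => by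
    rw [fN, fN]
    refine Fintype.sum_equiv ⟨s, s, hss, hss⟩ _ _ fun i => ?_
    show _ = v (Sum.inr (s i)) * u (Sum.inr (s (s i)))
    rw [hss, mul_comm]
  have hself : ∀ v, Cfsg.sympForm d F v (N v) = 0 := fun v => by
    rw [fN]
    refine Finset.sum_involution (fun i _ => s i) (fun i _ => ?_) (fun i _ _ => hne i) (fun i _ => Finset.mem_univ _)
      fun i _ => hss i
    rw [hss, mul_comm (v (Sum.inr (s i))), CharTwo.add_self_eq_zero]
  refine ⟨x, fun u v => ?_, Units.ext (by rw [Units.val_mul]; exact x.mul_inv), fun z hz => ?_, fun R hR hinv => ?_⟩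
  · show Cfsg.sympForm d F ((x : Mat) *ᵥ u) ((x : Mat) *ᵥ v) = _
    have h0 : Cfsg.sympForm d F (N u) (N v) = 0 := by rw [fN]; simp [N]
    rw [hxv, hxv, ← sympBilin_apply]
    simp only [map_add, LinearMap.add_apply, sympBilin_apply]
    rw [h0, form_symm (N u) v, hsym v u, add_zero, add_assoc, CharTwo.add_self_eq_zero, add_zero]
  · let i₀ : Fin d := ⟨0, by omega⟩
    have h := congrFun (hxv (Pi.single (Sum.inr (s i₀)) 1)) (Sum.inl i₀)
    rw [hz, Matrix.smul_mulVec, Matrix.one_mulVec] at h
    simp [N] at h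
  · let J : (Fin d → F) →ₗ[F] V :=
      { toFun := fun w => Sum.elim w 0
        map_add' := fun u v => by funext i; rcases i with i | i <;> simp
        map_smul' := fun c v => by funext i; rcases i with i | i <;> simp }
    have hJ : Function.Injective J := fun u v h => funext fun i => congrFun h (Sum.inl i)
    refine sgn_plus ⟨LinearMap.range J, le_top, ?_, by
      rw [LinearMap.finrank_range_of_inj hJ, finrank_top, finrank_V, Module.finrank_fin_fun]⟩
    rintro _ ⟨w, rfl⟩
    have hw : J w = N (Sum.elim 0 (fun i => w (s i))) := by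
      funext i; rcases i with i | i <;> simp [J, N, hss]
    rw [hw]
    have h := hinv (Sum.elim 0 (fun i => w (s i)))
    rw [hxv, CfsgLib.Geometry.map_add', hR, hself, add_zero, add_eq_left] at h
    exact h

/-! ### Odd primes -/

theorem exists_bad_odd (hQ : Pol Q) (hd : 0 < d) {r : ℕ} [Fact r.Prime] (hr2 : r ≠ 2)
    (hΩ : r ∣ (Cfsg.Geo.quadSimilarityGroup ⇑Q).relIndex (Cfsg.spGL d F)) :
    ∃ x ∈ Cfsg.spGL d F, x ^ r = 1 ∧ (∀ z : F, (x : Mat) ≠ z • 1) ∧
      ¬ ∃ R : QuadraticForm F V, Pol R ∧ sgn R ⊤ = sgn Q ⊤ ∧ ∀ v, R ((x : Mat) *ᵥ v) = R v := by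
  classical
  have hrp : r.Prime := Fact.out
  have hr : (r : F) ≠ 0 := by
    rw [Ne, CharP.cast_eq_zero_iff F 2]
    exact fun h => hr2 ((Nat.prime_dvd_prime_iff_eq Nat.prime_two hrp).1 h).symm
  set q : ZMod r := ((Fintype.card F : ℕ) : ZMod r) with hq
  have hq0 : q ≠ 0 := by
    obtain ⟨n, -, hn⟩ := FiniteField.card F 2
    rw [hq, hn, Nat.cast_pow]
    exact pow_ne_zero _ (by exact_mod_cast two_ne (r := r) hr2)
  have hqd : q ^ d = -(sgn Q ⊤ : ZMod r) := by
    have h := congrArg (fun z : ℤ => (z : ZMod r)) (two_mul_index hd hQ)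
    simp only [Int.cast_mul, Int.cast_add, Int.cast_natCast, Int.cast_pow, Int.cast_ofNat,
      (ZMod.natCast_eq_zero_iff _ r).2 hΩ, mul_zero] at h
    have h' : q ^ d * (q ^ d + (sgn Q ⊤ : ZMod r)) = 0 := h.symm
    exact eq_neg_of_add_eq_zero_left ((mul_eq_zero.1 h').resolve_left (pow_ne_zero _ hq0))
  set i := orderOf q with hi
  have hfpf : ∀ (y : Matrix.symplecticGroup (Fin d) F), i ≠ 1 →
      ((y ^ r : Matrix.symplecticGroup (Fin d) F) : Mat) = (1 : F) • (1 : Mat) →
      Module.finrank F (fixSp (Matrix.toLin' (y : Mat))) = 0 →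
      ∃ x ∈ Cfsg.spGL d F, x ^ r = 1 ∧ (∀ z : F, (x : Mat) ≠ z • 1) ∧
        ¬ ∃ R : QuadraticForm F V, Pol R ∧ sgn R ⊤ = sgn Q ⊤ ∧ ∀ v, R ((x : Mat) *ᵥ v) = R v := by
    intro y hi1 hyr hfix
    rw [one_smul] at hyr
    have hfr : Matrix.toLin' (y : Mat) ^ r = 1 := by
      rw [← Matrix.toLin'_pow, ← SubmonoidClass.coe_pow, hyr, Matrix.toLin'_one]; rfl
    refine ⟨spToGL F d y, spToGL_mem y, ?_, fun z hz => ?_, ?_⟩
    · rw [← map_pow]
      exact Units.ext (by rw [spToGL_val, hyr]; rfl)
    · have hz1 : z = 1 := by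
        have h1 : (y : Mat) = z • (1 : Mat) := hz
        have hzz : z * z = 1 := by
          obtain ⟨a, b, hab⟩ : ∃ a b : V, Cfsg.sympForm d F a b ≠ 0 := by
            by_contra h
            push Not at h
            have := congrFun (eq_zero_of_form (h (Pi.single (Sum.inl ⟨0, hd⟩) 1))) (Sum.inl ⟨0, hd⟩)
            simp at this
          have h2 := spGL_iso (spToGL_mem y) a b
          rw [spToGL_val, h1] at h2
          simp only [Matrix.toLin'_apply, Matrix.smul_mulVec, Matrix.one_mulVec, map_smul, LinearMap.smul_apply,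
            sympBilin_apply, smul_eq_mul, ← mul_assoc] at h2
          exact mul_right_cancel₀ hab (h2.trans (one_mul _).symm)
        exact sq_inj (hzz.trans (one_mul _).symm)
      have htop : fixSp (Matrix.toLin' (y : Mat)) = ⊤ := by
        refine eq_top_iff.2 fun v _ => mem_fixSp.2 ?_
        rw [show (y : Mat) = z • (1 : Mat) from hz, hz1, one_smul, Matrix.toLin'_one, LinearMap.id_apply]
      rw [htop, finrank_top, finrank_V] at hfix
      omega
    · rintro ⟨R, hR, hs, hinv⟩
      have hle : (⊤ : Submodule F V) ≤ movSp (Matrix.toLin' (y : Mat)) := by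
        have h := Submodule.finrank_add_eq_of_isCompl (isCompl_fix_mov (f := Matrix.toLin' (y : Mat)) hr hfr)
        rw [hfix, zero_add] at h
        exact (Submodule.eq_top_of_finrank_eq h).ge
      have h := sgn_mul_pow (Q := R) (f := Matrix.toLin' (y : Mat)) (fun v => hinv v) hr hfr hi1 hle
        (fun v _ => Submodule.mem_top) (top_nondeg hR) (k := d) (by rw [finrank_top, finrank_V])
      rw [hs, ← hq, hqd] at h
      refine two_ne (r := r) hr2 ?_
      rcases sgn_cases (Q := Q) ⊤ with h1 | h1 <;> rw [h1] at h <;> push_cast at h <;> linear_combination -h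
  rcases sgn_cases (Q := Q) ⊤ with hε | hε
  · -- plus type
    rw [hε, Int.cast_one] at hqd
    have h2d : i ∣ 2 * d := orderOf_dvd_of_pow_eq_one (by rw [mul_comm, pow_mul, hqd, neg_one_sq])
    have hnd : ¬ i ∣ d := fun h => by
      have h1 := orderOf_dvd_iff_pow_eq_one.1 h
      rw [hqd] at h1
      exact two_ne (r := r) hr2 (by linear_combination -h1)
    obtain ⟨j, hj⟩ : Even i := by
      rw [← Nat.not_odd_iff_even]
      exact fun ho => hnd ((Nat.Coprime.dvd_mul_left (Nat.coprime_two_right.2 ho)).1 h2d)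
    rw [← two_mul] at hj
    obtain ⟨N, hN⟩ : j ∣ d := by rw [hj] at h2d; exact Nat.dvd_of_mul_dvd_mul_left two_pos h2d
    have hipos : 0 < i := CfsgLib.OrthPrime.orderOf_card_pos hr
    obtain ⟨P, hP⟩ : (CfsgLib.KnownB.PrimeOrder.factors F r).Nonempty :=
      Finset.card_pos.1 (CfsgLib.OrthPrime.card_factors_pos hr)
    obtain ⟨y, hyr, hfix, -⟩ := exists_sp_selfDual (d := d) (e := 0) hr hr2 (j := j) (by omega) hj (ι := Fin N)
      (fun _ => P) (fun _ => hP) (by rw [Fintype.card_fin, hN]; ring)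
    exact hfpf y (by omega) hyr (by simpa using hfix)
  · rw [hε] at hqd
    push_cast at hqd
    rw [neg_neg] at hqd
    obtain ⟨N, hN⟩ : i ∣ d := orderOf_dvd_of_pow_eq_one hqd
    by_cases hi1 : i = 1
    · -- the multiplicative group has an element of order `r`
      have hdvd : r ∣ Nat.card Fˣ := by
        rw [Nat.card_units, Nat.card_eq_fintype_card, ← ZMod.natCast_eq_zero_iff,
          Nat.cast_sub Fintype.card_pos, Nat.cast_one, ← hq, orderOf_eq_one_iff.1 hi1, sub_self]
      obtain ⟨l, hl⟩ := exists_prime_orderOf_dvd_card' r hdvd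
      have hl1 : (l : F) * (l : F) ≠ 1 := fun h => by
        have h' : l ^ 2 = 1 := Units.ext (by rw [pow_two, Units.val_mul, h, Units.val_one])
        have := Nat.le_of_dvd two_pos (orderOf_dvd_of_pow_eq_one h')
        have := hrp.two_le
        omega
      let D : Fˣ → Fin d ⊕ Fin d → F := fun u => Sum.elim (fun _ => (u : F)) fun _ => ((u⁻¹ : Fˣ) : F)
      let x : GL (Fin d ⊕ Fin d) F :=
        { val := Matrix.diagonal (D l)
          inv := Matrix.diagonal (D l⁻¹)
          val_inv := by
            rw [Matrix.diagonal_mul_diagonal, ← Matrix.diagonal_one]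
            congr 1; funext a; rcases a with a | a <;> simp [D]
          inv_val := by
            rw [Matrix.diagonal_mul_diagonal, ← Matrix.diagonal_one]
            congr 1; funext a; rcases a with a | a <;> simp [D] }
      refine ⟨x, fun u v => ?_, Units.ext ?_, fun z hz => hl1 ?_, ?_⟩
      · show Cfsg.sympForm d F (Matrix.diagonal (D l) *ᵥ u) (Matrix.diagonal (D l) *ᵥ v) = _
        simp only [sympForm_eq, Matrix.mulVec_diagonal, D, Sum.elim_inl, Sum.elim_inr]
        refine Finset.sum_congr rfl fun a _ => ?_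
        have h1 : ((l⁻¹ : Fˣ) : F) * (l : F) = 1 := Units.inv_mul l
        linear_combination (u (Sum.inr a) * v (Sum.inl a) - u (Sum.inl a) * v (Sum.inr a)) * h1
      · rw [Units.val_pow_eq_pow_val, Units.val_one, show (x : Mat) = Matrix.diagonal (D l) from rfl,
          Matrix.diagonal_pow, ← Matrix.diagonal_one]
        congr 1
        funext a
        have hlr : (l : F) ^ r = 1 := by rw [← Units.val_pow_eq_pow_val, ← hl, pow_orderOf_eq_one, Units.val_one]
        rcases a with a | a <;> simp [D, hlr]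
      · have h1 := congrFun (congrFun hz (Sum.inl ⟨0, hd⟩)) (Sum.inl ⟨0, hd⟩)
        have h2 := congrFun (congrFun hz (Sum.inr ⟨0, hd⟩)) (Sum.inr ⟨0, hd⟩)
        simp [x, D] at h1 h2
        rw [← h2] at h1
        calc (l : F) * (l : F) = (l : F) * ((l⁻¹ : Fˣ) : F) := by rw [Units.val_inv_eq_inv_val, ← h1]
          _ = 1 := Units.mul_inv l
      · rintro ⟨R, -, hs, hinv⟩
        let J : (Fin d → F) →ₗ[F] V :=
          { toFun := fun w => Sum.elim w 0
            map_add' := fun u v => by funext a; rcases a with a | a <;> simp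
            map_smul' := fun c v => by funext a; rcases a with a | a <;> simp }
        have hJ : Function.Injective J := fun u v h => funext fun a => congrFun h (Sum.inl a)
        have hp : sgn R ⊤ = 1 := by
          refine sgn_plus ⟨LinearMap.range J, le_top, ?_, by
            rw [LinearMap.finrank_range_of_inj hJ, finrank_top, finrank_V, Module.finrank_fin_fun]⟩
          rintro _ ⟨w, rfl⟩
          have h := hinv (J w)
          rw [show (x : Mat) *ᵥ J w = (l : F) • J w from funext fun a => by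
            show (Matrix.diagonal (D l) *ᵥ J w) a = _
            rw [Matrix.mulVec_diagonal]; rcases a with a | a <;> simp [D, J],
            QuadraticMap.map_smul, smul_eq_mul] at h
          by_contra h0
          exact hl1 (mul_right_cancel₀ h0 (h.trans (one_mul _).symm))
        omega
    · have hipos : 0 < i := CfsgLib.OrthPrime.orderOf_card_pos hr
      obtain ⟨y, hyr, hfix⟩ := exists_sp_fixed_dim (d := d) (e := 0) (N := N) hr (by rw [hN, ← hi]; ring)
      exact hfpf y hi1 hyr (by simpa using hfix)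

/-- Elements of prime order `r` all conjugate into the orthogonal group. -/
theorem criterion (hQ : Pol Q) (hd : 2 ≤ d) (r : ℕ) [Fact r.Prime]
    (hΩ : r ∣ (Cfsg.Geo.quadSimilarityGroup ⇑Q).relIndex (Cfsg.spGL d F)) :
    (∀ x ∈ Cfsg.spGL d F, (∃ z : F, ((x ^ r : GL (Fin d ⊕ Fin d) F) : Mat) = z • (1 : Mat)) →
      (∀ z : F, (x : Mat) ≠ z • (1 : Mat)) →
      ∃ g ∈ Cfsg.spGL d F, g⁻¹ * x * g ∈ Cfsg.Geo.quadSimilarityGroup ⇑Q) ↔
    (r = 2 ∧ (sgn Q ⊤ = 1 ∨ Odd d)) := by
  have hd0 : 0 < d := by omega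
  constructor
  · intro hall
    have h2 : r = 2 := by
      by_contra hr2
      obtain ⟨x, hx, hxr, hns, hno⟩ := exists_bad_odd hQ hd0 hr2 hΩ
      exact hno ((conj_iff hd0 hQ hx).1 (hall x hx ⟨1, by rw [hxr, one_smul, Units.val_one]⟩ hns))
    refine ⟨h2, ?_⟩
    by_contra hno
    push Not at hno
    obtain ⟨k, hk⟩ := Nat.not_odd_iff_even.1 hno.2
    obtain ⟨x, hx, hxx, hns, hplus⟩ := exists_bad_involution (F := F) (d := d) (k := k) (by omega) hk
    obtain ⟨R, hR, hs, hinv⟩ := (conj_iff hd0 hQ hx).1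
      (hall x hx ⟨1, by rw [h2, pow_two, hxx, one_smul, Units.val_one]⟩ hns)
    exact hno.1 (hs.symm.trans (hplus R hR hinv))
  · rintro ⟨rfl, hT⟩ x hx ⟨z, hz⟩ -
    refine (conj_iff hd0 hQ hx).2 (exists_invariant hQ hx ?_ hT)
    refine Units.ext ?_
    rw [pow_two] at hz
    obtain ⟨a, b, hab⟩ : ∃ a b : V, Cfsg.sympForm d F a b ≠ 0 := by
      by_contra h
      push Not at h
      have := congrFun (eq_zero_of_form (h (Pi.single (Sum.inl ⟨0, hd0⟩) 1))) (Sum.inl ⟨0, hd0⟩)
      simp at this
    have h2 := sp_apply (mul_mem hx hx) a b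
    rw [hz] at h2
    simp only [Matrix.smul_mulVec, Matrix.one_mulVec, ← sympBilin_apply, map_smul, LinearMap.smul_apply] at h2
    simp only [sympBilin_apply, smul_eq_mul, ← mul_assoc] at h2
    have hzz : z * z = 1 := mul_right_cancel₀ hab (h2.trans (one_mul _).symm)
    rw [hz, sq_inj (hzz.trans (one_mul _).symm), one_smul, Units.val_one]

end CfsgLib.PrimeOrderSp.QuadStab
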