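import Cfsg.Prelude.Def_GeometricClasses
import Cfsg.Agent.Lib.PrimeOrderSp.SpGL
import Cfsg.Agent.Lib.PrimeOrderSp.Order
import Cfsg.Agent.Lib.KnownB.RestrictScalars

/-!
# Self-adjoint fields of symplectic spaces: the subgroups of type `Sp_{2d/k}(q^k)`
-/

set_option autoImplicit false
set_option linter.style.haveILetI false

namespace CfsgLib.PrimeOrderSp.SelfAdj

open Matrix CfsgLib.Geometry CfsgLib.PrimeOrderSp

universe u

variable {F : Type u} [Field F] {d k : ℕ}
variable {K : Subalgebra F (Matrix (Fin d ⊕ Fin d) (Fin d ⊕ Fin d) F)}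

/-- The subspace is stable under the algebra. -/
def KStable (K : Subalgebra F (Matrix (Fin d ⊕ Fin d) (Fin d ⊕ Fin d) F))
    (W : Submodule F (Fin d ⊕ Fin d → F)) : Prop :=
  ∀ a ∈ K, ∀ v ∈ W, a *ᵥ v ∈ W

theorem eq_zero_of_mulVec (hK : Cfsg.Geo.IsFieldSubalgebra k K) {a : Matrix (Fin d ⊕ Fin d) (Fin d ⊕ Fin d) F}
    (ha : a ∈ K) (ha0 : a ≠ 0) {v : Fin d ⊕ Fin d → F} (h : a *ᵥ v = 0) : v = 0 := by
  obtain ⟨y, hy, hay⟩ := hK.inv a ha ha0
  rw [← Matrix.one_mulVec v, ← hay, hK.comm a ha y hy, ← Matrix.mulVec_mulVec, h, Matrix.mulVec_zero]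

theorem isField (hK : Cfsg.Geo.IsFieldSubalgebra k K) (hd : 0 < d) : IsField K :=
  haveI : Nonempty (Fin d ⊕ Fin d) := ⟨Sum.inl ⟨0, hd⟩⟩
  { exists_pair_ne := ⟨1, 0, fun h => one_ne_zero (congrArg Subtype.val h :
      (1 : Matrix (Fin d ⊕ Fin d) (Fin d ⊕ Fin d) F) = 0)⟩
    mul_comm := fun x y => Subtype.ext (hK.comm x x.2 y y.2)
    mul_inv_cancel := fun {a} ha => by
      obtain ⟨y, hy, e⟩ := hK.inv a a.2 (fun e => ha (Subtype.ext e))
      exact ⟨⟨y, hy⟩, Subtype.ext e⟩ }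

theorem dvd_finrank_stable (hK : Cfsg.Geo.IsFieldSubalgebra k K) (hd : 0 < d)
    {W : Submodule F (Fin d ⊕ Fin d → F)} (hW : KStable K W) : k ∣ Module.finrank F W := by
  letI : Field K := (isField hK hd).toField
  letI : Module K W :=
    { smul := fun a v => ⟨(a : Matrix (Fin d ⊕ Fin d) (Fin d ⊕ Fin d) F) *ᵥ v, hW a a.2 v v.2⟩
      one_smul := fun v => Subtype.ext (Matrix.one_mulVec (v : Fin d ⊕ Fin d → F))
      mul_smul := fun a b v => Subtype.ext (Matrix.mulVec_mulVec (v : Fin d ⊕ Fin d → F)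
        (a : Matrix (Fin d ⊕ Fin d) (Fin d ⊕ Fin d) F) (b : Matrix (Fin d ⊕ Fin d) (Fin d ⊕ Fin d) F)).symm
      smul_zero := fun a => Subtype.ext (by exact Matrix.mulVec_zero (a : Matrix (Fin d ⊕ Fin d) (Fin d ⊕ Fin d) F))
      smul_add := fun a v w => Subtype.ext (Matrix.mulVec_add (a : Matrix (Fin d ⊕ Fin d) (Fin d ⊕ Fin d) F)
        (v : Fin d ⊕ Fin d → F) (w : Fin d ⊕ Fin d → F))
      add_smul := fun a b v => Subtype.ext (Matrix.add_mulVec (a : Matrix (Fin d ⊕ Fin d) (Fin d ⊕ Fin d) F)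
        (b : Matrix (Fin d ⊕ Fin d) (Fin d ⊕ Fin d) F) (v : Fin d ⊕ Fin d → F))
      zero_smul := fun v => Subtype.ext (by exact Matrix.zero_mulVec (v : Fin d ⊕ Fin d → F)) }
  haveI : IsScalarTower F K W := ⟨fun c a v => Subtype.ext
    (Matrix.smul_mulVec c (a : Matrix (Fin d ⊕ Fin d) (Fin d ⊕ Fin d) F) (v : Fin d ⊕ Fin d → F))⟩
  have h := Module.finrank_mul_finrank F K W
  rw [hK.finrank_eq] at h
  exact Dvd.intro _ h

/-- The orbit map of a vector. -/
def orbitMap (K : Subalgebra F (Matrix (Fin d ⊕ Fin d) (Fin d ⊕ Fin d) F)) (v : Fin d ⊕ Fin d → F) :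
    K →ₗ[F] (Fin d ⊕ Fin d → F) where
  toFun a := (a : Matrix (Fin d ⊕ Fin d) (Fin d ⊕ Fin d) F) *ᵥ v
  map_add' a b := Matrix.add_mulVec _ _ v
  map_smul' c a := Matrix.smul_mulVec c _ v

theorem orbitMap_apply (v : Fin d ⊕ Fin d → F) (a : K) :
    orbitMap K v a = (a : Matrix (Fin d ⊕ Fin d) (Fin d ⊕ Fin d) F) *ᵥ v := rfl

theorem orbitMap_injective (hK : Cfsg.Geo.IsFieldSubalgebra k K) {v : Fin d ⊕ Fin d → F} (hv : v ≠ 0) :
    Function.Injective (orbitMap K v) :=
  (injective_iff_map_eq_zero _).2 fun a ha => by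
    by_contra h0
    exact hv (eq_zero_of_mulVec hK a.2 (fun e => h0 (Subtype.ext e)) ha)

theorem functional_nondeg (hK : Cfsg.Geo.IsFieldSubalgebra k K) {φ : K →ₗ[F] F} (hφ : φ ≠ 0) {a : K}
    (h : ∀ b : K, φ (b * a) = 0) : a = 0 := by
  by_contra h0
  obtain ⟨y, hy, hay⟩ := hK.inv a a.2 fun e => h0 (Subtype.ext e)
  refine hφ (LinearMap.ext fun c => ?_)
  have hc : c = c * ⟨y, hy⟩ * a := Subtype.ext (by
    show (c : Matrix (Fin d ⊕ Fin d) (Fin d ⊕ Fin d) F) = c * y * a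
    rw [mul_assoc, hK.comm y hy a a.2, hay, mul_one])
  rw [hc, h]
  rfl

section frame

variable (hK : Cfsg.Geo.IsFieldSubalgebra k K)
  (hsa : Cfsg.Geo.IsSelfAdjointFor (Cfsg.sympForm d F) K)
  (halt : ∀ a ∈ K, ∀ v : Fin d ⊕ Fin d → F, Cfsg.sympForm d F (a *ᵥ v) v = 0)

include hK in
theorem exists_partner {W : Submodule F (Fin d ⊕ Fin d → F)} (hW : KStable K W)
    (hnd : ∀ u ∈ W, (∀ v ∈ W, sympBilin d F u v = 0) → u = 0) {v : Fin d ⊕ Fin d → F} (hv : v ∈ W)
    (hv0 : v ≠ 0) (φ : K →ₗ[F] F) : ∃ w ∈ W, ∀ a : K, sympBilin d F (orbitMap K v a) w = φ a := by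
  let T : K →ₗ[F] Module.Dual F W := ((sympBilin d F).compl₂ W.subtype).comp (orbitMap K v)
  have hT : Function.Injective T := (injective_iff_map_eq_zero _).2 fun a ha =>
    (injective_iff_map_eq_zero _).1 (orbitMap_injective hK hv0) a
      (hnd _ (hW a a.2 v hv) fun u hu => LinearMap.congr_fun ha ⟨u, hu⟩)
  obtain ⟨Φ, hΦ⟩ := LinearMap.dualMap_surjective_of_injective hT φ
  refine ⟨((Module.evalEquiv F W).symm Φ : W), SetLike.coe_mem _, fun a => ?_⟩
  rw [← hΦ, LinearMap.dualMap_apply, ← Module.apply_evalEquiv_symm_apply F W (T a) Φ]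
  rfl

include hK hsa halt in
theorem exists_frame {φ : K →ₗ[F] F} (hφ : φ ≠ 0) : ∀ W : Submodule F (Fin d ⊕ Fin d → F), KStable K W →
    (∀ u ∈ W, (∀ v ∈ W, sympBilin d F u v = 0) → u = 0) →
    ∃ (n : ℕ) (v w : Fin n → Fin d ⊕ Fin d → F), Module.finrank F W = 2 * (k * n) ∧
      (∀ i, v i ∈ W ∧ w i ∈ W) ∧
      (∀ (a : K) i j, sympBilin d F (orbitMap K (v i) a) (v j) = 0) ∧
      (∀ (a : K) i j, sympBilin d F (orbitMap K (w i) a) (w j) = 0) ∧
      (∀ (a : K) i j, sympBilin d F (orbitMap K (v i) a) (w j) = if i = j then φ a else 0) := by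
  classical
  suffices H : ∀ N (W : Submodule F (Fin d ⊕ Fin d → F)), Module.finrank F W = N → KStable K W →
      (∀ u ∈ W, (∀ v ∈ W, sympBilin d F u v = 0) → u = 0) →
      ∃ (n : ℕ) (v w : Fin n → Fin d ⊕ Fin d → F), Module.finrank F W = 2 * (k * n) ∧
        (∀ i, v i ∈ W ∧ w i ∈ W) ∧
        (∀ (a : K) i j, sympBilin d F (orbitMap K (v i) a) (v j) = 0) ∧
        (∀ (a : K) i j, sympBilin d F (orbitMap K (w i) a) (w j) = 0) ∧
        (∀ (a : K) i j, sympBilin d F (orbitMap K (v i) a) (w j) = if i = j then φ a else 0) from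
    fun W => H _ W rfl
  intro N
  induction N using Nat.strong_induction_on with
  | _ N ih =>
  intro W hN hW hnd
  by_cases hW0 : W = ⊥
  · subst hW0
    exact ⟨0, Fin.elim0, Fin.elim0, by simp, fun i => i.elim0, fun _ i => i.elim0, fun _ i => i.elim0,
      fun _ i => i.elim0⟩
  obtain ⟨v, hv, hv0⟩ := Submodule.exists_mem_ne_zero_of_ne_bot hW0
  obtain ⟨w, hw, hvw⟩ := exists_partner hK hW hnd hv hv0 φ
  have hA := sympBilin_isAlt d F
  have hadj : ∀ (a : K) x y, sympBilin d F (orbitMap K x a) y = sympBilin d F x (orbitMap K y a) :=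
    fun a x y => hsa a a.2 x y
  have hmul : ∀ (a b : K) x, orbitMap K (orbitMap K x b) a = orbitMap K x (a * b) := fun a b x =>
    Matrix.mulVec_mulVec x (a : Matrix (Fin d ⊕ Fin d) (Fin d ⊕ Fin d) F) (b : Matrix (Fin d ⊕ Fin d) (Fin d ⊕ Fin d) F)
  have hcomm : ∀ a b : K, a * b = b * a := fun a b => Subtype.ext (hK.comm a a.2 b b.2)
  have hself : ∀ (x : Fin d ⊕ Fin d → F) (a b : K), sympBilin d F (orbitMap K x a) (orbitMap K x b) = 0 :=
    fun x a b => by
      rw [← hadj b, hmul]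
      exact halt _ (b * a).2 x
  have hpair : ∀ a b : K, sympBilin d F (orbitMap K v a) (orbitMap K w b) = φ (b * a) := fun a b => by
    rw [← hadj b, hmul, hvw]
  let P : K × K →ₗ[F] (Fin d ⊕ Fin d → F) := (orbitMap K v).coprod (orbitMap K w)
  let W' : Submodule F (Fin d ⊕ Fin d → F) := W ⊓ (sympBilin d F).orthogonal (LinearMap.range P)
  have hPW : LinearMap.range P ≤ W := by
    rintro _ ⟨⟨a, b⟩, rfl⟩
    exact W.add_mem (hW a a.2 v hv) (hW b b.2 w hw)
  have hmemW' : ∀ x, x ∈ W' ↔ x ∈ W ∧ (∀ a : K, sympBilin d F (orbitMap K v a) x = 0) ∧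
      ∀ a : K, sympBilin d F (orbitMap K w a) x = 0 := fun x => by
    refine ⟨fun h => ⟨h.1, fun a => ?_, fun a => ?_⟩, fun h => ⟨h.1, ?_⟩⟩
    · have := h.2 (P (a, 0)) ⟨_, rfl⟩
      simpa [P] using this
    · have := h.2 (P (0, a)) ⟨_, rfl⟩
      simpa [P] using this
    · rintro _ ⟨⟨a, b⟩, rfl⟩
      show sympBilin d F (P (a, b)) x = 0
      simp [P, map_add, LinearMap.add_apply, h.2.1 a, h.2.2 b, -sympBilin_apply]
  -- the dual of `K`
  let Θ : K →ₗ[F] Module.Dual F K := (LinearMap.mul F K).compr₂ φ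
  have hΘ : Function.Surjective Θ := by
    haveI : Module.Finite F K := Module.Finite.of_injective (Subalgebra.val K).toLinearMap Subtype.val_injective
    refine (LinearMap.injective_iff_surjective_of_finrank_eq_finrank Subspace.dual_finrank_eq.symm).1
      ((injective_iff_map_eq_zero _).2 fun a ha => functional_nondeg hK hφ fun b => ?_)
    rw [hcomm]
    exact LinearMap.congr_fun ha b
  have hdec : ∀ x ∈ W, ∃ a b : K, x - P (a, b) ∈ W' := by
    intro x hx
    obtain ⟨b, hb⟩ := hΘ ((sympBilin d F).flip x ∘ₗ orbitMap K v)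
    obtain ⟨a, ha⟩ := hΘ (-((sympBilin d F).flip x ∘ₗ orbitMap K w))
    refine ⟨a, b, (hmemW' _).2 ⟨W.sub_mem hx (hPW ⟨_, rfl⟩), fun c => ?_, fun c => ?_⟩⟩
    · have h := LinearMap.congr_fun hb c
      simp only [Θ, LinearMap.compr₂_apply, LinearMap.mul_apply', LinearMap.comp_apply, LinearMap.flip_apply] at h
      simp only [P, LinearMap.coprod_apply, map_sub, map_add, hself, hpair, zero_add, h]
      exact sub_self _
    · have h := LinearMap.congr_fun ha c
      simp only [Θ, LinearMap.compr₂_apply, LinearMap.mul_apply', LinearMap.comp_apply, LinearMap.flip_apply,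
        LinearMap.neg_apply] at h
      have e : sympBilin d F (orbitMap K w c) (orbitMap K v a) = - φ (a * c) := by
        rw [← (LinearMap.IsAlt.neg hA (orbitMap K v a) (orbitMap K w c)), hpair, hcomm]
      simp only [P, LinearMap.coprod_apply, map_sub, map_add, hself, e, add_zero, h, neg_neg]
      exact sub_self _
  have hw0 : ∀ a b : K, P (a, b) ∈ W' → a = 0 ∧ b = 0 := by
    intro a b h
    obtain ⟨-, h1, h2⟩ := (hmemW' _).1 h
    refine ⟨functional_nondeg hK hφ fun c => ?_, functional_nondeg hK hφ fun c => ?_⟩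
    · have := h2 c
      simp only [P, LinearMap.coprod_apply, map_add, hself, add_zero] at this
      rw [← (LinearMap.IsAlt.neg hA (orbitMap K v a) (orbitMap K w c)), hpair, neg_eq_zero] at this
      exact this
    · have := h1 c
      simp only [P, LinearMap.coprod_apply, map_add, hself, zero_add, hpair, hcomm b c] at this
      exact this
  have hPinj : Function.Injective P := (injective_iff_map_eq_zero _).2 fun ⟨a, b⟩ h => by
    obtain ⟨rfl, rfl⟩ := hw0 a b (h ▸ W'.zero_mem)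
    rfl
  have hdim : Module.finrank F W = 2 * k + Module.finrank F W' := by
    have h3 := Submodule.finrank_sup_add_finrank_inf_eq (LinearMap.range P) W'
    have e1 : LinearMap.range P ⊔ W' = W := le_antisymm (sup_le hPW inf_le_left) fun x hx => by
      obtain ⟨a, b, h⟩ := hdec x hx
      exact Submodule.mem_sup.2 ⟨_, ⟨(a, b), rfl⟩, _, h, add_sub_cancel _ _⟩
    have e2 : LinearMap.range P ⊓ W' = ⊥ := (Submodule.eq_bot_iff _).2 fun x hx => by
      obtain ⟨⟨a, b⟩, rfl⟩ := hx.1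
      obtain ⟨rfl, rfl⟩ := hw0 a b hx.2
      exact map_zero P
    haveI : Module.Finite F K := Module.Finite.of_injective (Subalgebra.val K).toLinearMap Subtype.val_injective
    rw [e1, e2, finrank_bot, add_zero, LinearMap.finrank_range_of_inj hPinj, Module.finrank_prod,
      hK.finrank_eq] at h3
    omega
  have hW' : KStable K W' := fun c hc x hx => by
    obtain ⟨h1, h2, h3⟩ := (hmemW' x).1 hx
    refine (hmemW' _).2 ⟨hW c hc x h1, fun a => ?_, fun a => ?_⟩
    · rw [← orbitMap_apply x ⟨c, hc⟩, ← hadj, hmul, h2]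
    · rw [← orbitMap_apply x ⟨c, hc⟩, ← hadj, hmul, h3]
  have hnd' : ∀ u ∈ W', (∀ y ∈ W', sympBilin d F u y = 0) → u = 0 := by
    intro u hu h
    refine hnd u hu.1 fun y hy => ?_
    obtain ⟨a, b, h'⟩ := hdec y hy
    have h1 : sympBilin d F u (P (a, b)) = 0 := by
      rw [← (LinearMap.IsAlt.neg hA (P (a, b)) u), neg_eq_zero]
      exact hu.2 _ ⟨_, rfl⟩
    have h2 := h _ h'
    rw [map_sub, h1, sub_zero] at h2
    exact h2
  have hk0 : 0 < k := by
    rcases Nat.eq_zero_or_pos k with rfl | h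
    · haveI : Module.Finite F K := Module.Finite.of_injective (Subalgebra.val K).toLinearMap Subtype.val_injective
      haveI := Module.finrank_zero_iff.1 hK.finrank_eq
      exact absurd (by rw [← Matrix.one_mulVec v,
        show (1 : Matrix (Fin d ⊕ Fin d) (Fin d ⊕ Fin d) F) = 0 from
          congrArg Subtype.val (Subsingleton.elim (1 : K) 0), Matrix.zero_mulVec]) hv0
    · exact h
  obtain ⟨n, v', w', hn, hmem, hvv, hww, hvw'⟩ := ih _ (by omega) W' rfl hW' hnd'
  have horth : ∀ (a : K) i, sympBilin d F (orbitMap K v a) (v' i) = 0 ∧ sympBilin d F (orbitMap K w a) (v' i) = 0 ∧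
      sympBilin d F (orbitMap K v a) (w' i) = 0 ∧ sympBilin d F (orbitMap K w a) (w' i) = 0 := fun a i =>
    ⟨((hmemW' _).1 (hmem i).1).2.1 a, ((hmemW' _).1 (hmem i).1).2.2 a,
      ((hmemW' _).1 (hmem i).2).2.1 a, ((hmemW' _).1 (hmem i).2).2.2 a⟩
  have hrev : ∀ (a : K) x y, sympBilin d F (orbitMap K x a) y = -sympBilin d F (orbitMap K y a) x := fun a x y => by
    rw [hadj a y x, LinearMap.IsAlt.neg hA]
  refine ⟨n + 1, Fin.cons v v', Fin.cons w w', by rw [hdim, hn]; ring, fun i => ?_, fun a i j => ?_,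
    fun a i j => ?_, fun a i j => ?_⟩
  · refine Fin.cases ⟨hv, hw⟩ (fun i => ?_) i
    exact ⟨(hmem i).1.1, (hmem i).2.1⟩
  · refine Fin.cases (Fin.cases ?_ (fun j => ?_) j) (fun i => Fin.cases ?_ (fun j => ?_) j) i <;>
      simp only [Fin.cons_zero, Fin.cons_succ]
    exacts [halt a a.2 v, (horth a j).1, by rw [hrev, (horth a i).1, neg_zero], hvv a i j]
  · refine Fin.cases (Fin.cases ?_ (fun j => ?_) j) (fun i => Fin.cases ?_ (fun j => ?_) j) i <;>
      simp only [Fin.cons_zero, Fin.cons_succ]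
    exacts [halt a a.2 w, (horth a j).2.2.2, by rw [hrev, (horth a i).2.2.2, neg_zero], hww a i j]
  · refine Fin.cases (Fin.cases ?_ (fun j => ?_) j) (fun i => Fin.cases ?_ (fun j => ?_) j) i <;>
      simp only [Fin.cons_zero, Fin.cons_succ]
    · simp [hvw, -sympBilin_apply]
    · rw [if_neg (Fin.succ_ne_zero j).symm, (horth a j).2.2.1]
    · rw [if_neg (Fin.succ_ne_zero i), hrev, (horth a i).2.1, neg_zero]
    · simp only [hvw' a i j, Fin.succ_inj]

include hK hsa halt in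
/-- A nondegenerate stable subspace has dimension divisible by `2 k`. -/
theorem two_mul_dvd_finrank (hd : 0 < d) {W : Submodule F (Fin d ⊕ Fin d → F)} (hW : KStable K W)
    (hnd : ∀ u ∈ W, (∀ v ∈ W, sympBilin d F u v = 0) → u = 0) : 2 * k ∣ Module.finrank F W := by
  classical
  haveI : Module.Finite F K := Module.Finite.of_injective (Subalgebra.val K).toLinearMap Subtype.val_injective
  obtain ⟨φ, hφ⟩ : ∃ φ : K →ₗ[F] F, φ ≠ 0 := by
    letI : Field K := (isField hK hd).toField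
    exact exists_ne 0
  obtain ⟨n, -, -, hn, -⟩ := exists_frame hK hsa halt hφ W hW hnd
  exact ⟨n, by rw [hn, mul_assoc]⟩

include hK hsa halt in
/-- The symplectic group over the field inside the centraliser. -/
theorem exists_sp_hom [Fintype F] (hd : 0 < d) :
    ∃ (L : Type u) (_ : Field L) (_ : Fintype L) (m : ℕ)
      (ψ : Matrix.symplecticGroup (Fin m) L →* GL (Fin d ⊕ Fin d) F),
      Fintype.card L = Fintype.card F ^ k ∧ k * m = d ∧ Function.Injective ψ ∧
      ∀ g, ψ g ∈ Cfsg.spGL d F ∧ ∀ a ∈ K, (ψ g : Matrix (Fin d ⊕ Fin d) (Fin d ⊕ Fin d) F) * a =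
        a * (ψ g : Matrix (Fin d ⊕ Fin d) (Fin d ⊕ Fin d) F) := by
  classical
  haveI : Module.Finite F K := Module.Finite.of_injective (Subalgebra.val K).toLinearMap Subtype.val_injective
  letI iF : Field K := (isField hK hd).toField
  letI : Fintype K := Fintype.ofFinite K
  obtain ⟨φ, hφ⟩ : ∃ φ : K →ₗ[F] F, φ ≠ 0 := exists_ne 0
  obtain ⟨n, v, w, hn, -, hvv, hww, hvw⟩ := exists_frame hK hsa halt hφ ⊤ (fun _ _ _ _ => trivial)
    (fun u _ h => (sympBilin_nondegenerate d F).1 u fun v => h v trivial)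
  rw [finrank_top, Module.finrank_fintype_fun_eq_card, Fintype.card_sum, Fintype.card_fin] at hn
  have hA := sympBilin_isAlt d F
  have hadj : ∀ (a : K) x y, sympBilin d F (orbitMap K x a) y = sympBilin d F x (orbitMap K y a) :=
    fun a x y => hsa a a.2 x y
  have hmul : ∀ (a b : K) x, orbitMap K (orbitMap K x b) a = orbitMap K x (a * b) := fun a b x =>
    Matrix.mulVec_mulVec x (a : Matrix (Fin d ⊕ Fin d) (Fin d ⊕ Fin d) F) (b : Matrix (Fin d ⊕ Fin d) (Fin d ⊕ Fin d) F)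
  let Φ : (Fin n ⊕ Fin n → K) →ₗ[F] (Fin d ⊕ Fin d → F) :=
    ∑ x : Fin n ⊕ Fin n, (orbitMap K (Sum.elim w v x)).comp (LinearMap.proj x)
  have hΦ : ∀ c, Φ c = ∑ x : Fin n ⊕ Fin n, orbitMap K (Sum.elim w v x) (c x) := fun c => by
    simp [Φ, LinearMap.sum_apply]
  have hform : ∀ c c', sympBilin d F (Φ c) (Φ c') = φ (sympBilin n K c c') := by
    intro c c'
    have hgram : ∀ x y a b, sympBilin d F (orbitMap K (Sum.elim w v x) a) (orbitMap K (Sum.elim w v y) b) =
        match x, y with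
        | Sum.inr i, Sum.inl j => if i = j then φ (a * b) else 0
        | Sum.inl i, Sum.inr j => if i = j then -φ (a * b) else 0
        | _, _ => 0 := by
      intro x y a b
      rw [← hadj b, hmul, mul_comm b a]
      rcases x with i | i <;> rcases y with j | j <;> simp only [Sum.elim_inl, Sum.elim_inr]
      · exact hww _ i j
      · rw [hadj, ← (LinearMap.IsAlt.neg hA (orbitMap K (v j) (a * b)) (w i)), hvw]
        split_ifs with h1 h2 h2
        · rfl
        · exact absurd h1.symm h2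
        · exact absurd h2.symm h1
        · exact neg_zero
      · exact hvw _ i j
      · exact hvv _ i j
    rw [show sympBilin n K c c' = _ from sympForm_eq n K c c', hΦ c, hΦ c']
    simp only [map_sum, LinearMap.sum_apply, map_add, LinearMap.add_apply, hgram, Fintype.sum_sum_type, Finset.sum_ite_eq', Finset.mem_univ,
      if_true, Finset.sum_const_zero, zero_add, add_zero, map_sub,
      Finset.sum_neg_distrib, Finset.sum_sub_distrib]
    ring
  have hsc : ∀ (c : Fin n ⊕ Fin n → K) (a : K), Φ (a • c) = orbitMap K (Φ c) a := fun c a => by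
    rw [hΦ, hΦ, orbitMap_apply, Matrix.mulVec_sum]
    exact Finset.sum_congr rfl fun x _ => (hmul a (c x) _).symm
  have hinj : Function.Injective Φ := (injective_iff_map_eq_zero _).2 fun c hc => by
    refine (sympBilin_nondegenerate n K).1 c fun c' => functional_nondeg hK hφ fun b => ?_
    have h := hform c (b • c')
    rw [hc, map_zero, LinearMap.zero_apply, map_smul] at h
    exact h.symm
  let E := (LinearEquiv.ofBijective Φ ⟨hinj, (LinearMap.injective_iff_surjective_of_finrank_eq_finrank (by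
    rw [Module.finrank_pi_fintype F, Finset.sum_const, Finset.card_univ, hK.finrank_eq,
      Module.finrank_fintype_fun_eq_card, Fintype.card_sum, Fintype.card_sum, Fintype.card_fin, Fintype.card_fin,
      smul_eq_mul]
    linarith)).1 hinj⟩).symm
  have hEs : ∀ c, E.symm c = Φ c := fun c => rfl
  let ρ : Matrix.symplecticGroup (Fin n) K →* ((Fin n ⊕ Fin n → K) ≃ₗ[F] (Fin n ⊕ Fin n → K)) :=
    CfsgLib.KnownB.RestrictScalars.resHom.comp (spEquiv n K)
  have hψ : ∀ g (u : Fin d ⊕ Fin d → F),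
      ((CfsgLib.KnownB.RestrictScalars.matHom ρ E) g) *ᵥ u = Φ (spEquiv n K g (E u)) := fun g u =>
    CfsgLib.KnownB.RestrictScalars.matHom_mulVec ρ E g u
  refine ⟨K, iF, inferInstance, n, (CfsgLib.KnownB.RestrictScalars.matHom ρ E).toHomUnits, ?_, by omega, ?_, ?_⟩
  · rw [Module.card_eq_pow_finrank (K := F) (V := K), hK.finrank_eq]
  · intro g h e
    exact CfsgLib.KnownB.RestrictScalars.matHom_injective ρ
      ((CfsgLib.KnownB.RestrictScalars.resHom_injective).comp (spEquiv_injective n K)) E (congrArg Units.val e)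
  · refine fun g => ⟨fun u u' => ?_, fun a ha => ?_⟩
    · show sympBilin d F ((CfsgLib.KnownB.RestrictScalars.matHom ρ E g) *ᵥ u)
        ((CfsgLib.KnownB.RestrictScalars.matHom ρ E g) *ᵥ u') = sympBilin d F u u'
      rw [hψ, hψ, hform, spEquiv_preserves n K g, ← hform, ← hEs, ← hEs,
        E.symm_apply_apply, E.symm_apply_apply]
    · refine Matrix.toLin'.injective (LinearMap.ext fun u => ?_)
      obtain ⟨c, rfl⟩ : ∃ c, Φ c = u := ⟨E u, by rw [← hEs, E.symm_apply_apply]⟩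
      have e1 : a *ᵥ Φ c = Φ ((⟨a, ha⟩ : K) • c) := (hsc c ⟨a, ha⟩).symm
      simp only [Matrix.toLin'_apply, ← Matrix.mulVec_mulVec, MonoidHom.coe_toHomUnits, e1, hψ]
      rw [← hEs c, ← hEs ((⟨a, ha⟩ : K) • c), E.apply_symm_apply, E.apply_symm_apply, map_smul, hsc]
      rfl

end frame

section normalizer

variable {g : GL (Fin d ⊕ Fin d) F}

theorem mem_normalizer_of_commute
    (h : ∀ a ∈ K, (g : Matrix (Fin d ⊕ Fin d) (Fin d ⊕ Fin d) F) * a = a * (g : Matrix _ _ F)) :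
    g ∈ Cfsg.Geo.subalgebraNormalizer K := by
  intro a
  refine ⟨fun ha => ?_, fun ha => ?_⟩
  · rwa [h a ha, mul_assoc, Units.mul_inv, mul_one]
  · have h1 := h _ ha
    rw [mul_assoc ((g : Matrix (Fin d ⊕ Fin d) (Fin d ⊕ Fin d) F) * a), Units.inv_mul, mul_one] at h1
    have h2 := congrArg (fun A => ((g⁻¹ : GL (Fin d ⊕ Fin d) F) : Matrix (Fin d ⊕ Fin d) (Fin d ⊕ Fin d) F) * A) h1
    simp only [← mul_assoc, Units.inv_mul, one_mul] at h2
    rwa [h2] at ha

theorem kStable_fixSp (h : ∀ a ∈ K, (g : Matrix (Fin d ⊕ Fin d) (Fin d ⊕ Fin d) F) * a = a * (g : Matrix _ _ F)) :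
    KStable K (fixSp (Matrix.toLin' (g : Matrix (Fin d ⊕ Fin d) (Fin d ⊕ Fin d) F))) := fun a ha v hv => by
  have hgv := mem_fixSp.1 hv
  rw [Matrix.toLin'_apply] at hgv
  rw [mem_fixSp, Matrix.toLin'_apply, Matrix.mulVec_mulVec, h a ha, ← Matrix.mulVec_mulVec, hgv]

theorem kStable_movSp (h : ∀ a ∈ K, (g : Matrix (Fin d ⊕ Fin d) (Fin d ⊕ Fin d) F) * a = a * (g : Matrix _ _ F)) :
    KStable K (movSp (Matrix.toLin' (g : Matrix (Fin d ⊕ Fin d) (Fin d ⊕ Fin d) F))) := by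
  rintro a ha _ ⟨v, rfl⟩
  refine ⟨a *ᵥ v, ?_⟩
  simp only [LinearMap.sub_apply, Module.End.one_apply, Matrix.toLin'_apply, Matrix.mulVec_mulVec, h a ha,
    Matrix.mulVec_sub]

theorem fix_small (hK : Cfsg.Geo.IsFieldSubalgebra k K) (hN : g ∈ Cfsg.Geo.subalgebraNormalizer K)
    {a : Matrix (Fin d ⊕ Fin d) (Fin d ⊕ Fin d) F} (ha : a ∈ K)
    (hne : (g : Matrix (Fin d ⊕ Fin d) (Fin d ⊕ Fin d) F) * a ≠ a * (g : Matrix _ _ F)) :
    2 * Module.finrank F (fixSp (Matrix.toLin' (g : Matrix (Fin d ⊕ Fin d) (Fin d ⊕ Fin d) F))) ≤ 2 * d := by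
  set W := fixSp (Matrix.toLin' (g : Matrix (Fin d ⊕ Fin d) (Fin d ⊕ Fin d) F))
  set b := (g : Matrix (Fin d ⊕ Fin d) (Fin d ⊕ Fin d) F) * a *
    ((g⁻¹ : GL (Fin d ⊕ Fin d) F) : Matrix (Fin d ⊕ Fin d) (Fin d ⊕ Fin d) F) with hb
  have hbK : b ∈ K := (hN a).1 ha
  have hba : b - a ≠ 0 := fun e => hne (by
    rw [sub_eq_zero] at e
    conv_rhs => rw [← e, hb, mul_assoc, Units.inv_mul, mul_one])
  have hfix : ∀ v ∈ W, (g : Matrix (Fin d ⊕ Fin d) (Fin d ⊕ Fin d) F) *ᵥ v = v := fun v hv => by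
    simpa [W] using mem_fixSp.1 hv
  have hdis : ∀ v ∈ W, a *ᵥ v ∈ W → v = 0 := fun v hv hav => by
    refine eq_zero_of_mulVec hK (K.sub_mem hbK ha) hba ?_
    have h1 := hfix _ hav
    rw [Matrix.mulVec_mulVec] at h1
    rw [Matrix.sub_mulVec, sub_eq_zero, hb]
    nth_rewrite 1 [← hfix v hv]
    rw [Matrix.mulVec_mulVec, mul_assoc, Units.inv_mul, mul_one, h1]
  have ha0 : a ≠ 0 := fun e => hne (by rw [e, mul_zero, zero_mul])
  let L : W →ₗ[F] (Fin d ⊕ Fin d → F) := (Matrix.toLin' a).comp W.subtype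
  have hL : Function.Injective L := (injective_iff_map_eq_zero _).2 fun v hv =>
    Subtype.ext (eq_zero_of_mulVec hK ha ha0 (by simpa [L] using hv))
  have hinf : W ⊓ LinearMap.range L = ⊥ := by
    rw [Submodule.eq_bot_iff]
    rintro _ ⟨h1, v, rfl⟩
    have : (v : Fin d ⊕ Fin d → F) = 0 := hdis v v.2 (by simpa [L] using h1)
    simp [L, this]
  have h := Submodule.finrank_sup_add_finrank_inf_eq W (LinearMap.range L)
  rw [hinf, finrank_bot, add_zero, LinearMap.finrank_range_of_inj hL] at h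
  have h' := (W ⊔ LinearMap.range L).finrank_le
  rw [Module.finrank_fintype_fun_eq_card, Fintype.card_sum, Fintype.card_fin] at h'
  omega

theorem commute_of_pow [Finite F] (hK : Cfsg.Geo.IsFieldSubalgebra k K) (hd : 0 < d) (hk : k.Prime)
    (hN : g ∈ Cfsg.Geo.subalgebraNormalizer K) {r : ℕ} (hr : r.Prime) (hrk : r ≠ k) {z : F}
    (hz : ((g ^ r : GL (Fin d ⊕ Fin d) F) : Matrix (Fin d ⊕ Fin d) (Fin d ⊕ Fin d) F) =
      z • (1 : Matrix (Fin d ⊕ Fin d) (Fin d ⊕ Fin d) F)) :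
    ∀ a ∈ K, (g : Matrix (Fin d ⊕ Fin d) (Fin d ⊕ Fin d) F) * a = a * (g : Matrix _ _ F) := by
  letI : Field K := (isField hK hd).toField
  haveI : Module.Finite F K := Module.Finite.of_injective (Subalgebra.val K).toLinearMap Subtype.val_injective
  let cj : (h : GL (Fin d ⊕ Fin d) F) → Matrix (Fin d ⊕ Fin d) (Fin d ⊕ Fin d) F →
      Matrix (Fin d ⊕ Fin d) (Fin d ⊕ Fin d) F := fun h A =>
    (h : Matrix (Fin d ⊕ Fin d) (Fin d ⊕ Fin d) F) * A *
      ((h⁻¹ : GL (Fin d ⊕ Fin d) F) : Matrix (Fin d ⊕ Fin d) (Fin d ⊕ Fin d) F)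
  let τ₀ : K →ₐ[F] K :=
    { toFun := fun a => ⟨cj g a, (hN a).1 a.2⟩
      map_one' := Subtype.ext (by simp [cj])
      map_mul' := fun a b => Subtype.ext (by
        show cj g ((a : Matrix (Fin d ⊕ Fin d) (Fin d ⊕ Fin d) F) * b) = cj g a * cj g b
        simp [cj, mul_assoc])
      map_zero' := Subtype.ext (by simp [cj])
      map_add' := fun a b => Subtype.ext (by simp [cj, mul_add, add_mul])
      commutes' := fun c => Subtype.ext (by
        show cj g (algebraMap F _ c) = algebraMap F _ c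
        simp only [cj]
        rw [← Algebra.commutes, mul_assoc, Units.mul_inv, mul_one]) }
  let τ : K ≃ₐ[F] K := AlgEquiv.ofBijective τ₀ (Finite.injective_iff_bijective.1 τ₀.toRingHom.injective)
  have hτ : ∀ (n : ℕ) (a : K), (((τ ^ n) a : K) : Matrix (Fin d ⊕ Fin d) (Fin d ⊕ Fin d) F) = cj (g ^ n) a :=
    fun n => by
    induction n with
    | zero => intro a; simp [cj]
    | succ n ih =>
      intro a
      rw [pow_succ', AlgEquiv.mul_apply]
      show cj g _ = _
      rw [ih]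
      simp only [cj, pow_succ', _root_.mul_inv_rev, Units.val_mul, mul_assoc]
  have hr' : τ ^ r = 1 := AlgEquiv.ext fun a => Subtype.ext (by
    rw [hτ]
    show _ = (a : Matrix (Fin d ⊕ Fin d) (Fin d ⊕ Fin d) F)
    simp only [cj]
    have hcomm : ((g ^ r : GL (Fin d ⊕ Fin d) F) : Matrix (Fin d ⊕ Fin d) (Fin d ⊕ Fin d) F) *
        (a : Matrix (Fin d ⊕ Fin d) (Fin d ⊕ Fin d) F) =
        (a : Matrix (Fin d ⊕ Fin d) (Fin d ⊕ Fin d) F) *
          ((g ^ r : GL (Fin d ⊕ Fin d) F) : Matrix (Fin d ⊕ Fin d) (Fin d ⊕ Fin d) F) := by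
      rw [hz]; simp
    rw [hcomm, mul_assoc, Units.mul_inv, mul_one])
  have h1 : τ = 1 := orderOf_eq_one_iff.1 (Nat.eq_one_of_dvd_coprimes ((Nat.coprime_primes hr hk).2 hrk)
    (orderOf_dvd_of_pow_eq_one hr') (by
      have h := orderOf_dvd_natCard τ
      rwa [IsGalois.card_aut_eq_finrank, hK.finrank_eq] at h))
  intro a ha
  have h := congrArg Subtype.val (DFunLike.congr_fun h1 ⟨a, ha⟩)
  have h' : cj g a = a := h
  conv_rhs => rw [← h']
  simp [cj, mul_assoc]

theorem finrank_fixSp_conj (g x : GL (Fin d ⊕ Fin d) F) :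
    Module.finrank F (fixSp (Matrix.toLin' ((g⁻¹ * x * g : GL (Fin d ⊕ Fin d) F) :
        Matrix (Fin d ⊕ Fin d) (Fin d ⊕ Fin d) F))) =
      Module.finrank F (fixSp (Matrix.toLin' (x : Matrix (Fin d ⊕ Fin d) (Fin d ⊕ Fin d) F))) := by
  let e : (Fin d ⊕ Fin d → F) ≃ₗ[F] (Fin d ⊕ Fin d → F) :=
    LinearEquiv.ofLinear (Matrix.toLin' (g : Matrix (Fin d ⊕ Fin d) (Fin d ⊕ Fin d) F))
      (Matrix.toLin' ((g⁻¹ : GL (Fin d ⊕ Fin d) F) : Matrix (Fin d ⊕ Fin d) (Fin d ⊕ Fin d) F))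
      (LinearMap.ext fun v => toLin'_inv_apply g v) (LinearMap.ext fun v => toLin'_apply_inv g v)
  rw [← LinearEquiv.finrank_map_eq e]
  refine congrArg (fun W : Submodule F (Fin d ⊕ Fin d → F) => Module.finrank F W) ?_
  ext v
  rw [Submodule.mem_map_equiv, mem_fixSp, mem_fixSp, toLin'_mul_apply, toLin'_mul_apply]
  show Matrix.toLin' _ (Matrix.toLin' _ (e (e.symm v))) = e.symm v ↔ _
  rw [e.apply_symm_apply]
  show e.symm (Matrix.toLin' (x : Matrix (Fin d ⊕ Fin d) (Fin d ⊕ Fin d) F) v) = e.symm v ↔ _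
  exact e.symm.injective.eq_iff

end normalizer

end CfsgLib.PrimeOrderSp.SelfAdj
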