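import Cfsg.Prelude.Def_GeometricClasses
import Cfsg.Agent.Lib.PrimeOrderSp.InvPlanes
import Cfsg.Agent.Lib.PrimeOrderSp.SpGL
import Cfsg.Agent.Lib.KnownB.RestrictScalars
import Cfsg.Agent.Lib.Classical.UnitaryOrder
import Cfsg.Agent.Lib.FgsB.HomocyclicSylow

/-!
# Skew elements with non-square square: the subgroups of type `GU_d(q)` of `Sp_{2d}(q)`
-/

set_option autoImplicit false
set_option linter.style.haveILetI false

namespace CfsgLib.PrimeOrderSp

open Matrix CfsgLib.Geometry

universe u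

variable {F : Type u} [Field F] {d : ℕ}

local notation "V" => (Fin d ⊕ Fin d → F)
local notation "GLd" => GL (Fin d ⊕ Fin d) F
local notation "Md" => Matrix (Fin d ⊕ Fin d) (Fin d ⊕ Fin d) F

/-- A skew endomorphism with square `ν`. -/
structure SkewSq (ν : F) (J : Module.End F (Fin d ⊕ Fin d → F)) : Prop where
  skew : ∀ u v, sympBilin d F (J u) v = - sympBilin d F u (J v)
  sq : ∀ v, J (J v) = ν • v

section basis

variable {ν : F} {J : Module.End F (Fin d ⊕ Fin d → F)}

theorem SkewSq.exists_vector (hJ : SkewSq ν J) (h2 : (2 : F) ≠ 0) (hν : ν ≠ 0)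
    {W : Submodule F V} (hW : NDOn (sympBilin d F) W) (hWJ : ∀ v ∈ W, J v ∈ W) (hW0 : W ≠ ⊥) :
    ∃ v ∈ W, sympBilin d F v (J v) ≠ 0 := by
  by_contra hc
  push Not at hc
  obtain ⟨u, hu, hu0⟩ := Submodule.exists_mem_ne_zero_of_ne_bot hW0
  refine hu0 (hW u hu fun v hv => ?_)
  have key : ∀ a ∈ W, ∀ b ∈ W, sympBilin d F a (J b) = 0 := by
    intro a ha b hb
    have h := hc (a + b) (W.add_mem ha hb)
    simp only [map_add, LinearMap.add_apply, hc a ha, hc b hb, zero_add, add_zero] at h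
    have h' : sympBilin d F b (J a) = sympBilin d F a (J b) := by
      rw [← (LinearMap.IsAlt.neg (sympBilin_isAlt d F) (J a) b), hJ.skew, neg_neg]
    rw [h', ← two_mul] at h
    exact (mul_eq_zero.1 h).resolve_left h2
  have h1 := key u hu (J v) (hWJ v hv)
  rw [hJ.sq, map_smul, smul_eq_mul, mul_eq_zero] at h1
  exact h1.resolve_left hν

theorem exists_norm_value [Finite F] (h2 : (2 : F) ≠ 0) (ν c : F) (hν : ν ≠ 0) :
    ∃ a b : F, a * a - ν * (b * b) = c := by
  classical
  have := Fintype.ofFinite F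
  have hodd : Fintype.card F % 2 = 1 := by
    rcases Nat.mod_two_eq_zero_or_one (Fintype.card F) with h0 | h0
    · exact absurd (by
        rw [← FiniteField.even_card_iff_char_two] at h0
        exact_mod_cast (h0 ▸ ringChar.Nat.cast_ringChar : ((2 : ℕ) : F) = 0)) h2
    · exact h0
  obtain ⟨a, b, hab⟩ := FiniteField.exists_root_sum_quadratic
    (f := (Polynomial.X ^ 2 - Polynomial.C c : Polynomial F)) (g := (Polynomial.C (-ν) * Polynomial.X ^ 2))
    (Polynomial.degree_X_pow_sub_C two_pos c) (Polynomial.degree_C_mul_X_pow 2 (neg_ne_zero.2 hν)) hodd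
  refine ⟨a, b, ?_⟩
  simp only [Polynomial.eval_sub, Polynomial.eval_pow, Polynomial.eval_X, Polynomial.eval_C,
    Polynomial.eval_mul, pow_two] at hab
  linear_combination hab

theorem SkewSq.exists_basis [Finite F] (hJ : SkewSq ν J) (h2 : (2 : F) ≠ 0) (hν : ¬ IsSquare ν) :
    ∃ (n : ℕ) (v : Fin n → V), n = d ∧ (∀ i j, sympBilin d F (v i) (v j) = 0) ∧
      ∀ i j, sympBilin d F (v i) (J (v j)) = if i = j then 1 else 0 := by
  have hν0 : ν ≠ 0 := fun h => hν (h ▸ IsSquare.zero)
  have hA := sympBilin_isAlt d F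
  suffices H : ∀ (k : ℕ) (W : Submodule F V), Module.finrank F W ≤ k → NDOn (sympBilin d F) W →
      (∀ v ∈ W, J v ∈ W) → ∃ (n : ℕ) (v : Fin n → V), 2 * n = Module.finrank F W ∧ (∀ i, v i ∈ W) ∧
        (∀ i j, sympBilin d F (v i) (v j) = 0) ∧
        ∀ i j, sympBilin d F (v i) (J (v j)) = if i = j then 1 else 0 by
    obtain ⟨n, v, hn, -, h1, h3⟩ := H _ ⊤ le_rfl (fun u _ hu => (sympBilin_nondegenerate d F).1 u
      fun w => hu w trivial) fun _ _ => trivial
    rw [finrank_top, Module.finrank_fintype_fun_eq_card, Fintype.card_sum, Fintype.card_fin] at hn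
    exact ⟨n, v, by omega, h1, h3⟩
  intro k
  induction k with
  | zero => exact fun W h0 _ _ => ⟨0, Fin.elim0, by omega, fun i => i.elim0, fun i => i.elim0, fun i => i.elim0⟩
  | succ k ih =>
    intro W hk hW hWJ
    by_cases h0 : W = ⊥
    · subst h0
      exact ⟨0, Fin.elim0, by simp, fun i => i.elim0, fun i => i.elim0, fun i => i.elim0⟩
    obtain ⟨v₀, hv₀, hne⟩ := hJ.exists_vector h2 hν0 hW hWJ h0
    obtain ⟨a, b, hab⟩ := exists_norm_value h2 ν (sympBilin d F v₀ (J v₀))⁻¹ hν0
    set v := a • v₀ + b • J v₀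
    have hJv : J v = (b * ν) • v₀ + a • J v₀ := by
      simp only [v, map_add, map_smul, hJ.sq, smul_smul]
      rw [add_comm]
    have hv : v ∈ W := W.add_mem (W.smul_mem _ hv₀) (W.smul_mem _ (hWJ _ hv₀))
    have hv1 : sympBilin d F v (J v) = 1 := by
      rw [hJv]
      simp only [v, map_add, map_smul, LinearMap.add_apply, LinearMap.smul_apply, smul_eq_mul, hA v₀, hA (J v₀)]
      rw [← (LinearMap.IsAlt.neg hA v₀ (J v₀))]
      rw [show ∀ y : F, b * ν * (a * 0 + b * -y) + a * (a * y + b * 0) = (a * a - ν * (b * b)) * y from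
        fun y => by ring, hab, inv_mul_cancel₀ hne]
    have hvne : sympBilin d F v (J v) ≠ 0 := by rw [hv1]; exact one_ne_zero
    obtain ⟨hs, hnd, -⟩ := split_plane hA hv (hWJ v hv) hvne hW
    set W' := W ⊓ perp2 (sympBilin d F) v (J v)
    have hWJ' : ∀ u ∈ W', J u ∈ W' := by
      intro u hu
      obtain ⟨h1, h3⟩ := mem_perp2.1 hu.2
      refine ⟨hWJ u hu.1, mem_perp2.2 ⟨?_, ?_⟩⟩
      · rw [← neg_neg (sympBilin d F v (J u)), ← hJ.skew, h3, neg_zero]
      · rw [hJ.skew, hJ.sq, map_smul, h1, smul_zero, neg_zero]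
    have hli : LinearIndependent F ![v, J v] := by
      rw [LinearIndependent.pair_iff]
      intro s t hst
      have e1 := congrArg (sympBilin d F v) hst
      have e2 := congrArg (fun u => sympBilin d F u (J v)) hst
      simp only [map_add, map_smul, LinearMap.add_apply, LinearMap.smul_apply, smul_eq_mul, hA v, hA (J v),
        hv1, mul_zero, mul_one, zero_add, add_zero, map_zero, LinearMap.zero_apply] at e1 e2
      exact ⟨e2, e1⟩
    have hP : Module.finrank F (Submodule.span F ({v, J v} : Set V)) = 2 := by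
      have := finrank_span_eq_card hli
      rwa [Matrix.range_cons_cons_empty, Fintype.card_fin] at this
    have hdis : Submodule.span F ({v, J v} : Set V) ⊓ W' = ⊥ := by
      rw [Submodule.eq_bot_iff]
      intro u hu
      obtain ⟨s, t, rfl⟩ := Submodule.mem_span_pair.1 hu.1
      obtain ⟨h1, h3⟩ := mem_perp2.1 hu.2.2
      have e : sympBilin d F (J v) v = -1 := by rw [← hv1]; exact (LinearMap.IsAlt.neg hA _ _).symm
      simp only [map_add, map_smul, smul_eq_mul, hA v, hA (J v), hv1, e, mul_zero, mul_one, mul_neg, zero_add,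
        add_zero, neg_eq_zero] at h1 h3
      simp [h1, h3]
    have hsum : Module.finrank F W = 2 + Module.finrank F W' := by
      have h3 := Submodule.finrank_sup_add_finrank_inf_eq (Submodule.span F ({v, J v} : Set V)) W'
      rw [hdis, finrank_bot, add_zero, hP] at h3
      rw [← h3, le_antisymm (sup_le (Submodule.span_le.2 (by rintro _ (rfl | rfl); exacts [hv, hWJ v hv]))
        inf_le_left) hs]
    obtain ⟨n, w, hn, hwW, hw, hwJ⟩ := ih W' (by omega) hnd hWJ'
    have horth : ∀ i, sympBilin d F v (w i) = 0 ∧ sympBilin d F v (J (w i)) = 0 ∧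
        sympBilin d F (w i) v = 0 ∧ sympBilin d F (w i) (J v) = 0 := fun i => by
      obtain ⟨h1, h3⟩ := mem_perp2.1 (hwW i).2
      obtain ⟨h4, -⟩ := mem_perp2.1 (hWJ' _ (hwW i)).2
      exact ⟨h1, h4, by rw [← (LinearMap.IsAlt.neg hA v (w i)), h1, neg_zero],
        by rw [← (LinearMap.IsAlt.neg hA (J v) (w i)), h3, neg_zero]⟩
    refine ⟨n + 1, Fin.cons v w, by omega, fun i => ?_, fun i j => ?_, fun i j => ?_⟩
    · refine Fin.cases hv (fun i => ?_) i
      exact (hwW i).1
    · refine Fin.cases (Fin.cases ?_ (fun j => ?_) j) (fun i => Fin.cases ?_ (fun j => ?_) j) i <;>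
        simp only [Fin.cons_zero, Fin.cons_succ]
      exacts [hA v, (horth j).1, (horth i).2.2.1, hw i j]
    · refine Fin.cases (Fin.cases ?_ (fun j => ?_) j) (fun i => Fin.cases ?_ (fun j => ?_) j) i <;>
        simp only [Fin.cons_zero, Fin.cons_succ]
      · simp [hv1]
      · rw [(horth j).2.1, if_neg (Fin.succ_ne_zero j).symm]
      · rw [(horth i).2.2.2, if_neg (Fin.succ_ne_zero i)]
      · simp only [hwJ i j, Fin.succ_inj]

theorem skewSq_conj [Finite F] {J' : Module.End F V} (hJ : SkewSq ν J) (hJ' : SkewSq ν J') (h2 : (2 : F) ≠ 0)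
    (hν : ¬ IsSquare ν) : ∃ g ∈ Cfsg.spGL d F, ∀ v, Matrix.toLin' (g : Md) (J v) = J' (Matrix.toLin' (g : Md) v) := by
  obtain ⟨n, v, hn, hv, hvJ⟩ := hJ.exists_basis h2 hν
  obtain ⟨n', w, hn', hw, hwJ⟩ := hJ'.exists_basis h2 hν
  subst hn
  obtain rfl : n' = n := hn'
  have hA := sympBilin_isAlt n' F
  let fam : Module.End F (Fin n' ⊕ Fin n' → F) → (Fin n' → (Fin n' ⊕ Fin n' → F)) → Fin n' ⊕ Fin n' → (Fin n' ⊕ Fin n' → F) := fun T u => Sum.elim u fun i => T (u i)
  have gram : ∀ (T : Module.End F (Fin n' ⊕ Fin n' → F)) (u : Fin n' → (Fin n' ⊕ Fin n' → F)), SkewSq ν T →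
      (∀ i j, sympBilin n' F (u i) (u j) = 0) →
      (∀ i j, sympBilin n' F (u i) (T (u j)) = if i = j then 1 else 0) → ∀ x y,
      sympBilin n' F (fam T u x) (fam T u y) = match x, y with
        | Sum.inl i, Sum.inr j => if i = j then 1 else 0
        | Sum.inr i, Sum.inl j => -(if i = j then 1 else 0)
        | _, _ => 0 := by
    intro T u hT h1 h3 x y
    rcases x with i | i <;> rcases y with j | j <;> simp only [fam, Sum.elim_inl, Sum.elim_inr]
    · exact h1 i j
    · exact h3 i j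
    · rw [hT.skew, h3]
    · rw [hT.skew, hT.sq, map_smul, h1, smul_zero, neg_zero]
  have li : ∀ (T : Module.End F (Fin n' ⊕ Fin n' → F)) (u : Fin n' → (Fin n' ⊕ Fin n' → F)), SkewSq ν T →
      (∀ i j, sympBilin n' F (u i) (u j) = 0) →
      (∀ i j, sympBilin n' F (u i) (T (u j)) = if i = j then 1 else 0) → LinearIndependent F (fam T u) := by
    intro T u hT h1 h3
    rw [Fintype.linearIndependent_iff]
    intro g hg k
    have key : ∀ y, ∑ x, g x * sympBilin n' F (fam T u x) (fam T u y) = 0 := fun y => by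
      have := congrArg (fun a => sympBilin n' F a (fam T u y)) hg
      simpa [map_sum, LinearMap.sum_apply, -sympBilin_apply] using this
    rcases k with i | i
    · have := key (Sum.inr i)
      rw [Fintype.sum_sum_type] at this
      simpa [gram T u hT h1 h3, Finset.sum_ite_eq', -sympBilin_apply] using this
    · have := key (Sum.inl i)
      rw [Fintype.sum_sum_type] at this
      simpa [gram T u hT h1 h3, Finset.sum_ite_eq', -sympBilin_apply] using this
  let τ := (finSumFinEquiv (m := n') (n := n')).symm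
  obtain ⟨A, hA'⟩ := sp_extend n' F (fam J v ∘ τ) (fam J' w ∘ τ)
    ((li J v hJ hv hvJ).comp _ τ.injective) ((li J' w hJ' hw hwJ).comp _ τ.injective) fun i j => by
      rw [← sympBilin_apply, ← sympBilin_apply]
      exact (gram J v hJ hv hvJ (τ i) (τ j)).trans (gram J' w hJ' hw hwJ (τ i) (τ j)).symm
  have hfam : ∀ x, Matrix.toLin' (A : Matrix (Fin n' ⊕ Fin n') (Fin n' ⊕ Fin n') F) (fam J v x) = fam J' w x := fun x => by
    have := hA' (τ.symm x)
    simpa using this
  refine ⟨spToGL F n' A, spToGL_mem A, fun u => ?_⟩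
  rw [spToGL_val]
  have htop : Submodule.span F (Set.range (fam J v)) = ⊤ :=
    (li J v hJ hv hvJ).span_eq_top_of_card_eq_finrank' (by rw [Module.finrank_fintype_fun_eq_card])
  refine LinearMap.congr_fun (LinearMap.ext_on_range htop (f := (Matrix.toLin' (A : Matrix (Fin n' ⊕ Fin n') (Fin n' ⊕ Fin n') F)).comp J)
    (g := J'.comp (Matrix.toLin' (A : Matrix (Fin n' ⊕ Fin n') (Fin n' ⊕ Fin n') F))) fun x => ?_) u
  rw [LinearMap.comp_apply, LinearMap.comp_apply, hfam]
  rcases x with i | i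
  · exact hfam (Sum.inr i)
  · simp only [fam, Sum.elim_inr]
    rw [hJ.sq, hJ'.sq, map_smul]
    exact congrArg _ (hfam (Sum.inl i))

end basis

section subalgebra

variable {K : Subalgebra F (Matrix (Fin d ⊕ Fin d) (Fin d ⊕ Fin d) F)}

theorem exists_skew_generator (hd : 0 < d) (h2 : (2 : F) ≠ 0) (hK : Cfsg.Geo.IsFieldSubalgebra 2 K)
    (hKf : Cfsg.Geo.IsAdjointClosedFor (Cfsg.sympForm d F) K)
    (hKns : ¬ Cfsg.Geo.IsSelfAdjointFor (Cfsg.sympForm d F) K) :
    ∃ (ν : F) (M : Md), ¬ IsSquare ν ∧ M ∈ K ∧ SkewSq ν (Matrix.toLin' M) ∧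
      ∀ k ∈ K, ∃ a b : F, k = a • (1 : Md) + b • M := by
  obtain ⟨k₀, hk₀, hns⟩ : ∃ k ∈ K, ∃ u v, Cfsg.sympForm d F (k *ᵥ u) v ≠ Cfsg.sympForm d F u (k *ᵥ v) := by
    by_contra hc
    push Not at hc
    exact hKns hc
  obtain ⟨k₁, hk₁, had⟩ := hKf k₀ hk₀
  obtain ⟨u₀, v₀, hne⟩ := hns
  set M := k₀ - k₁
  have hM : M ∈ K := K.sub_mem hk₀ hk₁
  have hadj : ∀ a b, sympBilin d F (Matrix.toLin' k₀ a) b = sympBilin d F a (Matrix.toLin' k₁ b) :=
    fun a b => had a b
  have hA := sympBilin_isAlt d F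
  have hadj' : ∀ a b, sympBilin d F (Matrix.toLin' k₁ a) b = sympBilin d F a (Matrix.toLin' k₀ b) := fun a b => by
    rw [← (LinearMap.IsAlt.neg hA b _), ← hadj, (LinearMap.IsAlt.neg hA _ a)]
  have hskew : ∀ a b, sympBilin d F (Matrix.toLin' M a) b = - sympBilin d F a (Matrix.toLin' M b) := fun a b => by
    simp only [M, map_sub, LinearMap.sub_apply, hadj, hadj']
    ring
  -- `M` is not a scalar
  have hscal : ∀ c : F, M ≠ c • (1 : Md) := fun c hc => by
    have hc0 : c = 0 := by
      by_contra hc0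
      obtain ⟨a, b, hab⟩ : ∃ a b, sympBilin d F a b ≠ 0 := by
        by_contra h
        push Not at h
        have h0 : (Pi.single (Sum.inl ⟨0, hd⟩) 1 : V) = 0 := (sympBilin_nondegenerate d F).1 _ fun v => h _ v
        simpa using congrFun h0 (Sum.inl ⟨0, hd⟩)
      have h := hskew a b
      rw [hc, map_smul, Matrix.toLin'_one] at h
      simp only [LinearMap.smul_apply, LinearMap.id_apply, map_smul, smul_eq_mul] at h
      exact hab ((mul_eq_zero.1 (show (2 : F) * (c * sympBilin d F a b) = 0 by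
        rw [two_mul]; nth_rewrite 1 [h]; exact neg_add_cancel _)).resolve_left h2 |> fun e =>
          (mul_eq_zero.1 e).resolve_left hc0)
    refine hne ?_
    rw [hc0, zero_smul, sub_eq_zero] at hc
    rw [had u₀ v₀, hc]
  -- `K = F + F M`
  have hspan : ∀ k ∈ K, ∃ a b : F, k = a • (1 : Md) + b • M := by
    haveI : Nonempty (Fin d ⊕ Fin d) := ⟨Sum.inl ⟨0, hd⟩⟩
    have h1 : LinearIndependent F ![(⟨1, K.one_mem⟩ : K), ⟨M, hM⟩] := by
      rw [LinearIndependent.pair_iff]
      intro s t hst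
      have e : s • (1 : Md) + t • M = 0 := congrArg Subtype.val hst
      by_cases ht : t = 0
      · subst ht
        rw [zero_smul, add_zero, smul_eq_zero] at e
        exact ⟨e.resolve_right one_ne_zero, rfl⟩
      · refine absurd ?_ (hscal (-(t⁻¹ * s)))
        rw [neg_smul, mul_smul, ← smul_neg, ← eq_neg_of_add_eq_zero_right e, inv_smul_smul₀ ht]
    have h3 := h1.span_eq_top_of_card_eq_finrank' (by rw [hK.finrank_eq, Fintype.card_fin])
    intro k hk
    have h4 : (⟨k, hk⟩ : K) ∈ Submodule.span F (Set.range ![(⟨1, K.one_mem⟩ : K), ⟨M, hM⟩]) :=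
      h3 ▸ Submodule.mem_top
    rw [Matrix.range_cons_cons_empty, Submodule.mem_span_pair] at h4
    obtain ⟨a, b, hab⟩ := h4
    exact ⟨a, b, (congrArg Subtype.val hab).symm⟩
  obtain ⟨ν, b, hMM⟩ := hspan (M * M) (K.mul_mem hM hM)
  obtain ⟨a₀, b₀, hab0⟩ : ∃ a b, sympBilin d F (Matrix.toLin' M a) b ≠ 0 := by
    by_contra h
    push Not at h
    refine hscal 0 ?_
    rw [zero_smul]
    refine Matrix.toLin'.injective ?_
    rw [map_zero]
    exact LinearMap.ext fun a => (sympBilin_nondegenerate d F).1 _ fun v => h a v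
  -- the square is a scalar
  have hb : b = 0 := by
    have e : ∀ a c, sympBilin d F (Matrix.toLin' (M * M) a) c = sympBilin d F a (Matrix.toLin' (M * M) c) :=
      fun a c => by rw [Matrix.toLin'_mul, LinearMap.comp_apply, LinearMap.comp_apply, hskew, hskew, neg_neg]
    have h := e a₀ b₀
    rw [hMM] at h
    simp only [map_add, map_smul, Matrix.toLin'_one, LinearMap.add_apply, LinearMap.smul_apply, LinearMap.id_apply,
      smul_eq_mul] at h
    rw [show sympBilin d F a₀ (Matrix.toLin' M b₀) = - sympBilin d F (Matrix.toLin' M a₀) b₀ by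
      rw [hskew, neg_neg]] at h
    exact (mul_eq_zero.1 ((mul_eq_zero.1 (show (2 : F) * (b * sympBilin d F (Matrix.toLin' M a₀) b₀) = 0 by
      linear_combination h)).resolve_left h2)).resolve_right hab0
  rw [hb, zero_smul, add_zero] at hMM
  refine ⟨ν, M, fun ⟨s, hs⟩ => ?_, hM, ⟨hskew, fun v => ?_⟩, hspan⟩
  · have hprod : (M - s • (1 : Md)) * (M + s • (1 : Md)) = 0 := by
      simp only [Matrix.sub_mul, Matrix.mul_add, Matrix.smul_mul, Matrix.mul_smul, Matrix.one_mul, Matrix.mul_one,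
        hMM, hs, mul_smul]
      module
    have hmem : M - s • (1 : Md) ∈ K := K.sub_mem hM (K.smul_mem K.one_mem s)
    have hmem' : M - s • (1 : Md) ≠ 0 := fun e => hscal s (sub_eq_zero.1 e)
    obtain ⟨y, hy, hyy⟩ := hK.inv _ hmem hmem'
    refine hscal (-s) ?_
    have : M + s • (1 : Md) = 0 := by
      have h := congrArg (fun A => y * A) hprod
      simp only [mul_zero, ← mul_assoc, hK.comm y hy _ hmem, hyy, one_mul] at h
      exact h
    rw [neg_smul]
    exact eq_neg_of_add_eq_zero_left this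
  · rw [← LinearMap.comp_apply, ← Matrix.toLin'_mul, hMM, map_smul, Matrix.toLin'_one]
    rfl

/-- Symplectic elements commuting or anticommuting with the generator normalise the subalgebra. -/
theorem mem_normalizer_of (M : Md) (hM : M ∈ K) (hspan : ∀ k ∈ K, ∃ a b : F, k = a • (1 : Md) + b • M)
    {g : GLd} (e : F) (he : e * e = 1) (hg : (g : Md) * M = e • (M * (g : Md))) :
    g ∈ Cfsg.Geo.subalgebraNormalizer K := by
  have key : ∀ (g : GLd), (g : Md) * M = e • (M * (g : Md)) → ∀ k ∈ K, (g : Md) * k * ((g⁻¹ : GLd) : Md) ∈ K := by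
    intro g hg k hk
    obtain ⟨a, b, rfl⟩ := hspan k hk
    have h1 : (g : Md) * (a • (1 : Md) + b • M) * ((g⁻¹ : GLd) : Md) = a • (1 : Md) + (b * e) • M := by
      rw [mul_add, Matrix.mul_smul, Matrix.mul_smul, mul_one, hg, add_mul, Matrix.smul_mul, Matrix.smul_mul,
        Matrix.smul_mul, mul_assoc, Units.mul_inv, mul_one, smul_smul]
    rw [h1]
    exact K.add_mem (K.smul_mem K.one_mem a) (K.smul_mem hM _)
  have hg' : ((g⁻¹ : GLd) : Md) * M = e • (M * ((g⁻¹ : GLd) : Md)) := by
    have h := congrArg (fun A => ((g⁻¹ : GLd) : Md) * A * ((g⁻¹ : GLd) : Md)) hg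
    simp only [Matrix.mul_smul, Matrix.smul_mul, ← mul_assoc, Units.inv_mul, one_mul] at h
    rw [mul_assoc (((g⁻¹ : GLd) : Md) * M), Units.mul_inv, mul_one] at h
    rw [h, smul_smul, he, one_smul]
  intro k
  refine ⟨key g hg k, fun h => ?_⟩
  have := key g⁻¹ hg' _ h
  rw [inv_inv, ← mul_assoc, ← mul_assoc, Units.inv_mul, one_mul, mul_assoc, Units.inv_mul, mul_one] at this
  exact this

/-- Elements of the normaliser commute or anticommute with the generator. -/
theorem normalizer_sign (h2 : (2 : F) ≠ 0) {ν : F} {M : Md} (hν : ν ≠ 0) (hM : M ∈ K)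
    (hskew : SkewSq ν (Matrix.toLin' M)) (hspan : ∀ k ∈ K, ∃ a b : F, k = a • (1 : Md) + b • M) (hd : 0 < d)
    {g : GLd} (hg : g ∈ Cfsg.spGL d F) (hgN : g ∈ Cfsg.Geo.subalgebraNormalizer K) :
    ∃ e : F, e * e = 1 ∧ ∀ v, Matrix.toLin' (g : Md) (Matrix.toLin' M v) =
      e • Matrix.toLin' M (Matrix.toLin' (g : Md) v) := by
  obtain ⟨a, b, hab⟩ := hspan _ ((hgN M).1 hM)
  have hgM : ∀ v, Matrix.toLin' (g : Md) (Matrix.toLin' M v) =
      a • Matrix.toLin' (g : Md) v + b • Matrix.toLin' M (Matrix.toLin' (g : Md) v) := fun v => by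
    have h := congrArg (fun A => A * (g : Md)) hab
    simp only [mul_assoc, Units.inv_mul, mul_one, add_mul, Matrix.smul_mul, one_mul] at h
    rw [← LinearMap.comp_apply, ← Matrix.toLin'_mul, h, map_add, map_smul, map_smul, Matrix.toLin'_mul]
    rfl
  obtain ⟨x, y, hxy⟩ : ∃ x y, sympBilin d F x y ≠ 0 := by
    by_contra h
    push Not at h
    have h0 : (Pi.single (Sum.inl ⟨0, hd⟩) 1 : V) = 0 := (sympBilin_nondegenerate d F).1 _ fun v => h _ v
    simpa using congrFun h0 (Sum.inl ⟨0, hd⟩)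
  have ha : a = 0 := by
    have h := hskew.skew x y
    rw [← spGL_iso hg (Matrix.toLin' M x) y, ← spGL_iso hg x (Matrix.toLin' M y), hgM, hgM] at h
    simp only [map_add, map_smul, LinearMap.add_apply, LinearMap.smul_apply, smul_eq_mul, hskew.skew,
      spGL_iso hg] at h
    exact (mul_eq_zero.1 ((mul_eq_zero.1 (show (2 : F) * (a * sympBilin d F x y) = 0 by
      linear_combination h)).resolve_left h2)).resolve_right hxy
  refine ⟨b, ?_, fun v => by rw [hgM, ha, zero_smul, zero_add]⟩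
  have h := congrArg (fun u => sympBilin d F u (Matrix.toLin' (g : Md) y))
    (hgM (Matrix.toLin' M x))
  simp only [hskew.sq, hgM, ha, zero_smul, zero_add, map_smul, LinearMap.smul_apply, smul_eq_mul,
    spGL_iso hg] at h
  by_contra hb
  refine hb ?_
  have h' : (b * b) * (ν * sympBilin d F x y) = 1 * (ν * sympBilin d F x y) := by linear_combination -h
  exact mul_right_cancel₀ (mul_ne_zero hν hxy) h'

end subalgebra

/-- A skew element centralised by a copy of `GU_d(q)`. -/
theorem exists_gu_hom [Fintype F] (h2 : (2 : F) ≠ 0) :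
    ∃ (L : Type) (_ : Field L) (_ : Fintype L) (η : F) (J : Module.End F V)
      (φ : ↥(Cfsg.GU d L (Fintype.card F)) →* GLd), Nat.card L = Fintype.card F ^ 2 ∧ ¬ IsSquare η ∧
      SkewSq η J ∧ Function.Injective φ ∧ ∀ c, φ c ∈ Cfsg.spGL d F ∧
        ∀ v, Matrix.toLin' (φ c : Md) (J v) = J (Matrix.toLin' (φ c : Md) v) := by
  open CfsgLib.KnownB.RestrictScalars CfsgLib.Classical.Unitary in
  obtain ⟨L, iL, fL, aL, hL⟩ := CfsgLib.FgsB.Homocyclic.exists_extension (F := F) 2 two_pos
  letI := Fintype.ofFinite L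
  haveI : Module.Finite F L := Module.finite_of_finrank_pos (by omega)
  have hK : Fintype.card L = Fintype.card F ^ 2 := by rw [Module.card_eq_pow_finrank (K := F), hL]
  have hKn : Nat.card L = Fintype.card F ^ 2 := by rw [Nat.card_eq_fintype_card, hK]
  obtain ⟨σ, hσ⟩ := exists_uFrob (F := L) hKn
  obtain ⟨θ, E, -, hE⟩ := gu_coords (m := d) hK hσ
  obtain ⟨a, ha⟩ : ∃ a, σ a ≠ a := by
    by_contra hc
    exact hσ.ne (RingHom.ext fun a => not_not.1 fun h' => hc ⟨a, h'⟩)
  set t := a - σ a with ht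
  have ht0 : t ≠ 0 := sub_ne_zero.2 (Ne.symm ha)
  have hσt : σ t = -t := by rw [ht, map_sub, hσ.invol]; ring
  obtain ⟨η, hη⟩ : ∃ η : F, algebraMap F L η = t * t := by
    have hfix : (t * t) ^ Fintype.card F = t * t := by rw [← hσ.pow, map_mul, hσt]; ring
    refine ⟨Algebra.trace F L (t * t) / 2, ?_⟩
    rw [map_div₀, trace_eq hK hσ.pow, hσ.pow, hfix, map_ofNat]
    have h2L : (2 : L) ≠ 0 := by
      rw [show (2 : L) = algebraMap F L 2 from (map_ofNat _ 2).symm]
      exact fun h => h2 ((algebraMap F L).injective (by rw [h, map_zero]))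
    field_simp
    ring
  have hsq : ¬ IsSquare η := by
    rintro ⟨s, hs⟩
    have e : (algebraMap F L s - t) * (algebraMap F L s + t) = 0 := by
      rw [hs, map_mul] at hη; linear_combination hη
    have hσs : σ (algebraMap F L s) = algebraMap F L s := by
      rw [hσ.pow, ← map_pow, FiniteField.pow_card]
    refine ht0 ?_
    have h2L : (2 : L) ≠ 0 := by
      rw [show (2 : L) = algebraMap F L 2 from (map_ofNat _ 2).symm]
      exact fun h => h2 ((algebraMap F L).injective (by rw [h, map_zero]))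
    have hfix : σ t = t := by
      rcases mul_eq_zero.1 e with e | e
      · rw [← sub_eq_zero.1 e, hσs]
      · rw [show t = -algebraMap F L s by linear_combination e, map_neg, hσs]
    rw [hσt] at hfix
    exact (mul_eq_zero.1 (show (2 : L) * t = 0 by linear_combination -hfix)).resolve_left h2L
  let J : Module.End F V := E.symm.toLinearMap ∘ₗ ((t • (LinearMap.id : (Fin d → L) →ₗ[L] (Fin d → L))).restrictScalars F) ∘ₗ E.toLinearMap
  have hJ : ∀ v, J v = E.symm (t • E v) := fun v => rfl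
  let φ₀ := matHom (guHom (F := F) d (Fintype.card F)) E
  have hφ₀ : ∀ g u, φ₀ g *ᵥ u = E.symm (guHom (F := F) d _ g (E u)) := fun g u => matHom_mulVec _ E g u
  refine ⟨L, iL, inferInstance, η, J, φ₀.toHomUnits, hKn, hsq, ⟨fun u v => ?_, fun v => ?_⟩,
    fun g h e => matHom_injective _ guHom_injective E (congrArg Units.val e :), fun g => ⟨fun u v => ?_, fun v => ?_⟩⟩
  · rw [sympBilin_apply, sympBilin_apply, hJ, hJ, ← hE, ← hE, LinearEquiv.apply_symm_apply,
      LinearEquiv.apply_symm_apply, uh_smul_left, uh_smul_right, hσt, neg_mul, mul_neg, map_neg, neg_neg]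
  · rw [hJ, hJ, LinearEquiv.apply_symm_apply, smul_smul, ← hη, algebraMap_smul, map_smul,
      LinearEquiv.symm_apply_apply]
  · change Cfsg.sympForm d F (φ₀ g *ᵥ u) (φ₀ g *ᵥ v) = _
    rw [hφ₀, hφ₀, ← hE, LinearEquiv.apply_symm_apply, LinearEquiv.apply_symm_apply, guHom_uh hσ, hE]
  · change φ₀ g *ᵥ (J v) = J (φ₀ g *ᵥ v)
    rw [hφ₀, hφ₀, hJ, hJ, LinearEquiv.apply_symm_apply, LinearEquiv.apply_symm_apply]
    exact congrArg E.symm ((glEquiv (g : GL (Fin d) L)).map_smul t (E v))

end CfsgLib.PrimeOrderSp
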