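import Cfsg.Agent.Lib.PrimeOrderSp.SelfAdjField
import Cfsg.Agent.Lib.PrimeOrderSp.SkewJ

/-!
# The groups `Sp_2(q^2)` in `Sp_4(q)`, `q` odd
-/

set_option autoImplicit false
set_option linter.style.haveILetI false

namespace CfsgLib.PrimeOrderSp.SelfAdj

open Matrix CfsgLib.Geometry CfsgLib.PrimeOrderSp

universe u

variable {F : Type u} [Field F]

theorem exists_sadj_generator {d : ℕ} {K : Subalgebra F (Matrix (Fin d ⊕ Fin d) (Fin d ⊕ Fin d) F)} (hd : 0 < d)
    (h2 : (2 : F) ≠ 0) (hK : Cfsg.Geo.IsFieldSubalgebra 2 K) :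
    ∃ (ν : F) (M : Matrix (Fin d ⊕ Fin d) (Fin d ⊕ Fin d) F), ¬ IsSquare ν ∧ M ∈ K ∧
      M * M = ν • (1 : Matrix (Fin d ⊕ Fin d) (Fin d ⊕ Fin d) F) ∧
      ∀ k ∈ K, ∃ a b : F, k = a • (1 : Matrix (Fin d ⊕ Fin d) (Fin d ⊕ Fin d) F) + b • M := by
  haveI : Nonempty (Fin d ⊕ Fin d) := ⟨Sum.inl ⟨0, hd⟩⟩
  haveI : Nontrivial K := ⟨1, 0, fun h => one_ne_zero (congrArg Subtype.val h :
      (1 : Matrix (Fin d ⊕ Fin d) (Fin d ⊕ Fin d) F) = 0)⟩
  obtain ⟨x, hx⟩ : ∃ x : K, ∀ c : F, x ≠ c • (1 : K) := by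
    by_contra hc
    push Not at hc
    have h := finrank_eq_one (R := F) (1 : K) one_ne_zero fun x => (hc x).imp fun c h => h.symm
    rw [hK.finrank_eq] at h
    omega
  have h1 : LinearIndependent F ![(1 : K), x] := by
    rw [LinearIndependent.pair_iff]
    intro s t hst
    by_cases ht : t = 0
    · subst ht
      rw [zero_smul, add_zero, smul_eq_zero] at hst
      exact ⟨hst.resolve_right one_ne_zero, rfl⟩
    · refine absurd ?_ (hx (-(t⁻¹ * s)))
      rw [neg_smul, mul_smul, eq_neg_of_add_eq_zero_left hst, smul_neg, neg_neg, inv_smul_smul₀ ht]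
  have hspan : ∀ k : K, ∃ a b : F, k = a • (1 : K) + b • x := by
    intro k
    have h3 := h1.span_eq_top_of_card_eq_finrank' (by rw [hK.finrank_eq, Fintype.card_fin])
    have h4 : k ∈ Submodule.span F (Set.range ![(1 : K), x]) := h3 ▸ Submodule.mem_top
    rw [Matrix.range_cons_cons_empty, Submodule.mem_span_pair] at h4
    obtain ⟨a, b, hab⟩ := h4
    exact ⟨a, b, hab.symm⟩
  obtain ⟨β, α, hxx⟩ := hspan (x * x)
  set ν := β + α / 2 * (α / 2)
  set M : K := x - (α / 2) • (1 : K)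
  have hMM : M * M = ν • (1 : K) := by
    simp only [M, ν, sub_mul, mul_sub, smul_mul_assoc, mul_smul_comm, one_mul, mul_one, hxx]
    have e : α = α / 2 + α / 2 := by field_simp; ring
    nth_rewrite 1 [e]
    module
  have hM : ∀ s : F, M ≠ s • (1 : K) := fun s hs => hx (s + α / 2) (by
    rw [add_smul, ← hs, sub_add_cancel])
  refine ⟨ν, (M : K), ?_, M.2, congrArg Subtype.val hMM, fun k hk => ?_⟩
  · rintro ⟨s, hs⟩
    have hprod : (M - s • (1 : K)) * (M + s • (1 : K)) = 0 := by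
      simp only [sub_mul, mul_add, smul_mul_assoc, mul_smul_comm, one_mul, mul_one, hMM, hs, mul_smul]
      module
    obtain ⟨y, hy, hyy⟩ := hK.inv _ (M - s • (1 : K)).2 fun e => hM s (sub_eq_zero.1 (Subtype.ext e))
    have hyy' : (⟨y, hy⟩ : K) * (M - s • (1 : K)) = 1 := Subtype.ext ((hK.comm y hy _ (M - s • (1 : K)).2).trans hyy)
    refine hM (-s) ?_
    have h := congrArg (fun A => (⟨y, hy⟩ : K) * A) hprod
    simp only [← mul_assoc, hyy', one_mul, mul_zero] at h
    rw [neg_smul]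
    exact eq_neg_of_add_eq_zero_left h
  · obtain ⟨a, b, h⟩ := hspan ⟨k, hk⟩
    refine ⟨a + b * (α / 2), b, ?_⟩
    have h' : (⟨k, hk⟩ : K) = (a + b * (α / 2)) • (1 : K) + b • M := by
      rw [h]; simp only [M]; module
    exact congrArg Subtype.val h'

/-- Gram relations of an adapted basis give independence. -/
theorem li_four {ν : F} (hν : ν ≠ 0) {b : Fin 4 → (Fin 2 ⊕ Fin 2 → F)}
    (h01 : sympBilin 2 F (b 0) (b 1) = 0) (h02 : sympBilin 2 F (b 0) (b 2) = 1)
    (h03 : sympBilin 2 F (b 0) (b 3) = 0) (h12 : sympBilin 2 F (b 1) (b 2) = 0)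
    (h13 : sympBilin 2 F (b 1) (b 3) = ν) (h23 : sympBilin 2 F (b 2) (b 3) = 0) : LinearIndependent F b := by
  have hA := sympBilin_isAlt 2 F
  have n := fun x y => (LinearMap.IsAlt.neg hA x y).symm
  rw [Fintype.linearIndependent_iff]
  intro g hg k
  have key : ∀ y, ∑ x, g x * sympBilin 2 F (b x) (b y) = 0 := fun y => by
    have := congrArg (fun a => sympBilin 2 F a (b y)) hg
    simpa [map_sum, LinearMap.sum_apply, -sympBilin_apply] using this
  have e0 := key 2
  have e1 := key 3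
  have e2 := key 0
  have e3 := key 1
  simp only [Fin.sum_univ_four, hA (b 0), hA (b 1), hA (b 2), hA (b 3), n (b 0) (b 1), n (b 0) (b 2), n (b 0) (b 3),
    n (b 1) (b 2), n (b 1) (b 3), n (b 2) (b 3), h01, h02, h03, h12, h13, h23, mul_zero, neg_zero, add_zero,
    zero_add, mul_one, mul_neg, neg_eq_zero] at e0 e1 e2 e3
  fin_cases k
  · exact e0
  · exact (mul_eq_zero.1 e1).resolve_right hν
  · exact e2
  · exact (mul_eq_zero.1 e3).resolve_right hν

variable {ν : F} {J J' : Module.End F (Fin 2 ⊕ Fin 2 → F)}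

theorem exists_sadj_frame (h2 : (2 : F) ≠ 0) (hν : ¬ IsSquare ν)
    (hJ : ∀ u v, sympBilin 2 F (J u) v = sympBilin 2 F u (J v)) (hsq : ∀ v, J (J v) = ν • v) :
    ∃ b : Fin 4 → (Fin 2 ⊕ Fin 2 → F), b 1 = J (b 0) ∧ b 3 = J (b 2) ∧
      sympBilin 2 F (b 0) (b 1) = 0 ∧ sympBilin 2 F (b 0) (b 2) = 1 ∧ sympBilin 2 F (b 0) (b 3) = 0 ∧
      sympBilin 2 F (b 1) (b 2) = 0 ∧ sympBilin 2 F (b 1) (b 3) = ν ∧ sympBilin 2 F (b 2) (b 3) = 0 := by
  have hA := sympBilin_isAlt 2 F
  have hself : ∀ u, sympBilin 2 F u (J u) = 0 := fun u => by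
    have h := hJ u u
    rw [← (LinearMap.IsAlt.neg hA u (J u))] at h
    exact (mul_eq_zero.1 (show (2 : F) * sympBilin 2 F u (J u) = 0 by linear_combination -h)).resolve_left h2
  set v : Fin 2 ⊕ Fin 2 → F := Pi.single (Sum.inl 0) 1 with hv
  have hv0 : v ≠ 0 := fun h => by simpa [v] using congrFun h (Sum.inl 0)
  obtain ⟨w₁, hw₁⟩ : ∃ w, sympBilin 2 F v w = 1 := by
    by_contra hc
    refine hv0 ((sympBilin_nondegenerate 2 F).1 v fun y => ?_)
    by_contra hy
    exact hc ⟨(sympBilin 2 F v y)⁻¹ • y, by rw [map_smul, smul_eq_mul, inv_mul_cancel₀ hy]⟩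
  obtain ⟨w₂, hw₂, hw₂'⟩ : ∃ w, sympBilin 2 F v w = 0 ∧ sympBilin 2 F (J v) w ≠ 0 := by
    by_contra hc
    push Not at hc
    have hJv : J v = sympBilin 2 F (J v) w₁ • v := by
      rw [← sub_eq_zero]
      refine (sympBilin_nondegenerate 2 F).1 _ fun y => ?_
      have h := hc (y - sympBilin 2 F v y • w₁) (by rw [map_sub, map_smul, smul_eq_mul, hw₁, mul_one, sub_self])
      rw [map_sub, map_smul, smul_eq_mul] at h
      rw [map_sub, map_smul, LinearMap.sub_apply, LinearMap.smul_apply, smul_eq_mul]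
      linear_combination h
    obtain ⟨c, hc'⟩ : ∃ c : F, J v = c • v := ⟨_, hJv⟩
    have h := hsq v
    rw [hc', map_smul, hc', smul_smul] at h
    exact hν ⟨_, (smul_left_injective F hv0 h).symm⟩
  set w := w₁ - (sympBilin 2 F (J v) w₁ / sympBilin 2 F (J v) w₂) • w₂ with hw
  have hvw : sympBilin 2 F v w = 1 := by rw [hw, map_sub, map_smul, hw₂, smul_zero, sub_zero, hw₁]
  have hJvw : sympBilin 2 F (J v) w = 0 := by
    rw [hw, map_sub, map_smul, smul_eq_mul, div_mul_cancel₀ _ hw₂', sub_self]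
  refine ⟨![v, J v, w, J w], rfl, rfl, hself v, hvw, ?_, hJvw, ?_, hself w⟩
  · show sympBilin 2 F v (J w) = 0
    rw [← hJ, hJvw]
  · show sympBilin 2 F (J v) (J w) = ν
    rw [← hJ, hsq, map_smul, LinearMap.smul_apply, hvw, smul_eq_mul, mul_one]

theorem sadj_conj (h2 : (2 : F) ≠ 0) (hν : ¬ IsSquare ν)
    (hJ : ∀ u v, sympBilin 2 F (J u) v = sympBilin 2 F u (J v)) (hsq : ∀ v, J (J v) = ν • v)
    (hJ' : ∀ u v, sympBilin 2 F (J' u) v = sympBilin 2 F u (J' v)) (hsq' : ∀ v, J' (J' v) = ν • v) :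
    ∃ g ∈ Cfsg.spGL 2 F, ∀ v, Matrix.toLin' (g : Matrix (Fin 2 ⊕ Fin 2) (Fin 2 ⊕ Fin 2) F) (J v) =
      J' (Matrix.toLin' (g : Matrix (Fin 2 ⊕ Fin 2) (Fin 2 ⊕ Fin 2) F) v) := by
  have hν0 : ν ≠ 0 := fun h => hν (h ▸ IsSquare.zero)
  obtain ⟨b, hb1, hb3, b01, b02, b03, b12, b13, b23⟩ := exists_sadj_frame h2 hν hJ hsq
  obtain ⟨c, hc1, hc3, c01, c02, c03, c12, c13, c23⟩ := exists_sadj_frame h2 hν hJ' hsq'
  have hlb := li_four hν0 b01 b02 b03 b12 b13 b23
  have hlc := li_four hν0 c01 c02 c03 c12 c13 c23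
  have hA := sympBilin_isAlt 2 F
  have n := fun x y => (LinearMap.IsAlt.neg hA x y).symm
  obtain ⟨A, hA'⟩ := sp_extend 2 F b c hlb hlc fun i j => by
    rw [← sympBilin_apply, ← sympBilin_apply]
    fin_cases i <;> fin_cases j <;>
      simp only [Fin.zero_eta, Fin.mk_one, Fin.reduceFinMk, hA (b 0), hA (b 1), hA (b 2), hA (b 3), hA (c 0),
        hA (c 1), hA (c 2), hA (c 3), n (b 0) (b 1), n (b 0) (b 2), n (b 0) (b 3), n (b 1) (b 2), n (b 1) (b 3),
        n (b 2) (b 3), n (c 0) (c 1), n (c 0) (c 2), n (c 0) (c 3), n (c 1) (c 2), n (c 1) (c 3), n (c 2) (c 3),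
        b01, b02, b03, b12, b13, b23, c01, c02, c03, c12, c13, c23]
  have hfam : ∀ i, Matrix.toLin' (A : Matrix (Fin 2 ⊕ Fin 2) (Fin 2 ⊕ Fin 2) F) (b i) = c i := fun i => by
    rw [Matrix.toLin'_apply, hA' i]
  refine ⟨spToGL F 2 A, spToGL_mem A, fun u => ?_⟩
  rw [spToGL_val]
  have htop : Submodule.span F (Set.range b) = ⊤ :=
    hlb.span_eq_top_of_card_eq_finrank' (by simp [Module.finrank_fintype_fun_eq_card])
  refine LinearMap.congr_fun (LinearMap.ext_on_range htop
    (f := (Matrix.toLin' (A : Matrix (Fin 2 ⊕ Fin 2) (Fin 2 ⊕ Fin 2) F)).comp J)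
    (g := J'.comp (Matrix.toLin' (A : Matrix (Fin 2 ⊕ Fin 2) (Fin 2 ⊕ Fin 2) F))) fun x => ?_) u
  rw [LinearMap.comp_apply, LinearMap.comp_apply, hfam]
  fin_cases x
  · show _ = J' (c 0)
    rw [← hc1, ← hfam 1, hb1]
    rfl
  · show Matrix.toLin' _ (J (b 1)) = J' (c 1)
    rw [hb1, hsq, hc1, hsq', map_smul, hfam]
  · show _ = J' (c 2)
    rw [← hc3, ← hfam 3, hb3]
    rfl
  · show Matrix.toLin' _ (J (b 3)) = J' (c 3)
    rw [hb3, hsq, hc3, hsq', map_smul, hfam]

variable {f : Module.End F (Fin 2 ⊕ Fin 2 → F)} {z : F}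

theorem exists_iso_vector [Finite F] (h2 : (2 : F) ≠ 0)
    (hf : ∀ u v, sympBilin 2 F (f u) (f v) = sympBilin 2 F u v) (hff : ∀ v, f (f v) = z • v) (hz : z * z = 1)
    (hns : ∀ c : F, ∃ v, f v ≠ c • v) :
    ∃ v, (∀ c : F, f v ≠ c • v) ∧ sympBilin 2 F v (f v) = 0 := by
  have hA := sympBilin_isAlt 2 F
  have n := fun x y => (LinearMap.IsAlt.neg hA x y).symm
  have hz0 : z ≠ 0 := fun e => by simp [e] at hz
  have hswap : ∀ a b, sympBilin 2 F (f a) b = z * sympBilin 2 F a (f b) := fun a b => by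
    rw [← hf (f a) b, hff, map_smul, LinearMap.smul_apply, smul_eq_mul]
  -- a vector which is no eigenvector
  obtain ⟨u, hu⟩ : ∃ u, ∀ c : F, f u ≠ c • u := by
    by_contra hc
    push Not at hc
    have h1 : ∀ a : Fin 2 ⊕ Fin 2 → F, a ≠ 0 → ∀ b, ∀ s : F, f a = s • a → f b = s • b := by
      intro a ha b s hs
      obtain ⟨t, ht⟩ := hc b
      obtain ⟨t', ht'⟩ := hc (a + b)
      rw [map_add, hs, ht, smul_add] at ht'
      by_cases hab : ∃ r : F, b = r • a
      · obtain ⟨r, rfl⟩ := hab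
        rw [map_smul, hs, smul_comm]
      push Not at hab
      by_cases hts : t = t'
      · have h : (s - t) • a = 0 := by rw [sub_smul, sub_eq_zero]; exact hts ▸ add_right_cancel (hts ▸ ht')
        rw [(sub_eq_zero.1 ((smul_eq_zero.1 h).resolve_right ha))]
        exact ht
      · refine absurd ?_ (hab ((t - t')⁻¹ * (t' - s)))
        rw [mul_smul, eq_inv_smul_iff₀ (sub_ne_zero.2 hts), sub_smul, sub_smul, sub_eq_sub_iff_add_eq_add,
          add_comm, ht']
        -- closed above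
    set a : Fin 2 ⊕ Fin 2 → F := Pi.single (Sum.inl 0) 1 with ha
    have ha0 : a ≠ 0 := fun h => by simpa [a] using congrFun h (Sum.inl 0)
    obtain ⟨s, hs⟩ := hc a
    obtain ⟨b, hb⟩ := hns s
    exact hb (h1 a ha0 b s hs)
  by_cases hq : sympBilin 2 F u (f u) = 0
  · exact ⟨u, hu, hq⟩
  -- `z = -1`
  have hz1 : z = -1 := by
    rcases mul_self_eq_one_iff.1 hz with h | h
    · refine absurd ?_ hq
      have e := hswap u u
      rw [n u (f u), h, one_mul] at e
      exact (mul_eq_zero.1 (show (2 : F) * sympBilin 2 F u (f u) = 0 by linear_combination -e)).resolve_left h2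
    · exact h
  subst hz1
  set q₀ := sympBilin 2 F u (f u) with hq₀
  have hfu : sympBilin 2 F (f u) u = -q₀ := by rw [n u (f u)]
  let π : (Fin 2 ⊕ Fin 2 → F) → (Fin 2 ⊕ Fin 2 → F) := fun y =>
    y + (sympBilin 2 F (f u) y / q₀) • u - (sympBilin 2 F u y / q₀) • f u
  have hπ : ∀ y, sympBilin 2 F u (π y) = 0 ∧ sympBilin 2 F (f u) (π y) = 0 := fun y => by
    constructor <;>
      simp only [π, map_add, map_sub, map_smul, smul_eq_mul, hA u, hA (f u), hfu, ← hq₀, mul_zero, add_zero,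
        mul_neg, div_mul_cancel₀ _ hq, sub_zero, sub_self, add_neg_cancel]
  obtain ⟨x, ⟨hx1, hx2⟩, hx⟩ : ∃ x, (sympBilin 2 F u x = 0 ∧ sympBilin 2 F (f u) x = 0) ∧ ∀ c : F, f x ≠ c • x := by
    by_contra hc
    push Not at hc
    obtain ⟨a, b, ha, hb, hab⟩ : ∃ a b, (sympBilin 2 F u a = 0 ∧ sympBilin 2 F (f u) a = 0) ∧
        (sympBilin 2 F u b = 0 ∧ sympBilin 2 F (f u) b = 0) ∧ sympBilin 2 F a b ≠ 0 := by
      by_contra hc'
      push Not at hc'
      have hzero : ∀ y, π y = 0 := fun y => (sympBilin_nondegenerate 2 F).1 _ fun y' => by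
        obtain ⟨h1, h2'⟩ := hπ y
        have h := hc' _ _ (hπ y) (hπ y')
        have hy : y' = π y' - (sympBilin 2 F (f u) y' / q₀) • u + (sympBilin 2 F u y' / q₀) • f u := by
          simp only [π]; abel
        rw [hy, map_add, map_sub, map_smul, map_smul, h, n u (π y), n (f u) (π y), h1, h2', neg_zero, smul_zero,
          smul_zero, sub_zero, add_zero]
      have hle : (⊤ : Submodule F (Fin 2 ⊕ Fin 2 → F)) ≤ Submodule.span F {u, f u} := fun y _ => by
        refine Submodule.mem_span_pair.2 ⟨-(sympBilin 2 F (f u) y / q₀), sympBilin 2 F u y / q₀, ?_⟩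
        have h : y + (sympBilin 2 F (f u) y / q₀) • u - (sympBilin 2 F u y / q₀) • f u = 0 := hzero y
        rw [neg_smul, eq_comm, ← sub_eq_zero, ← h]
        abel
      classical
      have h := (Submodule.finrank_mono hle).trans (finrank_span_le_card _)
      rw [finrank_top, Module.finrank_fintype_fun_eq_card, Set.toFinset_insert, Set.toFinset_singleton] at h
      have := (Finset.card_le_two (a := u) (b := f u))
      simp at h
      omega
    obtain ⟨s, hs⟩ := hc a ha
    obtain ⟨t, ht⟩ := hc b hb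
    obtain ⟨t', ht'⟩ := hc (a + b) ⟨by rw [map_add, ha.1, hb.1, add_zero], by rw [map_add, ha.2, hb.2, add_zero]⟩
    rw [map_add, hs, ht, smul_add] at ht'
    have e1 := congrArg (fun y => sympBilin 2 F y b) ht'
    have e2 := congrArg (fun y => sympBilin 2 F a y) ht'
    simp only [map_add, map_smul, LinearMap.add_apply, LinearMap.smul_apply, smul_eq_mul, hA a, hA b, mul_zero,
      add_zero, zero_add] at e1 e2
    have hs' : s = t' := mul_right_cancel₀ hab e1
    have ht'' : t = t' := mul_right_cancel₀ hab e2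
    have h := hf a b
    rw [hs, ht, map_smul, map_smul, LinearMap.smul_apply, smul_eq_mul, smul_eq_mul, hs', ht'', ← mul_assoc] at h
    have h1 : t' * t' = 1 := mul_right_cancel₀ hab (h.trans (one_mul _).symm)
    have ha0 : a ≠ 0 := fun e => hab (by rw [e, map_zero, LinearMap.zero_apply])
    have h3 := hff a
    rw [hs, map_smul, hs, smul_smul, hs'] at h3
    exact h2 (by linear_combination h1.symm.trans (smul_left_injective F ha0 h3))
  by_cases hc0 : sympBilin 2 F x (f x) = 0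
  · exact ⟨x, hx, hc0⟩
  obtain ⟨α, β, hαβ⟩ := exists_norm_value h2 (-1) (-(sympBilin 2 F x (f x)) / q₀) (neg_ne_zero.2 one_ne_zero)
  have hufx : sympBilin 2 F u (f x) = 0 := by
    have h := hswap u x
    rw [hx2, neg_one_mul] at h
    exact neg_eq_zero.1 h.symm
  have hfufx : sympBilin 2 F (f u) (f x) = 0 := by rw [hf, hx1]
  refine ⟨α • u + β • f u + x, fun c hc => hc0 ?_, ?_⟩
  · have h := congrArg (sympBilin 2 F x) hc
    simp only [map_add, map_smul, hff, smul_eq_mul, n u x, n (f u) x, hx1, hx2, hA x, mul_zero, neg_zero, zero_add,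
      add_zero] at h
    exact h
  · simp only [map_add, map_smul, hff, LinearMap.add_apply, LinearMap.smul_apply, smul_eq_mul, hA u, hA (f u), hfu,
      ← hq₀, hx1, hx2, n u x, n (f u) x, hufx, hfufx, mul_zero, neg_zero, add_zero, zero_add]
    have e : (α * α - -1 * (β * β)) * q₀ = -(sympBilin 2 F x (f x)) := by rw [hαβ, div_mul_cancel₀ _ hq]
    linear_combination e

theorem exists_sadj_of_sq [Finite F] (h2 : (2 : F) ≠ 0) (hν0 : ν ≠ 0)
    (hf : ∀ u v, sympBilin 2 F (f u) (f v) = sympBilin 2 F u v) (hff : ∀ v, f (f v) = z • v) (hz : z * z = 1)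
    (hns : ∀ c : F, ∃ v, f v ≠ c • v) :
    ∃ J : Module.End F (Fin 2 ⊕ Fin 2 → F), (∀ u v, sympBilin 2 F (J u) v = sympBilin 2 F u (J v)) ∧
      (∀ v, J (J v) = ν • v) ∧ ∀ v, f (J v) = (-1 : F) • J (f v) := by
  have hA := sympBilin_isAlt 2 F
  have n := fun x y => (LinearMap.IsAlt.neg hA x y).symm
  obtain ⟨v, hv, hvv⟩ := exists_iso_vector h2 hf hff hz hns
  have hz0 : z ≠ 0 := fun e => by simp [e] at hz
  have hv0 : v ≠ 0 := fun e => hv 0 (by simp [e])
  have hswap : ∀ a b, sympBilin 2 F (f a) b = z * sympBilin 2 F a (f b) := fun a b => by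
    rw [← hf (f a) b, hff, map_smul, LinearMap.smul_apply, smul_eq_mul]
  obtain ⟨w₁, hw₁⟩ : ∃ w, sympBilin 2 F v w = 1 := by
    by_contra hc
    refine hv0 ((sympBilin_nondegenerate 2 F).1 v fun y => ?_)
    by_contra hy
    exact hc ⟨(sympBilin 2 F v y)⁻¹ • y, by rw [map_smul, smul_eq_mul, inv_mul_cancel₀ hy]⟩
  obtain ⟨w₂, hw₂, hw₂'⟩ : ∃ w, sympBilin 2 F v w = 0 ∧ sympBilin 2 F (f v) w ≠ 0 := by
    by_contra hc
    push Not at hc
    refine hv (sympBilin 2 F (f v) w₁) (sub_eq_zero.1 ((sympBilin_nondegenerate 2 F).1 _ fun y => ?_))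
    have h := hc (y - sympBilin 2 F v y • w₁) (by rw [map_sub, map_smul, smul_eq_mul, hw₁, mul_one, sub_self])
    rw [map_sub, map_smul, smul_eq_mul] at h
    rw [map_sub, map_smul, LinearMap.sub_apply, LinearMap.smul_apply, smul_eq_mul]
    linear_combination h
  set w' := w₁ - (sympBilin 2 F (f v) w₁ / sympBilin 2 F (f v) w₂) • w₂ with hw'
  have hvw' : sympBilin 2 F v w' = 1 := by rw [hw', map_sub, map_smul, hw₂, smul_zero, sub_zero, hw₁]
  have hfvw' : sympBilin 2 F (f v) w' = 0 := by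
    rw [hw', map_sub, map_smul, smul_eq_mul, div_mul_cancel₀ _ hw₂', sub_self]
  have hvfw' : sympBilin 2 F v (f w') = 0 := by
    have h := hswap v w'
    rw [hfvw'] at h
    exact (mul_eq_zero.1 h.symm).resolve_left hz0
  obtain ⟨w, hvw, hfvw, hvfw, hww⟩ : ∃ w, sympBilin 2 F v w = 1 ∧ sympBilin 2 F (f v) w = 0 ∧
      sympBilin 2 F v (f w) = 0 ∧ sympBilin 2 F w (f w) = 0 := by
    rcases mul_self_eq_one_iff.1 hz with h | h
    · refine ⟨w', hvw', hfvw', hvfw', ?_⟩
      have e := hswap w' w'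
      rw [n w' (f w'), h, one_mul] at e
      exact (mul_eq_zero.1 (show (2 : F) * sympBilin 2 F w' (f w') = 0 by linear_combination -e)).resolve_left h2
    · subst h
      refine ⟨w' + (-(sympBilin 2 F w' (f w')) / 2) • f v, ?_, ?_, ?_, ?_⟩
      · rw [map_add, map_smul, hvw', hvv, smul_zero, add_zero]
      · rw [map_add, map_smul, hfvw', hA, smul_zero, add_zero]
      · rw [map_add, map_smul, hff, map_add, map_smul, map_smul, hvfw', hA, smul_zero, smul_zero, add_zero]
      · simp only [map_add, map_smul, hff, LinearMap.add_apply, LinearMap.smul_apply, smul_eq_mul, hA v,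
          n v w', n (f v) w', hvw', hfvw', hvfw', n v (f v), hvv, hf v w', mul_zero, neg_zero, add_zero]
        field_simp
        ring
  let b : Fin 4 → (Fin 2 ⊕ Fin 2 → F) := ![v, f v, w, f w]
  have h13 : sympBilin 2 F (f v) (f w) = 1 := by rw [hf, hvw]
  have hli := li_four (b := b) one_ne_zero hvv hvw hvfw hfvw h13 hww
  let B := basisOfLinearIndependentOfCardEqFinrank hli (by simp [Module.finrank_fintype_fun_eq_card])
  have hB : ∀ i, B i = b i := fun i => by simp [B]
  haveI := Fintype.ofFinite F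
  obtain ⟨p, q, hpq⟩ := exists_norm_value h2 z ν hz0
  let J : Module.End F (Fin 2 ⊕ Fin 2 → F) :=
    B.constr F ![p • v + q • f v, (-(q * z)) • v + (-p) • f v, p • w + (-(q * z)) • f w, q • w + (-p) • f w]
  have hJb : ∀ i, J (b i) = ![p • v + q • f v, (-(q * z)) • v + (-p) • f v, p • w + (-(q * z)) • f w,
      q • w + (-p) • f w] i := fun i => by rw [← hB]; exact B.constr_basis F _ i
  have e0 : J v = p • v + q • f v := hJb 0
  have e1 : J (f v) = (-(q * z)) • v + (-p) • f v := hJb 1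
  have e2 : J w = p • w + (-(q * z)) • f w := hJb 2
  have e3 : J (f w) = q • w + (-p) • f w := hJb 3
  refine ⟨J, fun x y => ?_, fun x => ?_, fun x => ?_⟩
  · have h : (sympBilin 2 F).comp J LinearMap.id = (sympBilin 2 F).comp LinearMap.id J := by
      refine LinearMap.BilinForm.ext_basis B fun i j => ?_
      rw [hB, hB]
      simp only [LinearMap.BilinForm.comp_apply, LinearMap.id_apply]
      fin_cases i <;> fin_cases j <;>
        simp only [b, Fin.zero_eta, Fin.mk_one, Fin.reduceFinMk, Matrix.cons_val, e0, e1, e2, e3, map_add, map_smul,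
          LinearMap.add_apply, LinearMap.smul_apply, smul_eq_mul, hA v, hA (f v), hA w, hA (f w), hvv, hvw, hvfw,
          hfvw, h13, hww, n v (f v), n v w, n v (f w), n (f v) w, n (f v) (f w), n w (f w), mul_zero, neg_zero,
          add_zero, zero_add] <;>
        ring
    simpa using LinearMap.congr_fun₂ h x y
  · refine LinearMap.congr_fun (B.ext (f₁ := J.comp J) (f₂ := ν • LinearMap.id) fun i => ?_) x
    rw [hB, LinearMap.comp_apply, LinearMap.smul_apply, LinearMap.id_apply, ← hpq]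
    fin_cases i <;>
      simp only [b, Fin.zero_eta, Fin.mk_one, Fin.reduceFinMk, Matrix.cons_val, e0, e1, e2, e3, map_add, map_smul,
        smul_add, smul_smul] <;>
      match_scalars <;>
      first
        | ring1
        | linear_combination (-(q * q) : F) * hz
        | linear_combination (q * q : F) * hz
  · refine LinearMap.congr_fun (B.ext (f₁ := f.comp J) (f₂ := (-1 : F) • J.comp f) fun i => ?_) x
    rw [hB, LinearMap.comp_apply, LinearMap.smul_apply, LinearMap.comp_apply]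
    fin_cases i <;>
      simp only [b, Fin.zero_eta, Fin.mk_one, Fin.reduceFinMk, Matrix.cons_val, e0, e1, e2, e3, map_add, map_smul,
        hff, smul_add, smul_smul] <;>
      match_scalars <;>
      first
        | ring1
        | linear_combination (q : F) * hz
        | linear_combination (-q : F) * hz

end CfsgLib.PrimeOrderSp.SelfAdj
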