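import Mathlib

/-!
# Semisimple isometries of symplectic and hermitian spaces

Invariant totally isotropic subspaces of the space of a semisimple isometry whose irreducible constituents
all have degree `i`.
-/

set_option autoImplicit false

namespace CfsgLib.PrimeOrderSp

open Polynomial

variable {F : Type*} [Field F] {V : Type*} [AddCommGroup V] [Module F V] {σ : F →+* F}

/-- A non-degenerate (anti)hermitian form. -/
structure IsHerm (B : V →ₗ[F] V →ₛₗ[σ] F) : Prop where
  symm : ∃ ε : F, ∀ u v, B v u = ε * σ (B u v)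
  nondeg : ∀ u, (∀ v, B u v = 0) → u = 0

variable (B : V →ₗ[F] V →ₛₗ[σ] F)

/-- Non-degenerate on a subspace. -/
def Nondeg (D : Submodule F V) : Prop := ∀ u ∈ D, (∀ v ∈ D, B u v = 0) → u = 0

/-- Totally isotropic. -/
def TI (W : Submodule F V) : Prop := ∀ u ∈ W, ∀ v ∈ W, B u v = 0

/-- The vectors orthogonal to a subspace. -/
def perp (W : Submodule F V) : Submodule F V where
  carrier := {u | ∀ w ∈ W, B u w = 0}
  add_mem' {a b} ha hb w hw := by simp [ha w hw, hb w hw]
  zero_mem' w _ := by simp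
  smul_mem' c a ha w hw := by simp [ha w hw]

/-- Invariance. -/
def Inv (f : Module.End F V) (W : Submodule F V) : Prop := ∀ v ∈ W, f v ∈ W

variable {B}

theorem mem_perp {W : Submodule F V} {u : V} : u ∈ perp B W ↔ ∀ w ∈ W, B u w = 0 := Iff.rfl

theorem IsHerm.refl (h : IsHerm B) {u v : V} (huv : B u v = 0) : B v u = 0 := by
  obtain ⟨ε, hε⟩ := h.symm
  simp [hε u v, huv]

theorem IsHerm.nondeg_top (h : IsHerm B) : Nondeg B ⊤ := fun u _ hu => h.nondeg u fun v => hu v trivial

theorem TI.mono {W W' : Submodule F V} (h : TI B W) (hle : W' ≤ W) : TI B W' :=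
  fun u hu v hv => h u (hle hu) v (hle hv)

theorem TI.sup (h : IsHerm B) {W W' : Submodule F V} (h1 : TI B W) (h2 : TI B W') (h3 : W' ≤ perp B W) :
    TI B (W ⊔ W') := by
  intro u hu v hv
  obtain ⟨a, ha, b, hb, rfl⟩ := Submodule.mem_sup.1 hu
  obtain ⟨c, hc, e, he, rfl⟩ := Submodule.mem_sup.1 hv
  simp [h1 a ha c hc, h2 b hb e he, h3 hb c hc, h.refl (h3 he a ha)]

theorem finrank_perp [Finite F] [FiniteDimensional F V] (h : IsHerm B) {D W : Submodule F V}
    (hD : Nondeg B D) (hWD : W ≤ D) :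
    Module.finrank F (perp B W ⊓ D : Submodule F V) + Module.finrank F W = Module.finrank F D := by
  classical
  let b := Module.finBasis F W
  let Φ : D →ₗ[F] (Fin (Module.finrank F W) → F) :=
    { toFun := fun u k => B (u : V) (b k : V)
      map_add' := fun u v => by ext; simp
      map_smul' := fun c u => by ext; simp }
  have hker : Module.finrank F (LinearMap.ker Φ) = Module.finrank F (perp B W ⊓ D : Submodule F V) := by
    refine (Submodule.equivMapOfInjective D.subtype D.injective_subtype (LinearMap.ker Φ)).finrank_eq.trans ?_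
    congr 2 <;>
    · ext u
      simp only [Submodule.mem_map, LinearMap.mem_ker, Submodule.mem_inf]
      constructor
      · rintro ⟨⟨u, hu⟩, hu0, rfl⟩
        refine ⟨mem_perp.2 fun w hw => ?_, hu⟩
        rw [Submodule.subtype_apply, show w = ((⟨w, hw⟩ : W) : V) from rfl, ← b.sum_repr ⟨w, hw⟩,
          Submodule.coe_sum, map_sum, Finset.sum_eq_zero]
        intro k _
        have := congrFun hu0 k
        simp only [Φ, LinearMap.coe_mk, AddHom.coe_mk, Pi.zero_apply] at this
        rw [SetLike.val_smul, map_smulₛₗ, this, smul_zero]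
      · rintro ⟨hu, huD⟩
        exact ⟨⟨u, huD⟩, funext fun k => hu _ (b k).2, rfl⟩
  have hsurj : Function.Surjective Φ := by
    rw [← LinearMap.range_eq_top]
    by_contra hne
    obtain ⟨ψ, hψ0, hψ⟩ := Submodule.exists_le_ker_of_lt_top _ (lt_top_iff_ne_top.2 hne)
    haveI : Finite F := inferInstance
    have hσ : Function.Surjective σ := Finite.injective_iff_surjective.1 σ.injective
    choose c hc using fun k => hσ (ψ (Pi.single k 1))
    let w : W := ∑ k, c k • b k
    have hw : (w : V) = 0 := by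
      refine hD (w : V) (hWD w.2) fun v hv => h.refl ?_
      have h1 : ψ (Φ ⟨v, hv⟩) = 0 := hψ ⟨_, rfl⟩
      rw [show Φ ⟨v, hv⟩ = ∑ k, B v (b k : V) • Pi.single (M := fun _ => F) k 1 from by
        ext j; simp [Φ, Pi.single_apply], map_sum] at h1
      rw [← h1]
      simp only [w, Submodule.coe_sum, map_sum, SetLike.val_smul, map_smulₛₗ, hc, smul_eq_mul, map_smul,
        RingHom.id_apply, mul_comm]
    have hc0 : ∀ k, c k = 0 := fun k =>
      Fintype.linearIndependent_iff.1 b.linearIndependent c (Subtype.ext hw) k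
    exact hψ0 (LinearMap.pi_ext' fun k => LinearMap.ext_ring (by
      simp only [LinearMap.coe_comp, Function.comp_apply, LinearMap.coe_single, LinearMap.zero_apply]
      rw [← hc k, hc0 k, map_zero]))
  rw [← hker, add_comm]
  conv_rhs => rw [← LinearMap.finrank_range_add_finrank_ker Φ]
  rw [LinearMap.range_eq_top.2 hsurj, finrank_top, Module.finrank_fintype_fun_eq_card, Fintype.card_fin]

section isometry

variable {f : Module.End F V}

theorem injective_of_iso (h : IsHerm B) (hf : ∀ u v, B (f u) (f v) = B u v) : Function.Injective f :=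
  (injective_iff_map_eq_zero f).2 fun u hu => h.nondeg u fun v => by rw [← hf, hu]; simp

theorem Inv.aeval {W : Submodule F V} (hW : Inv f W) (a : F[X]) {v : V} (hv : v ∈ W) :
    Polynomial.aeval f a v ∈ W := by
  induction a using Polynomial.induction_on' generalizing v with
  | add a b ha hb => rw [map_add, LinearMap.add_apply]; exact W.add_mem (ha hv) (hb hv)
  | monomial k c =>
    rw [aeval_monomial, Module.End.mul_apply, Module.algebraMap_end_apply]
    refine W.smul_mem c ?_
    induction k with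
    | zero => simpa using hv
    | succ k ih => rw [pow_succ', Module.End.mul_apply]; exact hW _ ih

theorem Inv.sup {W W' : Submodule F V} (h1 : Inv f W) (h2 : Inv f W') : Inv f (W ⊔ W') := fun v hv => by
  obtain ⟨a, ha, b, hb, rfl⟩ := Submodule.mem_sup.1 hv
  rw [map_add]
  exact Submodule.mem_sup.2 ⟨_, h1 a ha, _, h2 b hb, rfl⟩

theorem Inv.inf {W W' : Submodule F V} (h1 : Inv f W) (h2 : Inv f W') : Inv f (W ⊓ W') :=
  fun v hv => ⟨h1 v hv.1, h2 v hv.2⟩

theorem Inv.exists_preimage [FiniteDimensional F V] (h : IsHerm B) (hf : ∀ u v, B (f u) (f v) = B u v)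
    {W : Submodule F V} (hW : Inv f W) {w : V} (hw : w ∈ W) : ∃ w' ∈ W, f w' = w := by
  have hinj := injective_of_iso h hf
  have h1 : W.map f = W := Submodule.eq_of_le_of_finrank_le (Submodule.map_le_iff_le_comap.2 hW)
    (Submodule.equivMapOfInjective f hinj W).finrank_eq.le
  rw [← h1] at hw
  exact Submodule.mem_map.1 hw

theorem Inv.perp [FiniteDimensional F V] (h : IsHerm B) (hf : ∀ u v, B (f u) (f v) = B u v)
    {W : Submodule F V} (hW : Inv f W) : Inv f (perp B W) := fun u hu => mem_perp.2 fun w hw => by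
  obtain ⟨w', hw', rfl⟩ := hW.exists_preimage h hf hw
  rw [hf]; exact hu w' hw'

theorem exists_compl_inv (hss : f.IsSemisimple) {W W' : Submodule F V} (hW : Inv f W) (hW' : Inv f W')
    (hle : W ≤ W') : ∃ U, Inv f U ∧ U ≤ W' ∧ W ⊔ U = W' ∧ Disjoint W U := by
  obtain ⟨q, hq, hc⟩ := Module.End.isSemisimple_iff.1 hss W
    ((Module.End.mem_invtSubmodule f).2 fun v hv => hW v hv)
  refine ⟨q ⊓ W', fun v hv => ⟨(Module.End.mem_invtSubmodule f).1 hq hv.1, hW' v hv.2⟩, inf_le_right, ?_,
    hc.disjoint.mono_right inf_le_left⟩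
  rw [← sup_inf_assoc_of_le q hle, hc.sup_eq_top, top_inf_eq]

end isometry

section cyclic

variable (f : Module.End F V)

/-- `a ↦ a(f) v`. -/
noncomputable def evalAt (v : V) : F[X] →ₗ[F] V :=
  (LinearMap.applyₗ (R := F) v) ∘ₗ (Polynomial.aeval f).toLinearMap

@[simp] theorem evalAt_apply (v : V) (a : F[X]) : evalAt f v a = Polynomial.aeval f a v := rfl

/-- The cyclic subspace of a vector. -/
noncomputable def cyc (v : V) : Submodule F V := LinearMap.range (evalAt f v)

variable {f}

theorem mem_cyc_self (v : V) : v ∈ cyc f v := ⟨1, by simp⟩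

theorem cyc_inv (v : V) : Inv f (cyc f v) := by
  rintro _ ⟨a, rfl⟩
  exact ⟨X * a, by simp [Module.End.mul_apply]⟩

theorem cyc_le {W : Submodule F V} (hW : Inv f W) {v : V} (hv : v ∈ W) : cyc f v ≤ W := by
  rintro _ ⟨a, rfl⟩; exact hW.aeval a hv

variable {P : F[X]} {v : V}

theorem aeval_eq_zero_iff (hP : Irreducible P) (hv : Polynomial.aeval f P v = 0) (hv0 : v ≠ 0) (a : F[X]) :
    Polynomial.aeval f a v = 0 ↔ P ∣ a := by
  refine ⟨fun ha => ?_, fun ⟨c, hc⟩ => by rw [hc, mul_comm, map_mul, Module.End.mul_apply, hv, map_zero]⟩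
  by_contra hd
  obtain ⟨x, y, hxy⟩ := (hP.coprime_iff_not_dvd.2 hd)
  refine hv0 ?_
  calc v = Polynomial.aeval f (x * P + y * a) v := by simp [hxy]
    _ = 0 := by simp [Module.End.mul_apply, hv, ha]

theorem finrank_cyc (hP : Irreducible P) (hv : Polynomial.aeval f P v = 0) (hv0 : v ≠ 0) :
    Module.finrank F (cyc f v) = P.natDegree := by
  classical
  let g : Polynomial.degreeLT F P.natDegree →ₗ[F] V := (evalAt f v).domRestrict _
  have hrange : LinearMap.range g = cyc f v := by
    refine le_antisymm (by rintro _ ⟨a, rfl⟩; exact ⟨a.1, rfl⟩) ?_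
    rintro _ ⟨a, rfl⟩
    refine ⟨⟨a % P, ?_⟩, ?_⟩
    · rw [Polynomial.mem_degreeLT, ← Polynomial.degree_eq_natDegree hP.ne_zero]
      exact Polynomial.degree_mod_lt a hP.ne_zero
    · change Polynomial.aeval f (a % P) v = Polynomial.aeval f a v
      conv_rhs => rw [← EuclideanDomain.mod_add_div a P]
      rw [map_add, LinearMap.add_apply, (aeval_eq_zero_iff hP hv hv0 (P * (a / P))).2 (dvd_mul_right _ _),
        add_zero]
  have hinj : Function.Injective g := (injective_iff_map_eq_zero g).2 fun a ha => by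
    refine Subtype.ext (Polynomial.eq_zero_of_dvd_of_degree_lt ((aeval_eq_zero_iff hP hv hv0 a.1).1 ha) ?_)
    rw [Polynomial.degree_eq_natDegree hP.ne_zero]
    exact Polynomial.mem_degreeLT.1 a.2
  rw [← hrange, LinearMap.finrank_range_of_inj hinj,
    (Polynomial.degreeLTEquiv F P.natDegree).finrank_eq, Module.finrank_fintype_fun_eq_card, Fintype.card_fin]

theorem cyc_ne_bot (hv0 : v ≠ 0) : cyc f v ≠ ⊥ := fun h => hv0 (by
  have := mem_cyc_self (f := f) v
  rwa [h, Submodule.mem_bot] at this)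

/-- A cyclic space of an irreducible polynomial is irreducible. -/
theorem cyc_minimal (hP : Irreducible P) (hv : Polynomial.aeval f P v = 0) {W : Submodule F V} (hW : Inv f W)
    {u : V} (hu : u ∈ cyc f v) (huW : u ∈ W) (hu0 : u ≠ 0) : cyc f v ≤ W := by
  obtain ⟨a, rfl⟩ := hu
  have hd : ¬ P ∣ a := fun ⟨c, hc⟩ => hu0 (by
    simp [hc, mul_comm P c, Module.End.mul_apply, hv])
  obtain ⟨x, y, hxy⟩ := hP.coprime_iff_not_dvd.2 hd
  refine cyc_le hW ?_
  have h1 : v = Polynomial.aeval f y (Polynomial.aeval f a v) := by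
    calc v = Polynomial.aeval f (x * P + y * a) v := by simp [hxy]
      _ = _ := by simp [Module.End.mul_apply, hv]
  rw [h1]
  exact hW.aeval y huW

/-- A non-zero invariant subspace killed by a product has a vector killed by a factor. -/
theorem exists_factor (S : Finset F[X]) : ∀ {W : Submodule F V}, Inv f W → W ≠ ⊥ →
    (∀ v ∈ W, Polynomial.aeval f (∏ P ∈ S, P) v = 0) →
    ∃ P ∈ S, ∃ v ∈ W, v ≠ 0 ∧ Polynomial.aeval f P v = 0 := by
  classical
  induction S using Finset.induction_on with
  | empty =>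
    intro W _ hW0 h
    obtain ⟨v, hv, hv0⟩ := Submodule.exists_mem_ne_zero_of_ne_bot hW0
    exact absurd (by simpa using h v hv) hv0
  | insert P S hP ih =>
    intro W hW hW0 h
    by_cases hk : ∃ v ∈ W, v ≠ 0 ∧ Polynomial.aeval f P v = 0
    · exact ⟨P, Finset.mem_insert_self _ _, hk⟩
    · push Not at hk
      obtain ⟨Q, hQ, v, hv⟩ := ih hW hW0 fun v hv => by
        by_contra hne
        refine hk _ (hW.aeval _ hv) hne ?_
        rw [← Module.End.mul_apply, ← map_mul]
        have e := h v hv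
        rwa [Finset.prod_insert hP] at e
      exact ⟨Q, Finset.mem_insert_of_mem hQ, v, hv⟩

end cyclic

section structure_thms

variable {f : Module.End F V}

/-- Semisimple isometry data: a product of irreducibles of degree `i` kills the invariant space. -/
structure Killed (f : Module.End F V) (S : Finset F[X]) (i : ℕ) (D : Submodule F V) : Prop where
  irr : ∀ P ∈ S, Irreducible P
  deg : ∀ P ∈ S, P.natDegree = i
  inv : Inv f D
  kill : ∀ v ∈ D, Polynomial.aeval f (∏ P ∈ S, P) v = 0

theorem Killed.mono {S : Finset F[X]} {i : ℕ} {D D' : Submodule F V} (h : Killed f S i D) (hD' : Inv f D')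
    (hle : D' ≤ D) : Killed f S i D' :=
  ⟨h.irr, h.deg, hD', fun v hv => h.kill v (hle hv)⟩

/-- The invariant totally isotropic subspaces. -/
theorem exists_ti [Finite F] [FiniteDimensional F V] (h : IsHerm B) (hf : ∀ u v, B (f u) (f v) = B u v)
    (hss : f.IsSemisimple) (S : Finset F[X]) {i : ℕ} (t : ℕ) (D : Submodule F V) (hD : Nondeg B D)
    (hk : Killed f S i D)
    (haniso : ∀ U ≤ D, Nondeg B U → Inv f U → (∀ P ∈ S, ∀ v ∈ U, Polynomial.aeval f P v = 0 →
      TI B (cyc f v) → v = 0) → Module.finrank F U ≤ t * i) :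
    ∃ J : ℕ, Module.finrank F D ≤ (2 * J + t) * i ∧
      ∀ j ≤ J, ∃ W, W ≤ D ∧ Inv f W ∧ TI B W ∧ Module.finrank F W = j * i := by
  suffices H : ∀ (k : ℕ) (D' : Submodule F V), D' ≤ D → Module.finrank F D' ≤ k → Nondeg B D' → Inv f D' →
      ∃ J : ℕ, Module.finrank F D' ≤ (2 * J + t) * i ∧
        ∀ j ≤ J, ∃ W, W ≤ D' ∧ Inv f W ∧ TI B W ∧ Module.finrank F W = j * i from
    H _ D le_rfl le_rfl hD hk.inv
  have zero : ∀ D' : Submodule F V, ∀ j ≤ (0 : ℕ), ∃ W, W ≤ D' ∧ Inv f W ∧ TI B W ∧ Module.finrank F W = j * i :=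
    fun D' j hj => ⟨⊥, bot_le, fun v hv => by simp [(Submodule.mem_bot F).1 hv],
      fun u hu v hv => by simp [(Submodule.mem_bot F).1 hu], by simp [Nat.le_zero.1 hj]⟩
  intro k
  induction k with
  | zero => exact fun D' _ h0 _ _ => ⟨0, by omega, zero D'⟩
  | succ k ih =>
    intro D' hle hk' hD' hinv
    by_cases hA : ∃ P ∈ S, ∃ v ∈ D', Polynomial.aeval f P v = 0 ∧ TI B (cyc f v) ∧ v ≠ 0
    · obtain ⟨P, hP, v, hv, hPv, hTI, hv0⟩ := hA
      set A := cyc f v
      have hAD : A ≤ D' := cyc_le hinv hv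
      have hA' : A ≤ perp B A ⊓ D' := le_inf (fun u hu => mem_perp.2 (hTI u hu)) hAD
      have hAr : Module.finrank F A = i := (finrank_cyc (hk.irr P hP) hPv hv0).trans (hk.deg P hP)
      have hi : 0 < i := by rw [← hk.deg P hP]; exact (hk.irr P hP).natDegree_pos
      obtain ⟨U, hU, hUle, hAU, hdis⟩ := exists_compl_inv hss (cyc_inv v)
        (((cyc_inv v).perp h hf).inf hinv) hA'
      have h1 := finrank_perp h hD' hAD
      have h2 := Submodule.finrank_sup_add_finrank_inf_eq A U
      rw [hAU, hdis.eq_bot, finrank_bot, add_zero] at h2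
      replace h2 : Module.finrank F (perp B A ⊓ D' : Submodule F V) = Module.finrank F A + Module.finrank F U :=
        h2
      have hUnd : Nondeg B U := by
        intro u hu huU
        have h3 : u ∈ perp B (perp B A ⊓ D') ⊓ D' := ⟨mem_perp.2 fun w hw => by
          rw [← hAU] at hw
          obtain ⟨a, ha, b, hb, rfl⟩ := Submodule.mem_sup.1 hw
          rw [map_add, (hUle hu).1 a ha, huU b hb, add_zero], (hUle hu).2⟩
        have h4 : perp B (perp B A ⊓ D') ⊓ D' = A := by
          refine (Submodule.eq_of_le_of_finrank_le (le_inf (fun a ha => mem_perp.2 fun w hw => ?_) hAD) ?_).symm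
          · exact h.refl (hw.1 a ha)
          · have h5 := finrank_perp h hD' (inf_le_right : perp B A ⊓ D' ≤ D')
            omega
        rw [h4] at h3
        exact Submodule.disjoint_def.1 hdis u h3 hu
      obtain ⟨J, hJ, hW⟩ := ih U ((hUle.trans inf_le_right).trans hle) (by omega) hUnd hU
      refine ⟨J + 1, by rw [show (2 * (J + 1) + t) * i = (2 * J + t) * i + 2 * i by ring]; omega, fun j hj => ?_⟩
      rcases j with _ | j
      · exact zero D' 0 le_rfl
      obtain ⟨W, hWU, hWi, hWt, hWr⟩ := hW j (by omega)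
      refine ⟨A ⊔ W, sup_le hAD (hWU.trans (hUle.trans inf_le_right)), (cyc_inv v).sup hWi,
        hTI.sup h hWt (hWU.trans (hUle.trans inf_le_left)), ?_⟩
      have h6 := Submodule.finrank_sup_add_finrank_inf_eq A W
      rw [(hdis.mono_right hWU).eq_bot, finrank_bot, add_zero, hWr, hAr] at h6
      rw [h6]; ring
    · push Not at hA
      refine ⟨0, ?_, zero D'⟩
      rw [mul_zero, zero_add]
      exact haniso D' hle hD' hinv fun P hP u hu hPu hT => hA P hP u hu hPu hT

/-- Spaces without totally isotropic constituents, given that two orthogonal isomorphic ones make one. -/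
theorem finrank_aniso_le [Finite F] [FiniteDimensional F V] (h : IsHerm B) (hf : ∀ u v, B (f u) (f v) = B u v)
    (S : Finset F[X]) {i : ℕ}
    (hpair : ∀ P ∈ S, ∀ v₁ v₂, Polynomial.aeval f P v₁ = 0 → Polynomial.aeval f P v₂ = 0 →
      ¬ TI B (cyc f v₁) → ¬ TI B (cyc f v₂) → cyc f v₂ ≤ perp B (cyc f v₁) →
      ∃ v ∈ cyc f v₁ ⊔ cyc f v₂, v ≠ 0 ∧ Polynomial.aeval f P v = 0 ∧ TI B (cyc f v))
    (U : Submodule F V) (hU : Nondeg B U) (hk : Killed f S i U)
    (hani : ∀ P ∈ S, ∀ v ∈ U, Polynomial.aeval f P v = 0 → TI B (cyc f v) → v = 0) :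
    Module.finrank F U ≤ S.card * i := by
  classical
  induction S using Finset.strongInduction generalizing U with
  | H S ih =>
    by_cases h0 : U = ⊥
    · subst h0; simp
    obtain ⟨P, hP, v, hv, hv0, hPv⟩ := exists_factor S hk.inv h0 hk.kill
    have hWU : cyc f v ≤ U := cyc_le hk.inv hv
    have hnd : Nondeg B (cyc f v) := by
      intro u hu huW
      by_contra hu0
      refine hv0 (hani P hP v hv hPv ?_)
      have h1 := cyc_minimal (hk.irr P hP) hPv (((cyc_inv v).perp h hf).inf (cyc_inv v)) hu ⟨huW, hu⟩ hu0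
      exact fun a ha b hb => (h1 ha).1 b hb
    have hU' : Inv f (perp B (cyc f v) ⊓ U) := ((cyc_inv v).perp h hf).inf hk.inv
    have hsum : cyc f v ⊔ (perp B (cyc f v) ⊓ U) = U := by
      refine Submodule.eq_of_le_of_finrank_le (sup_le hWU inf_le_right) ?_
      have h2 := finrank_perp h hU hWU
      have h3 := Submodule.finrank_sup_add_finrank_inf_eq (cyc f v) (perp B (cyc f v) ⊓ U)
      rw [show cyc f v ⊓ (perp B (cyc f v) ⊓ U) = ⊥ from (Submodule.eq_bot_iff _).2 fun u hu =>
        hnd u hu.1 hu.2.1, finrank_bot, add_zero] at h3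
      omega
    have hnd' : Nondeg B (perp B (cyc f v) ⊓ U) := fun u hu hu' => hU u hu.2 fun w hw => by
      rw [← hsum] at hw
      obtain ⟨a, ha, b, hb, rfl⟩ := Submodule.mem_sup.1 hw
      rw [map_add, hu.1 a ha, hu' b hb, add_zero]
    have hkill : Killed f (S.erase P) i (perp B (cyc f v) ⊓ U) :=
      ⟨fun Q hQ => hk.irr Q (Finset.mem_of_mem_erase hQ), fun Q hQ => hk.deg Q (Finset.mem_of_mem_erase hQ),
        hU', fun u hu => by
          by_contra hne
          set w := Polynomial.aeval f (∏ Q ∈ S.erase P, Q) u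
          have hw : w ∈ perp B (cyc f v) ⊓ U := hU'.aeval _ hu
          have hPw : Polynomial.aeval f P w = 0 := by
            rw [← Module.End.mul_apply, ← map_mul, Finset.mul_prod_erase S (fun Q => Q) hP]
            exact hk.kill u hu.2
          obtain ⟨z, hz, hz0, hPz, hTI⟩ := hpair P hP v w hPv hPw
            (fun e => hv0 (hani P hP v hv hPv e)) (fun e => hne (hani P hP w hw.2 hPw e))
            ((cyc_le hU' hw).trans inf_le_left)
          exact hz0 (hani P hP z (sup_le hWU (cyc_le hk.inv hw.2) hz) hPz hTI)⟩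
    have h4 := ih _ (Finset.erase_ssubset hP)
      (fun Q hQ => hpair Q (Finset.mem_of_mem_erase hQ)) _ hnd' hkill
      fun Q hQ u hu => hani Q (Finset.mem_of_mem_erase hQ) u hu.2
    rw [Finset.card_erase_of_mem hP] at h4
    have h5 := finrank_perp h hU hWU
    rw [finrank_cyc (hk.irr P hP) hPv hv0, hk.deg P hP] at h5
    obtain ⟨c, hc⟩ : ∃ c, S.card = c + 1 := ⟨S.card - 1, by have := Finset.card_pos.2 ⟨P, hP⟩; omega⟩
    rw [hc, Nat.add_sub_cancel] at h4
    rw [hc, add_mul, one_mul]
    omega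

end structure_thms

end CfsgLib.PrimeOrderSp
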