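import Cfsg.Agent.Lib.PrimeOrderSp.TensorStab

/-!
Elements of prime order of `Sp_{2d}(q)` and the stabiliser of a decomposition of type `Sp_a ⊗ O_b`.
-/

set_option autoImplicit false
set_option linter.unusedSectionVars false

namespace CfsgLib.PrimeOrderSp.TensorRank

open Cfsg Cfsg.Geo CfsgLib.Geometry CfsgLib.Aschbacher CfsgLib.AschbacherForm
open scoped Matrix MatrixGroups Kronecker

universe u

variable {F : Type u} [Field F] [Fintype F] {d a b : ℕ}

local notation "I₂" => Fin d ⊕ Fin d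
local notation "Mat" => Matrix (Fin d ⊕ Fin d) (Fin d ⊕ Fin d) F

/-! ### The witnesses -/

theorem nonscalar_of_rank {x : Mat} (h0 : (x - 1).rank ≠ 0) (hd : (x - 1).rank ≠ 2 * d) (z : F) : x ≠ z • 1 := by
  rintro rfl
  rw [show z • (1 : Mat) - 1 = (z - 1) • 1 by rw [sub_smul, one_smul]] at h0 hd
  rcases eq_or_ne (z - 1) 0 with h | h
  · rw [h, zero_smul, Matrix.rank_zero] at h0
    exact h0 rfl
  · refine hd ?_
    rw [Matrix.rank_of_isUnit _ (by
      rw [← Algebra.algebraMap_eq_smul_one]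
      exact (isUnit_iff_ne_zero.2 h).map _), Fintype.card_sum, Fintype.card_fin, two_mul]

/-- The negative of the identity on a hyperbolic plane. -/
theorem exists_plane_inv (h2 : (2 : F) ≠ 0) (hd : 0 < d) :
    ∃ x ∈ spGL d F, ((x : GL I₂ F) : Mat) ^ 2 = 1 ∧ (((x : GL I₂ F) : Mat) - 1).rank = 2 := by
  classical
  let k : Fin d := ⟨0, hd⟩
  let s : I₂ → F := fun i => if i = Sum.inl k ∨ i = Sum.inr k then -1 else 1
  have hs : ∀ i, s i * s i = 1 := fun i => by simp only [s]; split_ifs <;> simp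
  have hsq : Matrix.diagonal s * Matrix.diagonal s = 1 := by
    rw [Matrix.diagonal_mul_diagonal, ← Matrix.diagonal_one]
    exact congrArg _ (funext hs)
  let x : GL I₂ F := ⟨Matrix.diagonal s, Matrix.diagonal s, hsq, hsq⟩
  refine ⟨x, fun u v => ?_, by rw [pow_two]; exact hsq, ?_⟩
  · show sympForm d F (Matrix.diagonal s *ᵥ u) (Matrix.diagonal s *ᵥ v) = sympForm d F u v
    rw [sympForm_eq, sympForm_eq]
    refine Finset.sum_congr rfl fun i _ => ?_
    have h : s (Sum.inl i) = s (Sum.inr i) := by simp [s]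
    simp only [Matrix.mulVec_diagonal, h]
    linear_combination (u (Sum.inr i) * v (Sum.inl i) - u (Sum.inl i) * v (Sum.inr i)) * hs (Sum.inr i)
  · show (Matrix.diagonal s - 1).rank = 2
    rw [← Matrix.diagonal_one, Matrix.diagonal_sub, Matrix.rank_diagonal, Fintype.card_subtype,
      show (Finset.univ.filter fun i => s i - 1 ≠ 0) = {Sum.inl k, Sum.inr k} by
        ext i
        simp only [s, Finset.mem_filter, Finset.mem_univ, true_and, Finset.mem_insert, Finset.mem_singleton]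
        split_ifs with hi
        · simpa [hi] using fun e : (-1 - 1 : F) = 0 => h2 (by linear_combination -e)
        · simp [hi], Finset.card_pair (by simp)]

/-- A transvection. -/
theorem exists_transvection {p : ℕ} [CharP F p] (hd : 0 < d) :
    ∃ x ∈ spGL d F, ((x : GL I₂ F) : Mat) ^ p = 1 ∧ (((x : GL I₂ F) : Mat) - 1).rank = 1 := by
  classical
  let k : Fin d := ⟨0, hd⟩
  obtain ⟨N, hNdef⟩ : ∃ N : Mat, N = Matrix.single (Sum.inl k) (Sum.inr k) 1 := ⟨_, rfl⟩
  have hN : N * N = 0 := hNdef ▸ Matrix.single_mul_single_of_ne _ _ _ _ (by simp) _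
  let x : GL I₂ F := ⟨1 + N, 1 - N, by rw [mul_sub, mul_one, add_mul, one_mul, hN]; abel,
    by rw [mul_add, mul_one, sub_mul, one_mul, hN]; abel⟩
  have hpow : ∀ j : ℕ, (1 + N) ^ j = 1 + j • N := fun j => by
    induction j with
    | zero => simp
    | succ j ih => rw [pow_succ, ih, mul_add, mul_one, add_mul, one_mul, smul_mul_assoc, hN, smul_zero,
        add_zero, succ_nsmul, add_assoc]
  have hNv : ∀ w : I₂ → F, N *ᵥ w = Pi.single (Sum.inl k) (w (Sum.inr k)) := fun w => by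
    funext i
    by_cases hi : i = Sum.inl k
    · subst hi; simp [hNdef, Matrix.mulVec, dotProduct, Matrix.single_apply]
    · simp [hNdef, Matrix.mulVec, dotProduct, Matrix.single_apply, hi, Ne.symm hi]
  refine ⟨x, fun u v => ?_, ?_, ?_⟩
  · rw [show glToMat (Fin d ⊕ Fin d) F x = 1 + N from rfl]
    rw [Matrix.add_mulVec, Matrix.add_mulVec, Matrix.one_mulVec, Matrix.one_mulVec, hNv, hNv, sympForm_eq, sympForm_eq]
    refine Finset.sum_congr rfl fun i _ => ?_
    by_cases hi : i = k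
    · subst hi; simp; ring
    · simp [hi]
  · show (1 + N) ^ p = 1
    rw [hpow, ← Nat.cast_smul_eq_nsmul F, CharP.cast_eq_zero, zero_smul, add_zero]
  · show (1 + N - 1).rank = 1
    rw [add_sub_cancel_left]
    refine le_antisymm ?_ (Nat.pos_of_ne_zero fun h0 => ?_)
    · rw [show N = Matrix.diagonal (Pi.single (Sum.inl k) 1 : I₂ → F) * N by
        ext i j; by_cases hi : i = Sum.inl k <;> simp [hNdef, Matrix.diagonal_mul, Matrix.single_apply, hi]
        exact fun e => absurd e.symm hi]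
      refine (Matrix.rank_mul_le_left _ _).trans (le_of_eq ?_)
      rw [Matrix.rank_diagonal, Fintype.card_subtype]
      simp [Pi.single_apply, Finset.filter_eq']
    · rw [Matrix.rank, Submodule.finrank_eq_zero, LinearMap.range_eq_bot] at h0
      have h := congrFun (LinearMap.congr_fun h0 (Pi.single (Sum.inr k) 1)) (Sum.inl k)
      rw [Matrix.mulVecLin_apply, hNv] at h
      simp at h

/-! ### The models -/

theorem gram_symp {n : ℕ} {f : (Fin n → F) → (Fin n → F) → F} (hf : IsSymplecticForm f) :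
    IsUnit (gramMatrix f) ∧ (gramMatrix f)ᵀ = (-1 : F) • gramMatrix f := by
  refine ⟨isUnit_of_nondeg (RingEquiv.refl F) (bilinear_eq_gram hf.bilinear ▸ hf.nondegenerate), Matrix.ext fun i j => ?_⟩
  simp only [Matrix.transpose_apply, Matrix.smul_apply, gramMatrix, smul_eq_mul, neg_one_mul]
  exact hf.skew _ _

theorem gram_symm {n : ℕ} {f : (Fin n → F) → (Fin n → F) → F} (hf : IsSymmetricForm f) :
    IsUnit (gramMatrix f) ∧ (gramMatrix f)ᵀ = (1 : F) • gramMatrix f := by
  refine ⟨isUnit_of_nondeg (RingEquiv.refl F) (bilinear_eq_gram hf.bilinear ▸ hf.nondegenerate), ?_⟩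
  rw [one_smul]
  exact Matrix.ext fun i j => hf.symm _ _

variable {e : (Fin d ⊕ Fin d) ≃ Fin a × Fin b} {P : GL (Fin d ⊕ Fin d) F}
variable {f₁ : (Fin a → F) → (Fin a → F) → F} {f₂ : (Fin b → F) → (Fin b → F) → F}

/-- A pair of isometries gives an element of the stabiliser. -/
theorem exists_model (hS : IsTensorFormStructure id (sympForm d F) f₁ f₂ e P) (A : GL (Fin a) F) (B : GL (Fin b) F)
    (hA : (A : Matrix (Fin a) (Fin a) F)ᵀ * gramMatrix f₁ * (A : Matrix (Fin a) (Fin a) F) = gramMatrix f₁)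
    (hB : (B : Matrix (Fin b) (Fin b) F)ᵀ * gramMatrix f₂ * (B : Matrix (Fin b) (Fin b) F) = gramMatrix f₂) :
    ∃ g, g ∈ tensorProductSubgroup a b e P ∧ g ∈ spGL d F ∧
      _root_.IsConj (Matrix.reindexAlgEquiv F F e.symm
        ((A : Matrix (Fin a) (Fin a) F) ⊗ₖ (B : Matrix (Fin b) (Fin b) F))) ((g : GL I₂ F) : Mat) := by
  classical
  obtain ⟨c, -, hc⟩ := hS
  set K := (A : Matrix (Fin a) (Fin a) F) ⊗ₖ (B : Matrix (Fin b) (Fin b) F) with hK
  let R : GL I₂ F := glReindex e.symm (kronGL A B)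
  have hR : (R : Mat) = K.submatrix e e := by
    show Matrix.reindexAlgEquiv F F e.symm _ = _
    rw [kronGL_val]
    ext i j
    rfl
  refine ⟨P * R * P⁻¹, ⟨R, ⟨kronGL A B, ⟨A, B, kronGL_val A B⟩, rfl⟩, rfl⟩, fun u v => ?_, ⟨P, ?_⟩⟩
  · have hu : ∀ w : I₂ → F, ∃ x : Fin a × Fin b → F, w = (P : Mat) *ᵥ (x ∘ e) := fun w =>
      ⟨(((P⁻¹ : GL I₂ F) : Mat) *ᵥ w) ∘ e.symm, by
        rw [Function.comp_assoc, Equiv.symm_comp_self, Function.comp_id, Matrix.mulVec_mulVec, Units.mul_inv,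
          Matrix.one_mulVec]⟩
    obtain ⟨x, rfl⟩ := hu u
    obtain ⟨y, rfl⟩ := hu v
    have h : ∀ x : Fin a × Fin b → F, ((P * R * P⁻¹ : GL I₂ F) : Mat) *ᵥ ((P : Mat) *ᵥ (x ∘ e)) =
        (P : Mat) *ᵥ ((K *ᵥ x) ∘ e) := fun x => by
      rw [Matrix.mulVec_mulVec, ← Units.val_mul, inv_mul_cancel_right, Units.val_mul, ← Matrix.mulVec_mulVec, hR,
        Matrix.submatrix_mulVec_equiv, Function.comp_assoc, Equiv.self_comp_symm, Function.comp_id]
    show sympForm d F (((P * R * P⁻¹ : GL I₂ F) : Mat) *ᵥ _) (((P * R * P⁻¹ : GL I₂ F) : Mat) *ᵥ _) = _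
    rw [h, h, hc, hc]
    congr 1
    show formOfGram (RingEquiv.refl F) _ _ _ = formOfGram (RingEquiv.refl F) _ _ _
    rw [formOfGram_mulVec, show K.map (RingEquiv.refl F) = K by ext; rfl, hK, ← Matrix.kroneckerMap_transpose,
      ← Matrix.mul_kronecker_mul, ← Matrix.mul_kronecker_mul, hA, hB]
  · show (P : Mat) * _ = ((P * R * P⁻¹ : GL I₂ F) : Mat) * (P : Mat)
    rw [← Units.val_mul (P * R * P⁻¹) P, inv_mul_cancel_right, Units.val_mul, hR]
    rfl

/-- An orthogonal basis. -/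
theorem exists_orth {n : ℕ} (h2 : (2 : F) ≠ 0) {f : (Fin n → F) → (Fin n → F) → F} (hf : IsSymmetricForm f) :
    ∃ (U : GL (Fin n) F) (g : Fin n → F),
      (U : Matrix (Fin n) (Fin n) F)ᵀ * gramMatrix f * (U : Matrix (Fin n) (Fin n) F) = Matrix.diagonal g := by
  classical
  haveI : Invertible (2 : F) := invertibleOfNonzero h2
  let B : LinearMap.BilinForm F (Fin n → F) := LinearMap.mk₂ F f hf.bilinear.add_left hf.bilinear.smul_left
    hf.bilinear.add_right hf.bilinear.smul_right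
  obtain ⟨v, hv⟩ := LinearMap.BilinForm.exists_orthogonal_basis (B := B) ⟨fun x y => hf.symm x y⟩
  let w := v.reindex (finCongr (Module.finrank_fin_fun F))
  have horth : ∀ i j, i ≠ j → f (w i) (w j) = 0 := fun i j hij => by
    simp only [w, Module.Basis.reindex_apply]
    exact hv fun e => hij ((finCongr (Module.finrank_fin_fun F)).symm.injective e)
  let M : Matrix (Fin n) (Fin n) F := Matrix.of fun a i => w i a
  have hM : IsUnit M := Matrix.linearIndependent_cols_iff_isUnit.1 w.linearIndependent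
  refine ⟨hM.unit, fun i => f (w i) (w i), Matrix.ext fun i j => ?_⟩
  have e1 : (Mᵀ * gramMatrix f * M) i j = f (w i) (w j) := by
    conv_rhs => rw [bilinear_eq_gram hf.bilinear]
    simp only [Matrix.mul_apply, Matrix.transpose_apply, M, Matrix.of_apply, formOfGram, RingEquiv.refl_apply,
      Finset.sum_mul]
    exact Finset.sum_comm
  rw [IsUnit.unit_spec, e1, Matrix.diagonal_apply]
  split_ifs with h
  · rw [h]
  · exact horth i j h

end CfsgLib.PrimeOrderSp.TensorRank

namespace CfsgLib.PrimeOrderSp.TensorRank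

open Cfsg Cfsg.Geo CfsgLib.Geometry CfsgLib.Aschbacher CfsgLib.AschbacherForm
open scoped Matrix MatrixGroups Kronecker

universe u

variable {F : Type u} [Field F] [Fintype F] {b : ℕ}

local notation "I₂" => Fin b ⊕ Fin b
local notation "Mat" => Matrix (Fin b ⊕ Fin b) (Fin b ⊕ Fin b) F

variable {e : (Fin b ⊕ Fin b) ≃ Fin 2 × Fin b}

/-- An element with square `-1` is the model `J ⊗ 1`. -/
theorem isConj_neg (h2 : (2 : F) ≠ 0) (hb : 0 < b) (x : Matrix.symplecticGroup (Fin b) F)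
    (hx : ((x ^ 2 : Matrix.symplecticGroup (Fin b) F) : Mat) = (-1 : F) • 1) :
    _root_.IsConj (Matrix.reindexAlgEquiv F F e.symm
      ((!![0, -1; 1, 0] : Matrix (Fin 2) (Fin 2) F) ⊗ₖ (1 : Matrix (Fin b) (Fin b) F))) (x : Mat) := by
  classical
  obtain ⟨-, ⟨S⟩⟩ := exists_planeSys_sp hb x hx
  set f := Matrix.toLin' (x : Mat) with hf
  set B := sympBilin b F
  have hff : ∀ v, f (f v) = -v := fun v => by
    rw [SubmonoidClass.coe_pow] at hx
    rw [hf, ← LinearMap.comp_apply, ← Matrix.toLin'_mul, ← pow_two, hx, Matrix.toLin'_apply,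
      Matrix.smul_mulVec, Matrix.one_mulVec, neg_one_smul]
  have hfix : ∀ i, S.perm i = i → f (S.a i) = S.b i ∧ f (S.b i) = (-1 : F) • S.a i := by
    intro i hi
    rcases S.kind i with ⟨c, h1, h3⟩ | ⟨-, h1, h3⟩
    · exfalso
      rw [hi] at h1 h3
      have e1 := iso_toLin' x (S.a i) (S.b i)
      rw [← hf, h1, h3, map_smul, map_smul, LinearMap.smul_apply, smul_eq_mul, smul_eq_mul, ← mul_assoc] at e1
      have hcc : c * c = 1 := (mul_eq_right₀ (S.pair i)).1 e1
      have e2 := hff (S.a i)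
      rw [h1, map_smul, h1, smul_smul, hcc, one_smul] at e2
      have ha : (2 : F) • S.a i = 0 := by rw [two_smul]; exact add_eq_zero_iff_eq_neg.2 e2
      refine S.pair i ?_
      rw [(smul_eq_zero.1 ha).resolve_left h2, map_zero, LinearMap.zero_apply]
    · exact ⟨h1, h3⟩
  have hmove : ∀ i, S.perm i ≠ i → ∃ c : F, c ≠ 0 ∧ f (S.a i) = c • S.a (S.perm i) ∧ f (S.b i) = c • S.b (S.perm i) := by
    intro i hi
    obtain ⟨c, h1, h3⟩ := (S.kind i).resolve_right fun h => hi h.1
    refine ⟨c, fun hc => S.pair i ?_, h1, h3⟩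
    rw [← iso_toLin' x (S.a i) (S.b i), ← hf, h1, hc, zero_smul, map_zero, LinearMap.zero_apply]
  let v : Fin b → (I₂ → F) := fun i => if (i : ℕ) ≤ (S.perm i : ℕ) then S.a i else S.b (S.perm i)
  let w : Fin 2 × Fin b → (I₂ → F) := fun l => if l.1 = 0 then v l.2 else f (v l.2)
  have hv : ∀ i, v i ∈ Submodule.span F (Set.range w) := fun i => Submodule.subset_span ⟨(0, i), by simp [w]⟩
  have hfv : ∀ i, f (v i) ∈ Submodule.span F (Set.range w) := fun i => Submodule.subset_span ⟨(1, i), by simp [w]⟩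
  have hspan : ⊤ ≤ Submodule.span F (Set.range w) := by
    refine S.span.trans (Submodule.span_le.2 ?_)
    have step : ∀ i, S.a i ∈ Submodule.span F (Set.range w) ∧ S.b i ∈ Submodule.span F (Set.range w) := by
      intro i
      by_cases hi : S.perm i = i
      · obtain ⟨h1, -⟩ := hfix i hi
        have e1 : v i = S.a i := by simp [v, hi]
        exact ⟨e1 ▸ hv i, h1 ▸ e1 ▸ hfv i⟩
      have hij : (S.perm i : ℕ) ≠ (i : ℕ) := fun e => hi (Fin.ext e)
      rcases Nat.lt_or_gt_of_ne hij with hlt | hgt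
      · -- the partner comes first
        have hj : S.perm (S.perm i) = i := S.invol i
        obtain ⟨c, hc, h1, -⟩ := hmove (S.perm i) (by rw [hj]; exact fun e => hi e.symm)
        obtain ⟨c', hc', -, h3⟩ := hmove (S.perm i) (by rw [hj]; exact fun e => hi e.symm)
        rw [hj] at h1 h3
        have e1 : v i = S.b (S.perm i) := if_neg (Nat.not_le.2 hlt)
        have e2 : v (S.perm i) = S.a (S.perm i) := if_pos (by rw [hj]; exact hlt.le)
        refine ⟨(Submodule.smul_mem_iff _ hc).1 ?_, (Submodule.smul_mem_iff _ hc').1 ?_⟩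
        · rw [← h1, ← e2]; exact hfv _
        · rw [← h3, ← e1]; exact hfv _
      · have hj : S.perm (S.perm i) = i := S.invol i
        have e1 : v i = S.a i := if_pos hgt.le
        have e2 : v (S.perm i) = S.b i := (if_neg (by rw [hj]; exact Nat.not_le.2 hgt)).trans (by rw [hj])
        exact ⟨e1 ▸ hv i, e2 ▸ hv (S.perm i)⟩
    rintro _ (⟨i, rfl⟩ | ⟨i, rfl⟩)
    exacts [(step i).1, (step i).2]
  refine isConj_of_family e w hspan (x : Mat) _ fun l => ?_
  obtain ⟨t, i⟩ := l
  rw [← Matrix.toLin'_apply, ← hf]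
  fin_cases t <;>
    simp [w, hff, Fintype.sum_prod_type, Fin.sum_univ_two, Matrix.one_apply, ite_smul, Finset.sum_ite_eq']

/-- An involution is the model `1 ⊗ diag(±1)`. -/
theorem isConj_one (h2 : (2 : F) ≠ 0) (x : Matrix.symplecticGroup (Fin b) F)
    (hx : ((x ^ 2 : Matrix.symplecticGroup (Fin b) F) : Mat) = 1) :
    ∃ s : Fin b → F, (∀ j, s j * s j = 1) ∧
      _root_.IsConj (Matrix.reindexAlgEquiv F F e.symm
        ((1 : Matrix (Fin 2) (Fin 2) F) ⊗ₖ Matrix.diagonal s)) (x : Mat) := by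
  classical
  set f := Matrix.toLin' (x : Mat) with hf
  have hr : ((2 : ℕ) : F) ≠ 0 := by simpa using h2
  have hfr : f ^ 2 = 1 := by
    rw [hf, ← pow_apply_toLin', ← SubmonoidClass.coe_pow, hx, Matrix.toLin'_one, Module.End.one_eq_id]
  have hA := sympBilin_isAlt b F
  have hc := isCompl_fix_mov hr hfr
  obtain ⟨m, hm⟩ := even_finrank hA (nondeg_movSp hr hfr sympHerm (iso_toLin' x))
  have htot := Submodule.finrank_add_eq_of_isCompl hc
  rw [Module.finrank_fintype_fun_eq_card, Fintype.card_sum, Fintype.card_fin, hm] at htot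
  let s : Fin b → F := fun j => if (j : ℕ) < m then -1 else 1
  refine ⟨s, fun j => by simp only [s]; split_ifs <;> simp, ?_⟩
  let T := {l : Fin 2 × Fin b // (l.2 : ℕ) < m}
  let T' := {l : Fin 2 × Fin b // ¬ (l.2 : ℕ) < m}
  have hT : Fintype.card T = 2 * m := by
    have h1 : T ≃ Fin 2 × Fin m :=
      { toFun := fun l => (l.1.1, ⟨l.1.2, l.2⟩)
        invFun := fun l => ⟨(l.1, ⟨l.2, by omega⟩), l.2.2⟩
        left_inv := fun l => rfl
        right_inv := fun l => rfl }
    rw [Fintype.card_congr h1, Fintype.card_prod, Fintype.card_fin, Fintype.card_fin]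
  have hT' : Fintype.card T' = Fintype.card (Fin 2 × Fin b) - Fintype.card T := Fintype.card_subtype_compl _
  rw [hT, Fintype.card_prod, Fintype.card_fin, Fintype.card_fin] at hT'
  let bm := (Module.finBasisOfFinrankEq F (movSp f) (show _ = 2 * m by omega)).reindex
    (Fintype.equivFinOfCardEq hT).symm
  let bf := (Module.finBasisOfFinrankEq F (fixSp f) (show _ = 2 * b - 2 * m by omega)).reindex
    (Fintype.equivFinOfCardEq hT').symm
  let bv := ((bm.prod bf).map (Submodule.prodEquivOfIsCompl _ _ hc.symm)).reindex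
    (Equiv.sumCompl fun l : Fin 2 × Fin b => (l.2 : ℕ) < m)
  have hmovneg : ∀ v ∈ movSp f, f v = -v := by
    rintro _ ⟨u, rfl⟩
    have h := LinearMap.congr_fun hfr u
    rw [pow_two, Module.End.mul_apply, Module.End.one_apply] at h
    simp only [LinearMap.sub_apply, Module.End.one_apply, map_sub, h, neg_sub]
  refine isConj_of_family e bv bv.span_eq.ge (x : Mat) _ fun l => ?_
  rw [← Matrix.toLin'_apply, ← hf, Finset.sum_eq_single l (fun k _ hk => by
      rw [← Matrix.diagonal_one, Matrix.diagonal_kronecker_diagonal, Matrix.diagonal_apply_ne _ hk, zero_smul])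
    (by simp), ← Matrix.diagonal_one, Matrix.diagonal_kronecker_diagonal, Matrix.diagonal_apply_eq, one_mul]
  by_cases hl : (l.2 : ℕ) < m
  · rw [show s l.2 = -1 from if_pos hl, neg_one_smul]
    refine hmovneg _ ?_
    have el := (Equiv.symm_apply_eq (Equiv.sumCompl fun l : Fin 2 × Fin b => (l.2 : ℕ) < m)).2
      (show l = Equiv.sumCompl _ (Sum.inl ⟨l, hl⟩) from rfl)
    simp [bv, el]
  · rw [show s l.2 = 1 from if_neg hl, one_smul]
    refine mem_fixSp.1 ?_
    have el := (Equiv.symm_apply_eq (Equiv.sumCompl fun l : Fin 2 × Fin b => (l.2 : ℕ) < m)).2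
      (show l = Equiv.sumCompl _ (Sum.inr ⟨l, hl⟩) from rfl)
    simp [bv, el]

end CfsgLib.PrimeOrderSp.TensorRank

namespace CfsgLib.PrimeOrderSp.TensorRank

open Cfsg Cfsg.Geo CfsgLib.Geometry CfsgLib.Aschbacher CfsgLib.AschbacherForm
open scoped Matrix MatrixGroups Kronecker

universe u

variable {F : Type u} [Field F] [Fintype F]

/-- The criterion. -/
theorem criterion {p : ℕ} [Fact p.Prime] [CharP F p] (h2 : (2 : F) ≠ 0) (d a b : ℕ) (hab : 2 * d = a * b)
    (ha : Even a) (ha2 : 2 ≤ a) (hb : 3 ≤ b) (e : (Fin d ⊕ Fin d) ≃ Fin a × Fin b) (P : GL (Fin d ⊕ Fin d) F)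
    (f₁ : (Fin a → F) → (Fin a → F) → F) (f₂ : (Fin b → F) → (Fin b → F) → F)
    (hf₁ : IsSymplecticForm f₁) (hf₂ : IsSymmetricForm f₂)
    (hS : IsTensorFormStructure id (sympForm d F) f₁ f₂ e P)
    (r : ℕ) [Fact r.Prime] (hΩ : r ∣ (tensorProductSubgroup a b e P).relIndex (spGL d F)) :
    (∀ x ∈ spGL d F, (∃ z : F, ((x ^ r : GL (Fin d ⊕ Fin d) F) : Matrix (Fin d ⊕ Fin d) (Fin d ⊕ Fin d) F) =
        z • (1 : Matrix (Fin d ⊕ Fin d) (Fin d ⊕ Fin d) F)) →
      (∀ z : F, (x : Matrix (Fin d ⊕ Fin d) (Fin d ⊕ Fin d) F) ≠ z • (1 : Matrix (Fin d ⊕ Fin d) (Fin d ⊕ Fin d) F)) →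
      ∃ g ∈ spGL d F, g⁻¹ * x * g ∈ tensorProductSubgroup a b e P) ↔ (r = 2 ∧ a = 2) := by
  classical
  have hd : 0 < d := by
    rcases Nat.eq_zero_or_pos d with h0 | h0
    · subst h0; have := Nat.mul_le_mul ha2 hb; omega
    · exact h0
  have hd3 : 6 ≤ 2 * d := hab ▸ Nat.mul_le_mul ha2 hb
  obtain ⟨hG₁, hG₁t⟩ := gram_symp hf₁
  obtain ⟨hG₂, hG₂t⟩ := gram_symm hf₂
  constructor
  · intro hall
    have test : ∀ x ∈ spGL d F, (x : Matrix (Fin d ⊕ Fin d) (Fin d ⊕ Fin d) F) ^ r = 1 →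
        (∀ z : F, (x : Matrix (Fin d ⊕ Fin d) (Fin d ⊕ Fin d) F) ≠ z • 1) →
        ∃ (A : GL (Fin a) F) (B : GL (Fin b) F) (β : F),
          (B : Matrix (Fin b) (Fin b) F)ᵀ * gramMatrix f₂ * (B : Matrix (Fin b) (Fin b) F) = β • gramMatrix f₂ ∧
          β • ((A : Matrix (Fin a) (Fin a) F)ᵀ * gramMatrix f₁ * (A : Matrix (Fin a) (Fin a) F)) = gramMatrix f₁ ∧
          ((A : Matrix (Fin a) (Fin a) F) ⊗ₖ (B : Matrix (Fin b) (Fin b) F)) ^ r = 1 ∧
          ((A : Matrix (Fin a) (Fin a) F) ⊗ₖ (B : Matrix (Fin b) (Fin b) F) - 1).rank =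
            ((x : Matrix (Fin d ⊕ Fin d) (Fin d ⊕ Fin d) F) - 1).rank := by
      intro x hx hxr hns
      obtain ⟨g, hg, hgH⟩ := hall x hx ⟨1, by rw [Units.val_pow_eq_pow_val, hxr, one_smul]⟩ hns
      obtain ⟨A, B, β, -, hAB, hB, hA⟩ := Cases.tensor_coord_data hf₁ hf₂ (by omega) (by omega) hS hgH
        (mul_mem (mul_mem (inv_mem hg) hx) hg)
      refine ⟨A, B, β, hB, hA, ?_, ?_⟩
      · have h : (g⁻¹ * x * g) ^ r = 1 := by
          rw [show g⁻¹ * x * g = g⁻¹ * x * g⁻¹⁻¹ by rw [inv_inv], conj_pow,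
            show x ^ r = 1 from Units.ext (by rw [Units.val_pow_eq_pow_val, hxr, Units.val_one]), mul_one,
            mul_inv_cancel]
        rw [← hAB, ← map_pow, ← Units.val_pow_eq_pow_val, h, Units.val_one, map_one]
      · rw [← hAB, rank_coordR, rank_conj]
    have hr' : (r : F) = 0 ∨ (r : F) ≠ 0 := eq_or_ne _ _
    rcases eq_or_ne r 2 with rfl | hr2
    · refine ⟨rfl, ?_⟩
      obtain ⟨x, hx, hxr, hR⟩ := exists_plane_inv (F := F) h2 hd
      obtain ⟨A, B, β, -, -, -, hR'⟩ := test x hx hxr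
        (nonscalar_of_rank (by rw [hR]; omega) (by rw [hR]; omega))
      rw [hR] at hR'
      exact (two_of_rank_le ha2 hb (by rw [hR']; omega) (hR'.le.trans (by omega))).1
    exfalso
    rcases hr' with hr | hr
    · obtain rfl : r = p := ((Nat.prime_dvd_prime_iff_eq Fact.out Fact.out).1 ((CharP.cast_eq_zero_iff F p r).1 hr)).symm
      obtain ⟨x, hx, hxr, hR⟩ := exists_transvection (F := F) (p := r) hd
      obtain ⟨A, B, β, -, -, -, hR'⟩ := test x hx hxr
        (nonscalar_of_rank (by rw [hR]; omega) (by rw [hR]; omega))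
      rw [hR] at hR'
      have h := two_of_rank_le ha2 hb (by rw [hR']; omega) (hR'.le.trans (by omega))
      omega
    · have hro : Odd r := (Fact.out : r.Prime).odd_of_ne_two hr2
      obtain ⟨x, hx, hxr, hR⟩ := exists_witness h2 hr hro
        (modulus_le h2 hr hro (hΩ.trans (Subgroup.relIndex_dvd_card _ _)))
      have hns : ∀ z : F, (x : Matrix (Fin d ⊕ Fin d) (Fin d ⊕ Fin d) F) ≠ z • 1 := by
        intro z hz
        have hzr : z ^ r = 1 := by
          rw [hz, smul_pow, one_pow] at hxr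
          simpa using congrFun (congrFun hxr (Sum.inl ⟨0, hd⟩)) (Sum.inl ⟨0, hd⟩)
        have h := sp_eq (⟨_, mem_spGL_iff'.1 hx⟩ : Matrix.symplecticGroup (Fin d) F)
        simp only [hz, Matrix.transpose_smul, Matrix.transpose_one, Matrix.smul_mul, one_mul, Matrix.mul_smul,
          mul_one, smul_smul] at h
        haveI : Nonempty (Fin d) := ⟨⟨0, hd⟩⟩
        have hzz := eq_one_of_smul_eq (J_isUnit (F := F) (d := d)).ne_zero h
        obtain ⟨k, hk⟩ := hro
        rw [hk, pow_succ, pow_mul, pow_two, hzz, one_pow, one_mul] at hzr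
        have hpos := modulus_pos (F := F) hr
        rw [hz, hzr, one_smul, sub_self, Matrix.rank_zero] at hR
        omega
      obtain ⟨A, B, β, hB, hA, hABr, hR'⟩ := test x hx hxr hns
      exact rank_ne_modulus h2 hr hro ha2 hb hG₁ hG₁t hG₂ hG₂t hA hB hABr (hR'.trans hR)
  · rintro ⟨rfl, rfl⟩ x hx ⟨z, hz⟩ hns
    obtain rfl : b = d := by omega
    have hp2 : ¬ p ∣ 2 := fun h => h2 (by exact_mod_cast (CharP.cast_eq_zero_iff F p 2).2 h)
    obtain ⟨xs, rfl⟩ := exists_spToGL hx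
    have hz' : ((xs ^ 2 : Matrix.symplecticGroup (Fin b) F) : Matrix (Fin b ⊕ Fin b) (Fin b ⊕ Fin b) F) = z • 1 := by
      rw [SubmonoidClass.coe_pow, ← hz, Units.val_pow_eq_pow_val, spToGL_val]
    obtain ⟨hzz, -⟩ := exists_planeSys_sp hd xs hz'
    have hx4 : xs ^ 4 = 1 := Subtype.ext (by
      rw [show 4 = 2 * 2 from rfl, pow_mul, SubmonoidClass.coe_pow, hz', smul_pow, one_pow, pow_two, hzz, one_smul]
      rfl)
    have hcop : (orderOf xs).Coprime p := Nat.Coprime.coprime_dvd_left (orderOf_dvd_of_pow_eq_one hx4)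
      (((Fact.out : p.Prime).coprime_iff_not_dvd.2 hp2).symm.pow_left 2 : Nat.Coprime (2 ^ 2) p)
    have fin : ∀ (A : GL (Fin 2) F) (B : GL (Fin b) F),
        (A : Matrix (Fin 2) (Fin 2) F)ᵀ * gramMatrix f₁ * (A : Matrix (Fin 2) (Fin 2) F) = gramMatrix f₁ →
        (B : Matrix (Fin b) (Fin b) F)ᵀ * gramMatrix f₂ * (B : Matrix (Fin b) (Fin b) F) = gramMatrix f₂ →
        _root_.IsConj (Matrix.reindexAlgEquiv F F e.symm ((A : Matrix (Fin 2) (Fin 2) F) ⊗ₖ
          (B : Matrix (Fin b) (Fin b) F))) (xs : Matrix (Fin b ⊕ Fin b) (Fin b ⊕ Fin b) F) →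
        ∃ g ∈ spGL b F, g⁻¹ * spToGL F b xs * g ∈ tensorProductSubgroup 2 b e P := by
      intro A B hA hB hconj
      obtain ⟨g, hgH, hgS, hgc⟩ := exists_model hS A B hA hB
      obtain ⟨gs, rfl⟩ := exists_spToGL hgS
      obtain ⟨c, hc⟩ := isConj_iff.1 (KnownB.BilinConj.sp_conj p xs gs hcop (hconj.symm.trans hgc))
      refine ⟨(spToGL F b c)⁻¹, inv_mem (spToGL_mem c), ?_⟩
      rwa [inv_inv, ← map_inv, ← map_mul, ← map_mul, hc]
    rcases mul_self_eq_one_iff.1 hzz with rfl | rfl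
    · rw [one_smul] at hz'
      obtain ⟨s, hs, hconj⟩ := isConj_one (e := e) h2 xs hz'
      obtain ⟨U, g, hU⟩ := exists_orth h2 hf₂
      let D : GL (Fin b) F := ⟨Matrix.diagonal s, Matrix.diagonal s,
        by rw [Matrix.diagonal_mul_diagonal, ← Matrix.diagonal_one]; exact congrArg _ (funext hs),
        by rw [Matrix.diagonal_mul_diagonal, ← Matrix.diagonal_one]; exact congrArg _ (funext hs)⟩
      refine fin 1 (U * D * U⁻¹) (by simp) ?_ ?_
      · have hG : gramMatrix f₂ = (((U⁻¹ : GL (Fin b) F) : Matrix (Fin b) (Fin b) F))ᵀ * Matrix.diagonal g *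
            ((U⁻¹ : GL (Fin b) F) : Matrix (Fin b) (Fin b) F) := by
          rw [← hU]
          simp only [← mul_assoc]
          rw [← Matrix.transpose_mul, Units.mul_inv, Matrix.transpose_one, one_mul, mul_assoc, Units.mul_inv, mul_one]
        simp only [Units.val_mul, Matrix.transpose_mul, mul_assoc]
        conv_rhs => rw [hG]
        rw [show ((U : Matrix (Fin b) (Fin b) F))ᵀ * (gramMatrix f₂ * ((U : Matrix (Fin b) (Fin b) F) *
            ((D : Matrix (Fin b) (Fin b) F) * ((U⁻¹ : GL (Fin b) F) : Matrix (Fin b) (Fin b) F)))) =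
            Matrix.diagonal g * ((D : Matrix (Fin b) (Fin b) F) * ((U⁻¹ : GL (Fin b) F) : Matrix (Fin b) (Fin b) F))
          by rw [← hU]; simp only [mul_assoc]]
        simp only [D, Matrix.diagonal_transpose, ← mul_assoc]
        congr 1
        rw [mul_assoc, mul_assoc, Matrix.diagonal_mul_diagonal, Matrix.diagonal_mul_diagonal]
        congr 1
        exact congrArg _ (funext fun j => by linear_combination g j * hs j)
      · let φ : Matrix (Fin b) (Fin b) F →* Matrix (Fin b ⊕ Fin b) (Fin b ⊕ Fin b) F :=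
          { toFun := fun M => Matrix.reindexAlgEquiv F F e.symm ((1 : Matrix (Fin 2) (Fin 2) F) ⊗ₖ M)
            map_one' := by rw [Matrix.one_kronecker_one, map_one]
            map_mul' := fun M N => by rw [← map_mul, ← Matrix.mul_kronecker_mul, one_mul] }
        have h : _root_.IsConj (Matrix.diagonal s) ((U * D * U⁻¹ : GL (Fin b) F) : Matrix (Fin b) (Fin b) F) := by
          refine ⟨U, ?_⟩
          show (U : Matrix (Fin b) (Fin b) F) * (D : Matrix (Fin b) (Fin b) F) = _
          rw [← Units.val_mul, ← Units.val_mul, inv_mul_cancel_right]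
        exact (φ.map_isConj h).symm.trans hconj
    · let J : Matrix (Fin 2) (Fin 2) F := !![0, -1; 1, 0]
      let A : GL (Fin 2) F := ⟨J, -J,
        by ext i j; fin_cases i <;> fin_cases j <;> simp [J, Matrix.mul_apply, Fin.sum_univ_two],
        by ext i j; fin_cases i <;> fin_cases j <;> simp [J, Matrix.mul_apply, Fin.sum_univ_two]⟩
      refine fin A 1 ?_ (by simp) (isConj_neg (e := e) h2 hd xs hz')
      have h00 : ∀ i, gramMatrix f₁ i i = 0 := fun i => hf₁.alternating _
      have h10 : gramMatrix f₁ 1 0 = -gramMatrix f₁ 0 1 := hf₁.skew _ _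
      show Jᵀ * gramMatrix f₁ * J = _
      ext i j
      fin_cases i <;> fin_cases j <;> simp [J, Matrix.mul_apply, Fin.sum_univ_two, h00, h10]

end CfsgLib.PrimeOrderSp.TensorRank
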