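import Cfsg.Agent.Lib.AschbacherForm.Cases.SympTensorTools
import Cfsg.Agent.Lib.PrimeOrderSp.Model
import Cfsg.Agent.Lib.PrimeOrderSp.SpGL

/-!
Ranks of `A ⊗ B - 1` for isometries `A`, `B` of prime order.
-/

set_option autoImplicit false
set_option linter.unusedSectionVars false

namespace CfsgLib.PrimeOrderSp.TensorRank

open CfsgLib.Geometry CfsgLib.KnownB.PrimeOrder
open scoped Matrix MatrixGroups Kronecker

universe u

variable {F : Type u} [Field F] [Fintype F]

section rank

variable {κ μ : Type} [Fintype κ] [DecidableEq κ] [Fintype μ] [DecidableEq μ]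

/-- Vectors moved independently by `A` give many independent moved vectors of `A ⊗ B`. -/
theorem mul_card_le_rank {K : Type} [Fintype K] (A : Matrix κ κ F) (B : Matrix μ μ F) (v : K → κ → F)
    (hv : LinearIndependent F (Sum.elim v fun j => A *ᵥ v j)) :
    Fintype.card K * Fintype.card μ ≤ (A ⊗ₖ B - 1).rank := by
  let T : (K → μ → F) →ₗ[F] (κ × μ → F) :=
    { toFun := fun w p => ∑ j, v j p.1 * w j p.2
      map_add' := fun w w' => funext fun p => by simp [mul_add, Finset.sum_add_distrib]
      map_smul' := fun c w => funext fun p => by simp [Finset.mul_sum, mul_left_comm] }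
  have happ : ∀ w p, ((A ⊗ₖ B) *ᵥ T w) p = ∑ j, (A *ᵥ v j) p.1 * (B *ᵥ w j) p.2 := fun w p => by
    rw [show T w = ∑ j, (fun p : κ × μ => v j p.1 * w j p.2) by funext p; simp [T, Finset.sum_apply],
      Matrix.mulVec_sum, Finset.sum_apply]
    exact Finset.sum_congr rfl fun j _ =>
      congrFun (CfsgLib.AschbacherForm.Cases.kron_pure A B (v j) (w j)) p
  have hinj : Function.Injective ((A ⊗ₖ B - 1).mulVecLin ∘ₗ T) := by
    refine (injective_iff_map_eq_zero _).2 fun w hw => funext fun j => funext fun k => ?_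
    have h0 : ∀ p, ((A ⊗ₖ B) *ᵥ T w) p - T w p = 0 := fun p => by
      have h := congrFun hw p
      rwa [LinearMap.comp_apply, Matrix.mulVecLin_apply, Matrix.sub_mulVec, Matrix.one_mulVec, Pi.sub_apply] at h
    have h := Fintype.linearIndependent_iff.1 hv (Sum.elim (fun j => -(w j k)) fun j => (B *ᵥ w j) k)
      (funext fun i => by
        have h1 := h0 (i, k)
        rw [happ, show T w (i, k) = ∑ j, v j i * w j k from rfl] at h1
        rw [Fintype.sum_sum_type, Pi.add_apply, Finset.sum_apply, Finset.sum_apply, Pi.zero_apply]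
        simp only [Sum.elim_inl, Sum.elim_inr, Pi.smul_apply, smul_eq_mul, neg_mul, Finset.sum_neg_distrib]
        rw [Finset.sum_congr rfl fun j _ => mul_comm (w j k) (v j i),
          Finset.sum_congr rfl fun j _ => mul_comm ((B *ᵥ w j) k) ((A *ᵥ v j) i)]
        linear_combination h1) (Sum.inl j)
    simpa using h
  have h := LinearMap.finrank_range_of_inj hinj
  rw [Module.finrank_pi_fintype, Finset.sum_congr rfl fun _ _ => Module.finrank_fintype_fun_eq_card F,
    Finset.sum_const, Finset.card_univ, smul_eq_mul] at h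
  exact h.symm.trans_le (Submodule.finrank_mono (LinearMap.range_comp_le_range _ _))

theorem rank_swap (A : Matrix κ κ F) (B : Matrix μ μ F) : (B ⊗ₖ A - 1).rank = (A ⊗ₖ B - 1).rank := by
  rw [show B ⊗ₖ A - 1 = (A ⊗ₖ B - 1).submatrix (Equiv.prodComm _ _) (Equiv.prodComm _ _) by
    ext ⟨i, k⟩ ⟨j, l⟩
    simp [Matrix.one_apply, Prod.ext_iff, and_comm, mul_comm], Matrix.rank_submatrix]

theorem card_le_rank_of_nonscalar {A : Matrix κ κ F} (B : Matrix μ μ F) (hA : ∀ α : F, A ≠ α • 1) :
    Fintype.card μ ≤ (A ⊗ₖ B - 1).rank := by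
  obtain ⟨v, hv⟩ : ∃ v : κ → F, LinearIndependent F ![v, A *ᵥ v] := by
    by_contra hc
    push Not at hc
    obtain ⟨c, hc'⟩ := LinearMap.exists_eq_smul_id_of_forall_notLinearIndependent (f := A.mulVecLin) hc
    refine hA c ?_
    refine Matrix.toLin'.injective ?_
    rw [map_smul, Matrix.toLin'_one, Matrix.toLin'_apply']
    exact hc'
  have h := mul_card_le_rank A B (fun _ : Unit => v) (by
    have e : (Sum.elim (fun _ : Unit => v) fun j => A *ᵥ (fun _ : Unit => v) j) =
        ![v, A *ᵥ v] ∘ Sum.elim (fun _ => 0) fun _ => 1 := by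
      funext x; rcases x with x | x <;> rfl
    rw [e]
    exact hv.comp _ fun x y hxy => by rcases x with x | x <;> rcases y with y | y <;> simp_all)
  simpa using h

theorem rank_scalar (α : F) (B : Matrix μ μ F) :
    ((α • (1 : Matrix κ κ F)) ⊗ₖ B - 1).rank = Fintype.card κ * (α • B - 1).rank := by
  set M : Matrix μ μ F := α • B - 1 with hM
  have h1 : (α • (1 : Matrix κ κ F)) ⊗ₖ B - 1 = (1 : Matrix κ κ F) ⊗ₖ M := by
    ext ⟨i, k⟩ ⟨j, l⟩
    by_cases hij : i = j <;> simp [hM, hij, Matrix.one_apply, Prod.ext_iff]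
  rw [h1]
  let g : (κ → LinearMap.range M.mulVecLin) →ₗ[F] (κ × μ → F) :=
    { toFun := fun v x => (v x.1 : μ → F) x.2
      map_add' := fun u v => rfl
      map_smul' := fun s u => rfl }
  have hg : Function.Injective g := fun u v huv => funext fun i => Subtype.ext (funext fun k => congrFun huv (i, k))
  have happ : ∀ (v : κ × μ → F) i k,
      (((1 : Matrix κ κ F) ⊗ₖ M) *ᵥ v) (i, k) = (M *ᵥ fun l => v (i, l)) k := fun v i k => by
    simp [Matrix.mulVec, dotProduct, Fintype.sum_prod_type, Matrix.one_apply, Finset.sum_ite_eq]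
  have hrange : LinearMap.range g = LinearMap.range ((1 : Matrix κ κ F) ⊗ₖ M).mulVecLin := by
    refine le_antisymm ?_ ?_
    · rintro _ ⟨v, rfl⟩
      have hv : ∀ i, ∃ w, M *ᵥ w = (v i : μ → F) := fun i => (v i).2
      choose w hw using hv
      refine ⟨fun x => w x.1 x.2, funext fun x => ?_⟩
      show (((1 : Matrix κ κ F) ⊗ₖ M) *ᵥ fun x => w x.1 x.2) (x.1, x.2) = _
      rw [happ]
      exact congrFun (hw x.1) x.2
    · rintro _ ⟨v, rfl⟩
      exact ⟨fun i => ⟨M *ᵥ fun l => v (i, l), ⟨_, rfl⟩⟩, funext fun x => (happ v x.1 x.2).symm⟩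
  rw [Matrix.rank, ← hrange, LinearMap.finrank_range_of_inj hg, Module.finrank_pi_fintype, Finset.sum_const,
    Finset.card_univ, smul_eq_mul]
  rfl

/-- A scalar first factor can be absorbed in the second. -/
theorem smul_one_kron (α : F) (B : Matrix μ μ F) :
    (α • (1 : Matrix κ κ F)) ⊗ₖ B = (1 : Matrix κ κ F) ⊗ₖ (α • B) := by
  rw [Matrix.smul_kronecker, Matrix.kronecker_smul]

theorem kron_pow (A : Matrix κ κ F) (B : Matrix μ μ F) (k : ℕ) : (A ⊗ₖ B) ^ k = (A ^ k) ⊗ₖ (B ^ k) := by
  induction k with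
  | zero => simp
  | succ k ih => rw [pow_succ, pow_succ, pow_succ, ih, Matrix.mul_kronecker_mul]

theorem exists_scalar_of_kron_one [Nonempty κ] [Nonempty μ] {A : Matrix κ κ F} {B : Matrix μ μ F}
    (h : A ⊗ₖ B = 1) : ∃ c : F, c ≠ 0 ∧ A = c • 1 := by
  obtain ⟨i⟩ := ‹Nonempty κ›
  obtain ⟨k⟩ := ‹Nonempty μ›
  have h1 : A i i * B k k = 1 := by simpa using congrFun (congrFun h (i, k)) (i, k)
  refine ⟨(B k k)⁻¹, inv_ne_zero (right_ne_zero_of_mul_eq_one h1), Matrix.ext fun a b => ?_⟩
  have h2 := congrFun (congrFun h (a, k)) (b, k)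
  rw [Matrix.kroneckerMap_apply] at h2
  rw [Matrix.smul_apply, smul_eq_mul, Matrix.one_apply]
  rw [Matrix.one_apply] at h2
  have hB := right_ne_zero_of_mul_eq_one h1
  by_cases hab : a = b
  · rw [if_pos hab, mul_one]
    rw [if_pos (by rw [hab])] at h2
    exact eq_inv_of_mul_eq_one_left h2
  · rw [if_neg hab, mul_zero]
    rw [if_neg (fun e => hab (congrArg Prod.fst e))] at h2
    exact (mul_eq_zero.1 h2).resolve_right hB

end rank

/-! ### Isometries of prime order -/

section isom

variable {V : Type*} [AddCommGroup V] [Module F V] [FiniteDimensional F V]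

/-- The moved space of an isometry of odd order is of even dimension. -/
theorem even_movSp (h2 : (2 : F) ≠ 0) {f : Module.End F V} {r : ℕ} (hr : (r : F) ≠ 0) (hro : Odd r)
    (hfr : f ^ r = 1) {B : LinearMap.BilinForm F V} (h : IsHerm (σ := RingHom.id F) B)
    (hf : ∀ u v, B (f u) (f v) = B u v) : Even (Module.finrank F (movSp f)) := by
  classical
  set W := movSp f with hW
  set n := Module.finrank F W with hn
  let b := Module.finBasis F W
  let C : W →ₗ[F] W := f.restrict (inv_movSp (f := f))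
  let G : Matrix (Fin n) (Fin n) F := LinearMap.BilinForm.toMatrix b (B.restrict W)
  let M : Matrix (Fin n) (Fin n) F := LinearMap.toMatrix b b C
  have hMG : Mᵀ * G * M = G := by
    rw [← LinearMap.BilinForm.toMatrix_comp b b (B.restrict W) C C]
    congr 1
    ext x y
    exact hf x y
  have hG : G.det ≠ 0 := by
    refine (LinearMap.separatingLeft_iff_det_ne_zero (B := (B.restrict W)) b).1 fun x hx => ?_
    exact Subtype.ext (nondeg_movSp hr hfr h hf _ x.2 fun v hv => hx ⟨v, hv⟩)
  have hC : C ^ r = 1 := by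
    refine LinearMap.ext fun x => Subtype.ext ?_
    rw [Module.End.pow_restrict r (inv_movSp (f := f)), LinearMap.restrict_coe_apply, hfr]
    rfl
  have hM1 : (M - 1).det ≠ 0 := by
    rw [show M - 1 = LinearMap.toMatrix b b (C - 1) by rw [map_sub, LinearMap.toMatrix_one], LinearMap.det_toMatrix]
    intro h0
    obtain ⟨x, hx, hx0⟩ := Submodule.exists_mem_ne_zero_of_ne_bot
      (LinearMap.bot_lt_ker_of_det_eq_zero (f := C - 1) h0).ne'
    refine hx0 (Subtype.ext (Submodule.disjoint_def.1 (isCompl_fix_mov hr hfr).disjoint _ ?_ x.2))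
    exact mem_fixSp.2 (sub_eq_zero.1 (congrArg Subtype.val (LinearMap.mem_ker.1 hx)))
  have key : (Mᵀ - 1) * G * M = -(G * (M - 1)) := by
    rw [sub_mul, sub_mul, one_mul, hMG, mul_sub, mul_one, neg_sub]
  have hd := congrArg Matrix.det key
  rw [Matrix.det_mul, Matrix.det_mul, Matrix.det_neg, Matrix.det_mul, Fintype.card_fin,
    show Mᵀ - 1 = (M - 1)ᵀ by rw [Matrix.transpose_sub, Matrix.transpose_one], Matrix.det_transpose] at hd
  have hdet : M.det = (-1) ^ n := mul_left_cancel₀ (mul_ne_zero hM1 hG) (by linear_combination hd)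
  have hMr : M ^ r = 1 := by
    rw [show M = LinearMap.toMatrixAlgEquiv b C from rfl, ← map_pow, hC, map_one]
  have h1 := congrArg Matrix.det hMr
  rw [Matrix.det_pow, Matrix.det_one, hdet, ← pow_mul] at h1
  by_contra hodd
  rw [Nat.not_even_iff_odd] at hodd
  rw [(hodd.mul hro).neg_one_pow] at h1
  exact h2 (by linear_combination -h1)

end isom

section matrix

variable {κ : Type} [Fintype κ] [DecidableEq κ]

/-- The number governing the moved spaces of isometries of order `r`. -/
noncomputable def modulus (F : Type u) [Fintype F] (r : ℕ) : ℕ := Nat.lcm 2 (orderOf ((Fintype.card F : ℕ) : ZMod r))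

theorem rank_sub_one_eq (M : Matrix κ κ F) :
    (M - 1).rank = Module.finrank F (movSp (Matrix.toLin' M)) := by
  rw [movSp, Module.End.one_eq_id, ← Matrix.toLin'_one, ← map_sub, Matrix.toLin'_apply']
  rfl

/-- The rank of `M - 1` for an isometry `M` of order `r` of a reflexive form. -/
theorem modulus_dvd_rank (h2 : (2 : F) ≠ 0) {r : ℕ} [Fact r.Prime] (hr : (r : F) ≠ 0) (hro : Odd r)
    {G M : Matrix κ κ F} (hG : IsUnit G) {ε : F} (hGt : Gᵀ = ε • G) (hM : Mᵀ * G * M = G) (hMr : M ^ r = 1) :
    modulus F r ∣ (M - 1).rank := by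
  classical
  set B := Matrix.toBilin' G with hB
  set f : Module.End F (κ → F) := Matrix.toLin' M with hf
  have hBa : ∀ u v, B u v = u ⬝ᵥ G *ᵥ v := fun u v => Matrix.toBilin'_apply' G u v
  have hiso : ∀ u v, B (f u) (f v) = B u v := fun u v => by
    rw [hBa, hBa, hf, Matrix.toLin'_apply, Matrix.toLin'_apply, ← Matrix.vecMul_transpose,
      ← Matrix.dotProduct_mulVec, Matrix.mulVec_mulVec, Matrix.mulVec_mulVec, hM]
  have hherm : IsHerm (σ := RingHom.id F) B := by
    refine ⟨⟨ε, fun u v => ?_⟩, fun u hu => ?_⟩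
    · rw [RingHom.id_apply, hBa, hBa, Matrix.dotProduct_mulVec, ← Matrix.mulVec_transpose, hGt, Matrix.smul_mulVec,
        smul_dotProduct, dotProduct_comm, smul_eq_mul]
    · refine Matrix.eq_zero_of_vecMul_eq_zero ((Matrix.isUnit_iff_isUnit_det G).1 hG).ne_zero
        (funext fun j => ?_)
      have h := hu (Pi.single j 1)
      rw [hBa, Matrix.dotProduct_mulVec] at h
      simpa using h
  have hfr : f ^ r = 1 := by
    rw [hf, show Matrix.toLin' M = Matrix.toLinAlgEquiv' M from rfl, ← map_pow, hMr, map_one]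
  rw [rank_sub_one_eq]
  exact Nat.lcm_dvd (even_iff_two_dvd.1 (even_movSp h2 hr hro hfr hherm hiso))
    (finrank_dvd (isSemisimple_of_pow hr hfr) (killed_movSp hr hfr))

/-- Four independent vectors. -/
theorem exists_indep_quad {A : Matrix κ κ F} {r : ℕ} [Fact r.Prime] (hr : (r : F) ≠ 0) (hAr : A ^ r = 1)
    (hfix : (A - 1).rank = Fintype.card κ) (hi : 3 ≤ orderOf ((Fintype.card F : ℕ) : ZMod r))
    (hn : 4 ≤ Fintype.card κ) :
    ∃ v : Fin 2 → κ → F, LinearIndependent F (Sum.elim v fun j => A *ᵥ v j) := by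
  classical
  set f : Module.End F (κ → F) := Matrix.toLin' A with hf
  have hfa : ∀ v, f v = A *ᵥ v := fun v => Matrix.toLin'_apply A v
  have hfr : f ^ r = 1 := by
    rw [hf, show Matrix.toLin' A = Matrix.toLinAlgEquiv' A from rfl, ← map_pow, hAr, map_one]
  have hmov : movSp f = ⊤ := Submodule.eq_top_of_finrank_eq (by
    rw [← rank_sub_one_eq, hfix, Module.finrank_fintype_fun_eq_card])
  have hdvd : ∀ U : Submodule F (κ → F), Inv f U →
      orderOf ((Fintype.card F : ℕ) : ZMod r) ∣ Module.finrank F U := fun U hU =>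
    finrank_dvd (isSemisimple_of_pow hr hfr) ((killed_movSp hr hfr).mono hU (hmov ▸ le_top))
  set i := orderOf ((Fintype.card F : ℕ) : ZMod r) with hidef
  obtain ⟨v, hv⟩ : ∃ v : κ → F, v ≠ 0 := by
    obtain ⟨j⟩ : Nonempty κ := Fintype.card_pos_iff.1 (by omega)
    exact ⟨Pi.single j 1, by simp⟩
  have hline : ∀ (w : κ → F) (t : F), w ≠ 0 → f w ≠ t • w := fun w t hw e => by
    have h := hdvd (Submodule.span F {w}) fun x hx => by
      obtain ⟨c, rfl⟩ := Submodule.mem_span_singleton.1 hx
      rw [map_smul, e]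
      exact Submodule.smul_mem _ _ (Submodule.smul_mem _ _ (Submodule.mem_span_singleton_self w))
    rw [finrank_span_singleton hw] at h
    have := Nat.le_of_dvd one_pos h
    omega
  have hpair : LinearIndependent F ![v, f v] :=
    (LinearIndependent.pair_iff' hv).2 fun t e => hline v t hv e.symm
  set U := Submodule.span F {v, f v} with hUdef
  have hvU : v ∈ U := Submodule.subset_span (by simp)
  have hfvU : f v ∈ U := Submodule.subset_span (by simp)
  have hU2 : Module.finrank F U = 2 := by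
    have h := finrank_span_eq_card hpair
    rw [Matrix.range_cons, Matrix.range_cons, Matrix.range_empty, Set.union_empty, Set.singleton_union] at h
    exact h
  have hffv : f (f v) ∉ U := fun e => by
    have h := hdvd U fun x hx => by
      obtain ⟨c, d, rfl⟩ := Submodule.mem_span_pair.1 hx
      rw [map_add, map_smul, map_smul]
      exact U.add_mem (U.smul_mem _ hfvU) (U.smul_mem _ e)
    rw [hU2] at h
    have := Nat.le_of_dvd two_pos h
    omega
  obtain ⟨w, hwW⟩ : ∃ w : κ → F, w ∉ U ⊔ Submodule.span F {f (f v)} := by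
    by_contra hc
    push Not at hc
    have e := Submodule.eq_top_iff'.2 hc
    have h := Submodule.finrank_add_le_finrank_add_finrank U (Submodule.span F {f (f v)})
    rw [e, finrank_top, Module.finrank_fintype_fun_eq_card, hU2] at h
    have := finrank_span_le_card (R := F) ({f (f v)} : Set (κ → F))
    simp only [Set.toFinset_singleton, Finset.card_singleton] at this
    omega
  have hwU : w ∉ U := fun e => hwW (Submodule.mem_sup_left e)
  -- one of `w`, `w + f v` is a partner
  obtain ⟨z, hzU, hfz⟩ : ∃ z : κ → F, z ∉ U ∧ f z ∉ U ⊔ Submodule.span F {z} := by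
    by_contra hc
    push Not at hc
    have hwv : w + f v ∉ U := fun e => hwU ((Submodule.add_mem_iff_left U hfvU).1 e)
    obtain ⟨x, hx, y, hy, hxy⟩ := Submodule.mem_sup.1 (hc w hwU)
    obtain ⟨t, rfl⟩ := Submodule.mem_span_singleton.1 hy
    obtain ⟨x', hx', y', hy', hxy'⟩ := Submodule.mem_sup.1 (hc _ hwv)
    obtain ⟨t', rfl⟩ := Submodule.mem_span_singleton.1 hy'
    rw [map_add, ← hxy, smul_add] at hxy'
    have e : (t' - t) • w = f (f v) + (x - x' - t' • f v) := by
      rw [sub_smul]
      linear_combination (norm := module) hxy'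
    by_cases ht : t' = t
    · rw [ht, sub_self, zero_smul] at e
      refine hffv ?_
      rw [eq_neg_of_add_eq_zero_left e.symm]
      exact U.neg_mem (U.sub_mem (U.sub_mem hx hx') (U.smul_mem _ hfvU))
    · refine hwW ((Submodule.smul_mem_iff _ (sub_ne_zero.2 ht)).1 ?_)
      rw [e]
      exact Submodule.add_mem _ (Submodule.mem_sup_right (Submodule.mem_span_singleton_self _))
        (Submodule.mem_sup_left (U.sub_mem (U.sub_mem hx hx') (U.smul_mem _ hfvU)))
  refine ⟨![v, z], Fintype.linearIndependent_iff.2 fun g hg => ?_⟩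
  simp only [Fintype.sum_sum_type, Fin.sum_univ_two, Sum.elim_inl, Sum.elim_inr, Matrix.cons_val_zero,
    Matrix.cons_val_one, ← hfa] at hg
  set a₀ := g (Sum.inl 0)
  set a₁ := g (Sum.inl 1)
  set b₀ := g (Sum.inr 0)
  set b₁ := g (Sum.inr 1)
  have hb₁ : b₁ = 0 := by
    by_contra h0
    refine hfz ((Submodule.smul_mem_iff _ h0).1 ?_)
    rw [show b₁ • f z = -(a₀ • v + b₀ • f v) + -(a₁ • z) by linear_combination (norm := module) hg]
    exact Submodule.add_mem_sup (U.neg_mem (U.add_mem (U.smul_mem _ hvU) (U.smul_mem _ hfvU)))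
      (Submodule.neg_mem _ (Submodule.smul_mem _ _ (Submodule.mem_span_singleton_self z)))
  have ha₁ : a₁ = 0 := by
    by_contra h0
    refine hzU ((Submodule.smul_mem_iff _ h0).1 ?_)
    rw [show a₁ • z = -(a₀ • v + b₀ • f v) by
      rw [hb₁, zero_smul, add_zero] at hg; linear_combination (norm := module) hg]
    exact U.neg_mem (U.add_mem (U.smul_mem _ hvU) (U.smul_mem _ hfvU))
  rw [hb₁, ha₁, zero_smul, zero_smul, add_zero, add_zero] at hg
  obtain ⟨h0, h1⟩ := LinearIndependent.pair_iff.1 hpair a₀ b₀ hg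
  rintro (j | j) <;> fin_cases j <;> assumption

end matrix

end CfsgLib.PrimeOrderSp.TensorRank
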