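import Cfsg.Agent.Lib.PrimeOrderSp.TensorRank
import Cfsg.Agent.Lib.PrimeOrderSp.SympInv
import Cfsg.Agent.Lib.KnownB.SymplConj

/-!
Which elements of prime order of `Sp_{2d}(q)` lie in a conjugate of `Sp_a ⊗ O_b`.
-/

set_option autoImplicit false
set_option linter.unusedSectionVars false

namespace CfsgLib.PrimeOrderSp.TensorRank

open Cfsg Cfsg.Geo CfsgLib.Geometry CfsgLib.Aschbacher CfsgLib.AschbacherForm
open scoped Matrix MatrixGroups Kronecker

universe u

variable {F : Type u} [Field F] [Fintype F]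

section general

variable {ι κ : Type} [Fintype ι] [DecidableEq ι] [Fintype κ] [DecidableEq κ]

theorem rank_conj (g x : GL ι F) :
    (((g⁻¹ * x * g : GL ι F) : Matrix ι ι F) - 1).rank = ((x : Matrix ι ι F) - 1).rank := by
  have e : ((g⁻¹ * x * g : GL ι F) : Matrix ι ι F) - 1 =
      ((g⁻¹ : GL ι F) : Matrix ι ι F) * ((x : Matrix ι ι F) - 1) * (g : Matrix ι ι F) := by
    rw [mul_sub, mul_one, sub_mul, Units.inv_mul, Units.val_mul, Units.val_mul]
  rw [e, Matrix.rank_mul_eq_left_of_isUnit_det _ _ ((Matrix.isUnit_iff_isUnit_det _).1 g.isUnit),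
    Matrix.rank_mul_eq_right_of_isUnit_det _ _ ((Matrix.isUnit_iff_isUnit_det _).1 (g⁻¹).isUnit)]

theorem rank_coordR (e : ι ≃ κ) (P : GL ι F) (M : Matrix ι ι F) :
    (coordR e P M - 1).rank = (M - 1).rank := by
  rw [← map_one (coordR e P), ← map_sub, coordR_apply, Matrix.rank_submatrix,
    Matrix.rank_mul_eq_left_of_isUnit_det _ _ ((Matrix.isUnit_iff_isUnit_det _).1 P.isUnit),
    Matrix.rank_mul_eq_right_of_isUnit_det _ _ ((Matrix.isUnit_iff_isUnit_det _).1 (P⁻¹).isUnit)]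

/-- A matrix conjugate to a matrix in a basis. -/
theorem isConj_of_family (e : ι ≃ κ) (w : κ → ι → F) (hw : ⊤ ≤ Submodule.span F (Set.range w))
    (x : Matrix ι ι F) (D : Matrix κ κ F) (h : ∀ l, x *ᵥ w l = ∑ k, D k l • w k) :
    _root_.IsConj (Matrix.reindexAlgEquiv F F e.symm D) x := by
  have hli : LinearIndependent F w := linearIndependent_of_top_le_span_of_card_eq_finrank hw
    (by rw [Module.finrank_fintype_fun_eq_card, Fintype.card_congr e])
  let T : Matrix ι ι F := Matrix.of fun i j => w (e j) i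
  have hT : IsUnit T := Matrix.linearIndependent_cols_iff_isUnit.1 (hli.comp e e.injective)
  refine ⟨hT.unit, ?_⟩
  show T * _ = x * T
  ext i j
  have h1 := congrFun (h (e j)) i
  rw [Finset.sum_apply] at h1
  rw [Matrix.mul_apply, Matrix.mul_apply, show ∑ k, x i k * T k j = (x *ᵥ w (e j)) i from rfl, h1]
  exact Fintype.sum_equiv e _ _ fun k => by simp [T, mul_comm]

theorem sim_pow {G M : Matrix κ κ F} {γ : F} (h : Mᵀ * G * M = γ • G) (k : ℕ) :
    (M ^ k)ᵀ * G * M ^ k = γ ^ k • G := by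
  induction k with
  | zero => simp
  | succ k ih =>
    rw [pow_succ' M k, Matrix.transpose_mul, show (M ^ k)ᵀ * Mᵀ * G * (M * M ^ k) = (M ^ k)ᵀ * (Mᵀ * G * M) * M ^ k
      by simp only [mul_assoc], h, Matrix.mul_smul, Matrix.smul_mul, ih, smul_smul, pow_succ']

theorem eq_one_of_smul_eq {G : Matrix κ κ F} (hG : G ≠ 0) {c : F} (h : c • G = G) : c = 1 :=
  sub_eq_zero.1 ((smul_eq_zero.1 (show (c - 1) • G = 0 by rw [sub_smul, one_smul, h, sub_self])).resolve_right hG)

theorem natCast_card_ne_zero {r : ℕ} [Fact r.Prime] (hr : (r : F) ≠ 0) :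
    ((Fintype.card F : ℕ) : ZMod r) ≠ 0 := fun h0 => by
  rw [ZMod.natCast_eq_zero_iff] at h0
  obtain ⟨p, hp⟩ := CharP.exists F
  obtain ⟨n, hp', hq⟩ := FiniteField.card F p
  rw [hq] at h0
  exact hr (by rw [(Nat.prime_dvd_prime_iff_eq Fact.out hp').1 ((Fact.out : r.Prime).dvd_of_dvd_pow h0),
    CharP.cast_eq_zero])

theorem modulus_pos {r : ℕ} [Fact r.Prime] (hr : (r : F) ≠ 0) : 0 < modulus F r :=
  Nat.pos_of_ne_zero (Nat.lcm_ne_zero two_ne_zero
    (orderOf_pos_iff.2 (isOfFinOrder_iff_pow_eq_one.2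
      ⟨r - 1, by have := (Fact.out : r.Prime).two_le; omega,
        ZMod.pow_card_sub_one_eq_one (natCast_card_ne_zero hr)⟩)).ne')

/-- A scalar factor leaves a moved space too large. -/
theorem rank_ne_of_scalar (h2 : (2 : F) ≠ 0) {r : ℕ} [Fact r.Prime] (hr : (r : F) ≠ 0) (hro : Odd r)
    {n : ℕ} (hn : 2 ≤ n) {G C : Matrix κ κ F} (hG : IsUnit G) {ε : F} (hGt : Gᵀ = ε • G)
    (hC : Cᵀ * G * C = G) (hCr : C ^ r = 1) : n * (C - 1).rank ≠ modulus F r := fun e => by
  obtain ⟨k, hk⟩ := modulus_dvd_rank h2 hr hro hG hGt hC hCr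
  have hpos := modulus_pos (F := F) hr
  rw [hk] at e
  rcases Nat.eq_zero_or_pos k with rfl | hk0
  · simp at e; omega
  · have h := Nat.mul_le_mul hn (Nat.le_mul_of_pos_right (modulus F r) hk0)
    omega

theorem pow_eq_one_of_one_kron [Nonempty ι] {C : Matrix κ κ F} {r : ℕ}
    (h : ((1 : Matrix ι ι F) ⊗ₖ C) ^ r = 1) : C ^ r = 1 := by
  obtain ⟨i⟩ := ‹Nonempty ι›
  rw [kron_pow, one_pow] at h
  ext k l
  simpa [Matrix.one_apply] using congrFun (congrFun h (i, k)) (i, l)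

variable {a b : ℕ}

/-- An element of odd prime order of `Sp_a ⊗ O_b` moving the least possible does not exist. -/
theorem rank_ne_modulus (h2 : (2 : F) ≠ 0) {r : ℕ} [Fact r.Prime] (hr : (r : F) ≠ 0) (hro : Odd r)
    (ha : 2 ≤ a) (hb : 3 ≤ b) {A G₁ : Matrix (Fin a) (Fin a) F} {B G₂ : Matrix (Fin b) (Fin b) F}
    (hG₁ : IsUnit G₁) {ε : F} (hG₁t : G₁ᵀ = ε • G₁) (hG₂ : IsUnit G₂) (hG₂t : G₂ᵀ = (1 : F) • G₂) {β : F}
    (hA : β • (Aᵀ * G₁ * A) = G₁) (hB : Bᵀ * G₂ * B = β • G₂) (hr1 : (A ⊗ₖ B) ^ r = 1) :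
    (A ⊗ₖ B - 1).rank ≠ modulus F r := by
  classical
  intro hR
  haveI : Nonempty (Fin a) := ⟨⟨0, by omega⟩⟩
  haveI : Nonempty (Fin b) := ⟨⟨0, by omega⟩⟩
  by_cases hAs : ∃ α : F, A = α • 1
  · obtain ⟨α, rfl⟩ := hAs
    rw [rank_scalar, Fintype.card_fin] at hR
    rw [Matrix.transpose_smul, Matrix.transpose_one, Matrix.smul_mul, one_mul, Matrix.mul_smul, mul_one,
      smul_smul, smul_smul] at hA
    have hc := eq_one_of_smul_eq hG₁.ne_zero hA
    refine rank_ne_of_scalar (C := α • B) h2 hr hro ha hG₂ hG₂t ?_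
      (pow_eq_one_of_one_kron (ι := Fin a) (by rw [← smul_one_kron]; exact hr1)) hR
    rw [Matrix.transpose_smul, Matrix.smul_mul, Matrix.mul_smul, Matrix.smul_mul, hB, smul_smul, smul_smul,
      show α * α * β = 1 by linear_combination hc, one_smul]
  push Not at hAs
  by_cases hBs : ∃ δ : F, B = δ • 1
  · obtain ⟨δ, rfl⟩ := hBs
    rw [← rank_swap, rank_scalar, Fintype.card_fin] at hR
    rw [Matrix.transpose_smul, Matrix.transpose_one, Matrix.smul_mul, one_mul, Matrix.mul_smul, mul_one,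
      smul_smul] at hB
    have hc : δ * δ = β := by
      have h : (δ * δ - β) • G₂ = 0 := by rw [sub_smul, hB, sub_self]
      exact sub_eq_zero.1 ((smul_eq_zero.1 h).resolve_right hG₂.ne_zero)
    refine rank_ne_of_scalar (C := δ • A) h2 hr hro (by omega : 2 ≤ b) hG₁ hG₁t ?_
      (pow_eq_one_of_one_kron (ι := Fin b) ?_) hR
    · rw [Matrix.transpose_smul, Matrix.smul_mul, Matrix.mul_smul, Matrix.smul_mul, smul_smul, hc, hA]
    · rw [← smul_one_kron]
      have e : (δ • (1 : Matrix (Fin b) (Fin b) F)) ⊗ₖ A =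
          Matrix.reindexAlgEquiv F F (Equiv.prodComm _ _) (A ⊗ₖ (δ • (1 : Matrix (Fin b) (Fin b) F))) := by
        ext ⟨i, k⟩ ⟨j, l⟩
        simp [mul_comm]
      rw [e, ← map_pow, hr1, map_one]
  push Not at hBs
  -- neither factor is scalar
  have hbR : b ≤ modulus F r := by simpa [hR] using card_le_rank_of_nonscalar B hAs
  have haR : a ≤ modulus F r := by
    have h := card_le_rank_of_nonscalar A hBs
    rwa [rank_swap, hR, Fintype.card_fin] at h
  set i := orderOf ((Fintype.card F : ℕ) : ZMod r) with hi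
  have hi3 : 3 ≤ i := by
    by_contra hlt
    have hle : modulus F r ≤ 2 := by
      rw [modulus, ← hi]
      interval_cases i <;> decide
    omega
  have hm4 : 4 ≤ modulus F r := by
    obtain ⟨k, hk⟩ : 2 ∣ modulus F r := Nat.dvd_lcm_left _ _
    omega
  have hcop : (Nat.card Fˣ).Coprime r := by
    rw [Nat.coprime_comm, (Fact.out : r.Prime).coprime_iff_not_dvd, Nat.card_units, Nat.card_eq_fintype_card]
    intro hdvd
    have h : i = 1 := by
      rw [hi, orderOf_eq_one_iff, show Fintype.card F = (Fintype.card F - 1) + 1 by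
        have := Fintype.one_lt_card (α := F); omega, Nat.cast_add, (ZMod.natCast_eq_zero_iff _ _).2 hdvd,
        zero_add, Nat.cast_one]
    omega
  have hinj : ∀ γ : F, γ ^ r = 1 → γ = 1 := fun γ h => by
    have h0 : γ ≠ 0 := fun e => by
      rw [e, zero_pow (Fact.out : r.Prime).ne_zero] at h
      exact zero_ne_one h
    have hu : (powCoprime hcop) (Units.mk0 γ h0) = (powCoprime hcop) 1 := by
      simp only [powCoprime_apply, one_pow]
      exact Units.ext (by simp [h])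
    simpa using congrArg Units.val ((powCoprime hcop).injective hu)
  obtain ⟨l, hl0, hl⟩ := exists_scalar_of_kron_one (by rw [← kron_pow, hr1] : (A ^ r) ⊗ₖ (B ^ r) = 1)
  obtain ⟨μu, hμ⟩ := (powCoprime hcop).surjective (Units.mk0 l hl0)
  set μ : F := (μu : F)
  have hμr : μ ^ r = l := by simpa [powCoprime_apply] using congrArg Units.val hμ
  have hμ0 : μ ≠ 0 := μu.ne_zero
  set A' := μ⁻¹ • A with hA'
  set B' := μ • B with hB'
  have hkron : A' ⊗ₖ B' = A ⊗ₖ B := by
    rw [hA', hB', Matrix.smul_kronecker, Matrix.kronecker_smul, smul_smul, inv_mul_cancel₀ hμ0, one_smul]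
  have hA'r : A' ^ r = 1 := by
    rw [hA', smul_pow, hl, smul_smul, inv_pow, hμr, inv_mul_cancel₀ hl0, one_smul]
  have hB'r : B' ^ r = 1 := pow_eq_one_of_one_kron (ι := Fin a) (by
    rw [kron_pow, one_pow, ← hA'r, ← kron_pow, hkron, hr1])
  have hβ : β ≠ 0 := fun e => hG₁.ne_zero (by rw [← hA, e, zero_smul])
  have hA'G : A'ᵀ * G₁ * A' = G₁ := by
    have e : A'ᵀ * G₁ * A' = (μ⁻¹ * μ⁻¹ * β⁻¹) • G₁ := by
      conv_rhs => rw [← hA]
      rw [hA', Matrix.transpose_smul, Matrix.smul_mul, Matrix.mul_smul, Matrix.smul_mul, smul_smul, smul_smul,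
        mul_assoc (μ⁻¹ * μ⁻¹), inv_mul_cancel₀ hβ, mul_one]
    have h := sim_pow e r
    rw [hA'r, Matrix.transpose_one, one_mul, mul_one] at h
    rw [e, hinj _ (eq_one_of_smul_eq hG₁.ne_zero h.symm), one_smul]
  have hB'G : B'ᵀ * G₂ * B' = G₂ := by
    have e : B'ᵀ * G₂ * B' = (μ * μ * β) • G₂ := by
      rw [hB', Matrix.transpose_smul, Matrix.smul_mul, Matrix.mul_smul, Matrix.smul_mul, hB, smul_smul, smul_smul]
    have h := sim_pow e r
    rw [hB'r, Matrix.transpose_one, one_mul, mul_one] at h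
    rw [e, hinj _ (eq_one_of_smul_eq hG₂.ne_zero h.symm), one_smul]
  have key : ∀ {n : ℕ} {G M : Matrix (Fin n) (Fin n) F} {ε : F}, IsUnit G → Gᵀ = ε • G → Mᵀ * G * M = G →
      M ^ r = 1 → M ≠ 1 → modulus F r ≤ (M - 1).rank := fun hG hGt hM hMr hne => by
    refine Nat.le_of_dvd (Nat.pos_of_ne_zero fun h0 => hne (sub_eq_zero.1 ?_))
      (modulus_dvd_rank h2 hr hro hG hGt hM hMr)
    rw [Matrix.rank, Submodule.finrank_eq_zero, LinearMap.range_eq_bot] at h0
    exact Matrix.toLin'.injective (by rw [Matrix.toLin'_apply', h0, map_zero])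
  have hAne : A' ≠ 1 := fun h => hAs μ (by rw [← h, hA', smul_smul, mul_inv_cancel₀ hμ0, one_smul])
  have hBne : B' ≠ 1 := fun h => hBs μ⁻¹ (by rw [← h, hB', smul_smul, inv_mul_cancel₀ hμ0, one_smul])
  have hsA := key hG₁ hG₁t hA'G hA'r hAne
  have hsB := key hG₂ hG₂t hB'G hB'r hBne
  have hwA := (A' - 1).rank_le_card_width
  have hwB := (B' - 1).rank_le_card_width
  rw [Fintype.card_fin] at hwA hwB
  obtain ⟨v, hv⟩ := exists_indep_quad hr hA'r (by rw [Fintype.card_fin]; omega) hi3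
    (by rw [Fintype.card_fin]; omega)
  have h := mul_card_le_rank A' B' v hv
  rw [hkron, hR, Fintype.card_fin, Fintype.card_fin] at h
  omega

theorem two_of_rank_le (ha : 2 ≤ a) (hb : 3 ≤ b) {A : Matrix (Fin a) (Fin a) F} {B : Matrix (Fin b) (Fin b) F}
    (h0 : (A ⊗ₖ B - 1).rank ≠ 0) (h : (A ⊗ₖ B - 1).rank ≤ 2) : a = 2 ∧ (A ⊗ₖ B - 1).rank = 2 := by
  by_cases hAs : ∃ α : F, A = α • 1
  · obtain ⟨α, rfl⟩ := hAs
    rw [rank_scalar, Fintype.card_fin] at h h0 ⊢
    have h1 : 1 ≤ (α • B - 1).rank := Nat.pos_of_ne_zero fun e => h0 (by rw [e, mul_zero])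
    have h3 : a ≤ a * (α • B - 1).rank := Nat.le_mul_of_pos_right _ h1
    obtain rfl : a = 2 := by omega
    exact ⟨rfl, by omega⟩
  · push Not at hAs
    have := card_le_rank_of_nonscalar B hAs
    rw [Fintype.card_fin] at this
    omega

end general

section symp

variable {d : ℕ}

local notation "I₂" => Fin d ⊕ Fin d

theorem rank_sub_one_add_fix (x : Matrix I₂ I₂ F) :
    (x - 1).rank + Module.finrank F (fixSp (Matrix.toLin' x)) = 2 * d := by
  rw [rank_sub_one_eq, movSp, fixSp, LinearMap.finrank_range_add_finrank_ker, Module.finrank_fintype_fun_eq_card,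
    Fintype.card_sum, Fintype.card_fin, two_mul]

theorem J_isUnit : IsUnit (Matrix.J (Fin d) F) :=
  (Matrix.isUnit_iff_isUnit_det _).2 (Matrix.isUnit_det_J (Fin d) F)

theorem sp_eq (x : Matrix.symplecticGroup (Fin d) F) :
    (x : Matrix I₂ I₂ F)ᵀ * Matrix.J (Fin d) F * (x : Matrix I₂ I₂ F) = Matrix.J (Fin d) F :=
  SymplecticGroup.mem_iff'.1 x.2

theorem modulus_le (h2 : (2 : F) ≠ 0) {r : ℕ} [Fact r.Prime] (hr : (r : F) ≠ 0) (hro : Odd r)
    (hdvd : r ∣ Nat.card (spGL d F)) : modulus F r ≤ 2 * d := by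
  classical
  haveI : Finite (Matrix.symplecticGroup (Fin d) F) := Finite.of_injective _ Subtype.val_injective
  obtain ⟨y, hy⟩ := exists_prime_orderOf_dvd_card' r (card_spGL (F := F) (d := d) ▸ hdvd)
  have hyr : (y : Matrix I₂ I₂ F) ^ r = 1 := by
    rw [← SubmonoidClass.coe_pow, ← hy, pow_orderOf_eq_one]
    rfl
  have h := modulus_dvd_rank h2 hr hro J_isUnit (ε := -1) (by rw [Matrix.J_transpose, neg_one_smul]) (sp_eq y) hyr
  refine (Nat.le_of_dvd (Nat.pos_of_ne_zero fun h0 => ?_) h).trans (Nat.le.intro (rank_sub_one_add_fix _))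
  rw [Matrix.rank, Submodule.finrank_eq_zero, LinearMap.range_eq_bot] at h0
  have h1 : (y : Matrix I₂ I₂ F) = 1 :=
    sub_eq_zero.1 (Matrix.toLin'.injective (by rw [Matrix.toLin'_apply', h0, map_zero]))
  rw [show y = 1 from Subtype.ext h1, orderOf_one] at hy
  exact (Fact.out : r.Prime).ne_one hy.symm

/-- An element of odd prime order moving as little as possible. -/
theorem exists_witness (h2 : (2 : F) ≠ 0) {r : ℕ} [Fact r.Prime] (hr : (r : F) ≠ 0) (hro : Odd r)
    (hm : modulus F r ≤ 2 * d) :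
    ∃ x ∈ spGL d F, ((x : GL I₂ F) : Matrix I₂ I₂ F) ^ r = 1 ∧
      (((x : GL I₂ F) : Matrix I₂ I₂ F) - 1).rank = modulus F r := by
  classical
  set i := orderOf ((Fintype.card F : ℕ) : ZMod r) with hi
  have hi0 : 0 < i := by
    have h := modulus_pos (F := F) hr
    rcases Nat.eq_zero_or_pos i with h0 | h0
    · rw [modulus, ← hi, h0, Nat.lcm_zero_right] at h; omega
    · exact h0
  have hr0 : r ≠ 0 := (Fact.out : r.Prime).ne_zero
  have hr2 : r ≠ 2 := fun e => by rw [e] at hro; exact Nat.not_even_iff_odd.2 hro ⟨1, rfl⟩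
  have fin : ∀ (y : Matrix.symplecticGroup (Fin d) F) (e : ℕ),
      ((y ^ r : Matrix.symplecticGroup (Fin d) F) : Matrix I₂ I₂ F) = (1 : F) • 1 →
      Module.finrank F (fixSp (Matrix.toLin' (y : Matrix I₂ I₂ F))) = 2 * e → 2 * e + modulus F r = 2 * d →
      ∃ x ∈ spGL d F, ((x : GL I₂ F) : Matrix I₂ I₂ F) ^ r = 1 ∧
          (((x : GL I₂ F) : Matrix I₂ I₂ F) - 1).rank = modulus F r := by
    intro y e hy hfix he
    refine ⟨spToGL F d y, spToGL_mem y, ?_, ?_⟩
    · rw [spToGL_val, ← SubmonoidClass.coe_pow, hy, one_smul]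
    · have h := rank_sub_one_add_fix (y : Matrix I₂ I₂ F)
      rw [hfix] at h
      rw [spToGL_val]
      omega
  rcases Nat.even_or_odd i with ⟨j, hj⟩ | hodd
  · have hmod : modulus F r = i := by rw [modulus, ← hi]; exact Nat.lcm_eq_right ⟨j, by omega⟩
    obtain ⟨P, hP⟩ : (KnownB.PrimeOrder.factors F r).Nonempty := by
      rw [Finset.nonempty_iff_ne_empty]
      intro h0
      have := KnownB.PrimeOrder.card_factors (F := F) (r := r) hr
      rw [h0, Finset.card_empty, zero_mul] at this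
      have := (Fact.out : r.Prime).two_le
      omega
    obtain ⟨y, hy, hfix, -⟩ := exists_sp_selfDual (d := d) (e := d - j) hr hr2 (j := j) (by omega)
      (show orderOf ((Fintype.card F : ℕ) : ZMod r) = 2 * j by omega) (fun _ : Unit => P) (fun _ => hP)
      (by rw [Fintype.card_unit]; omega)
    exact fin y _ hy hfix (by omega)
  · have hmod : modulus F r = 2 * i := by
      rw [modulus, ← hi]; exact Nat.Coprime.lcm_eq_mul (Nat.coprime_two_left.2 hodd)
    obtain ⟨y, hy, hfix⟩ := exists_sp_fixed_dim (d := d) (e := d - i) (N := 1) hr (by rw [← hi]; omega)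
    exact fin y _ hy hfix (by omega)

end symp

end CfsgLib.PrimeOrderSp.TensorRank
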